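import Cfsg.Agent.H54.ChevCtx
import Cfsg.Agent.H52.Order

/-!
The integer matrices of the Weyl group words on the root lattice.
-/

set_option autoImplicit false

open Cfsg.Lie
open scoped MatrixGroups Matrix

namespace H54

namespace Ctx

/-- The fundamental reflection on coefficient vectors. -/
def rmat (D : ChevalleyDatum) (i : Fin D.rank) : Matrix (Fin D.rank) (Fin D.rank) ℤ :=
  fun a b => (if a = b then 1 else 0) - if a = i then D.cartan i.val (D.simple b.val) else 0

/-- The matrix of a word in the fundamental reflections. -/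
def wmat (D : ChevalleyDatum) (L : List (Fin D.rank)) : Matrix (Fin D.rank) (Fin D.rank) ℤ :=
  (L.map (rmat D)).prod

theorem wmat_append (D : ChevalleyDatum) (L L' : List (Fin D.rank)) :
    wmat D (L ++ L') = wmat D L * wmat D L' := by simp [wmat]

variable {D : ChevalleyDatum} (C : Ctx D)

/-- The coefficient vector of a root. -/
def cvec (s : Fin D.nroots) : Fin D.rank → ℤ := fun j => C.T.co s.val j.val

/-- The fundamental root as an index. -/
def simpleF (b : Fin D.rank) : Fin D.nroots := ⟨D.simple b.val, C.hC.simple_lt b.isLt⟩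

theorem cvec_simpleF (b : Fin D.rank) : C.cvec (C.simpleF b) = Pi.single b 1 := by
  funext j
  rw [cvec, simpleF, C.hC.co_simple b.isLt j.isLt, Pi.single_apply]
  simp [Fin.ext_iff]

theorem cvec_injective : Function.Injective C.cvec := fun r s h =>
  Fin.ext (C.hC.co_inj r.isLt s.isLt fun j hj => congrFun h ⟨j, hj⟩)

theorem cvec_negF (s : Fin D.nroots) : C.cvec (C.W.negF s) = - C.cvec s := by
  funext j; exact C.hC.co_neg s.isLt j.isLt

theorem rmat_mulVec (i : Fin D.rank) (s : Fin D.nroots) :
    rmat D i *ᵥ C.cvec s = C.cvec (C.W.sigma i s) := by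
  funext a
  show _ = C.T.co (C.W.sigma i s).val a.val
  rw [C.sigma_val, C.hC.co_reflect i.isLt s.isLt a.isLt]
  simp only [Matrix.mulVec, dotProduct, rmat, sub_mul, ite_mul, one_mul, zero_mul,
    Finset.sum_sub_distrib, Finset.sum_ite_eq, Finset.mem_univ, if_true]
  congr 1
  by_cases h : a = i
  · simp only [h, if_true]
    rw [C.hC.cartan_eq s.isLt i.isLt, Finset.sum_range]
    exact Finset.sum_congr rfl fun m _ => mul_comm _ _
  · rw [if_neg (fun e => h (Fin.ext e))]; simp [h]

theorem wmat_mulVec (L : List (Fin D.rank)) (s : Fin D.nroots) :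
    wmat D L *ᵥ C.cvec s = C.cvec (C.wperm L s) := by
  induction L with
  | nil => simp [wmat, wperm_nil]
  | cons i L ih =>
    rw [wperm_cons, Equiv.Perm.mul_apply, wmat, List.map_cons, List.prod_cons,
      ← Matrix.mulVec_mulVec, ← wmat, ih, rmat_mulVec]

include C in
theorem mat_ext {A B : Matrix (Fin D.rank) (Fin D.rank) ℤ}
    (h : ∀ b, A *ᵥ C.cvec (C.simpleF b) = B *ᵥ C.cvec (C.simpleF b)) : A = B := by
  ext a b
  have := congrFun (h b) a
  simpa [C.cvec_simpleF] using this

theorem wmat_congr {L L' : List (Fin D.rank)} (h : C.wperm L = C.wperm L') :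
    wmat D L = wmat D L' :=
  C.mat_ext fun b => by rw [wmat_mulVec, wmat_mulVec, h]

theorem exists_pow (L : List (Fin D.rank)) :
    ∀ n : ℕ, ∃ L', C.wperm L' = C.wperm L ^ n ∧ wmat D L' = wmat D L ^ n
  | 0 => ⟨[], by simp [wperm_nil], by simp [wmat]⟩
  | n + 1 => by
    obtain ⟨L', h1, h2⟩ := exists_pow L n
    exact ⟨L' ++ L, by rw [wperm_append, h1, pow_succ], by rw [wmat_append, h2, pow_succ]⟩

theorem wmat_pow_mulVec (L : List (Fin D.rank)) (n : ℕ) (s : Fin D.nroots) :
    wmat D L ^ n *ᵥ C.cvec s = C.cvec ((C.wperm L ^ n) s) := by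
  obtain ⟨L', h1, h2⟩ := C.exists_pow L n
  rw [← h1, ← h2, wmat_mulVec]

theorem wmat_pow_eq_one {L : List (Fin D.rank)} {n : ℕ} (h : C.wperm L ^ n = 1) :
    wmat D L ^ n = 1 :=
  C.mat_ext fun b => by rw [wmat_pow_mulVec, h, Matrix.one_mulVec]; rfl

/-- The order of a Weyl group element divides the value of the Poincaré polynomial at one. -/
theorem wperm_pow_eq_one {P : List (List ℤ)}
    (hP : H52.HasPoly C.W.valid (fun _ => (true : Bool) = true) P) {n : ℕ}
    (hn : H52.pEval (1 : ℤ) (H52.pProd P) = n) (L : List (Fin D.rank)) : C.wperm L ^ n = 1 := by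
  obtain ⟨w, hw⟩ := C.W.perm_linear (C.wperm_mem (F := ℚ) L)
  obtain ⟨hfin, hp⟩ := hP
  have hcard : Nat.card ↥(C.W.data.WJ (fun _ => (true : Bool) = true)) = n := by
    have := Fintype.ofFinite ↥(C.W.data.WJ (fun _ => (true : Bool) = true))
    have h1 := hp 1
    rw [H52.wSum, finsum_eq_sum_of_fintype, hn] at h1
    simp only [one_pow, Finset.sum_const, nsmul_eq_mul, mul_one, Finset.card_univ] at h1
    rw [Nat.card_eq_fintype_card]
    exact_mod_cast h1
  have hmem : w ∈ C.W.data.WJ (fun _ => (true : Bool) = true) := by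
    rw [H53.WeylData.WJ_true C.W.valid]; trivial
  have hwn : w ^ n = 1 := by
    have := pow_card_eq_one' (x := (⟨w, hmem⟩ : ↥(C.W.data.WJ fun _ => (true : Bool) = true)))
    rw [hcard] at this
    exact congrArg Subtype.val this
  have hiter : ∀ m : ℕ, ∀ s, H53.WeylData.rho C.W.valid (w ^ m) (C.W.data.v s) =
      C.W.data.v ((C.wperm L ^ m) s) := by
    intro m
    induction m with
    | zero => intro s; simp
    | succ m ih => intro s; rw [pow_succ, map_mul, LinearEquiv.mul_apply, hw, ih, pow_succ]; rfl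
  refine Equiv.ext fun s => C.W.v_inj ?_
  rw [← hiter, hwn, map_one]
  rfl

end Ctx

end H54
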