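import Cfsg.Agent.H54.ChevCentralData

/-!
The centraliser of the short root element `x_{2a+b}(1)` of `G₂` in characteristic 2.
-/

set_option autoImplicit false
set_option linter.unusedSectionVars false

open Cfsg.Lie
open scoped MatrixGroups

namespace H54

namespace Ctx

variable {D : ChevalleyDatum} (C : Ctx D) {F : Type*} [Field F]

include C in
/-- Conjugation when the commutator has one term with odd coefficient. -/
theorem conj_single [CharP F 2] {r s k : ℕ} {m : ℤ} (hr : r < D.nroots) (hs : s < D.nroots)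
    (hrs : s ≠ r) (hneg : s ≠ D.neg r) (hk : k < D.nroots)
    (hw : D.commTerms r s = [(k, m, 1, 1)]) (hm : m % 2 = 1) (hkr : evenComm D k r = true)
    (t u : F) :
    H52.rt D r t * H52.rt D s u * (H52.rt D r t)⁻¹ = H52.rt D s u * H52.rt D k (t * u) := by
  have h := C.hC.comm_rt hr hs hrs hneg t u
  have hm1 : (m : F) = 1 := by
    have h0 : ((m - 1 : ℤ) : F) = 0 := (CharP.intCast_eq_zero_iff F 2 _).2 (by omega)
    push_cast at h0
    exact sub_eq_zero.1 h0
  have e : H52.wordRt D (D.commWord F r s t u) = H52.rt D k (-(t * u)) := by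
    simp [H52.wordRt, ChevalleyDatum.commWord, hw, hm1]
  rw [e] at h
  have hc := C.commute_of_evenComm hk hr hkr (-(t * u)) t
  rw [mul_inv_eq_iff_eq_mul]
  calc H52.rt D r t * H52.rt D s u
      = H52.rt D r t * H52.rt D s u * H52.rt D k (-(t * u)) * H52.rt D k (t * u) := by
        rw [mul_assoc _ (H52.rt D k (-(t * u))), C.hC.rt_mul, neg_add_cancel, C.hC.rt_zero, mul_one]
    _ = H52.rt D s u * H52.rt D r t * H52.rt D k (t * u) := by rw [h]
    _ = _ := by
        rw [mul_assoc, mul_assoc, (C.commute_of_evenComm hk hr hkr (t * u) t).eq]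

include C in
theorem conj_even [CharP F 2] {r s : ℕ} (hr : r < D.nroots) (hs : s < D.nroots)
    (h : evenComm D r s = true) (t u : F) :
    H52.rt D r t * H52.rt D s u * (H52.rt D r t)⁻¹ = H52.rt D s u := by
  rw [(C.commute_of_evenComm hr hs h t u).eq, mul_inv_cancel_right]

end Ctx

section G2

variable (C : Ctx chevG2) {F : Type*} [Field F] [CharP F 2]

/-- The group claimed to be the centraliser of `x_{2a+b}(1)`. -/
def centShortG2 (F : Type*) [Field F] : Subgroup (GL chevG2.Idx F) :=
  Subgroup.closure {g | ∃ (r : ℕ) (c : F), r ∈ [9, 10, 11, 6, 5] ∧ g = H52.rt chevG2 r c}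

omit [CharP F 2] in
theorem rt_mem_centShortG2 {r : ℕ} (hr : r ∈ [9, 10, 11, 6, 5]) (c : F) :
    H52.rt chevG2 r c ∈ centShortG2 F :=
  Subgroup.subset_closure ⟨r, c, hr, rfl⟩

include C in
omit [CharP F 2] in
theorem upper_nine {g : GL chevG2.Idx F} (hg : g ∈ H52.upper chevG2 F 9) :
    ∃ a b c : F, g = H52.rt chevG2 9 a * (H52.rt chevG2 10 b * H52.rt chevG2 11 c) := by
  obtain ⟨t, rfl⟩ := C.hC.exists_upProd (k := 9) (by decide) hg
  refine ⟨t 9, t 10, t 11, ?_⟩
  rw [H52.Checked.upProd_step (k := 9) (by decide), H52.Checked.upProd_step (k := 10) (by decide),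
    H52.Checked.upProd_step (k := 11) (by decide)]
  simp [H52.upProd, H52.wordRt, show chevG2.nroots = 12 by decide]

include C in
/-- The action of `U` on `x_{2a+b}(c)`. -/
theorem pos_conj_nine {u : GL chevG2.Idx F} (hu : u ∈ chevG2.posUnipotent F) :
    ∃ a v w : F, ∃ y ∈ centShortG2 F,
      u = H52.rt chevG2 6 a * (H52.rt chevG2 7 v * (H52.rt chevG2 8 w * y)) ∧
      ∀ c : F, u * H52.rt chevG2 9 c * u⁻¹ = H52.rt chevG2 9 c *
        (H52.rt chevG2 10 (v * c) * H52.rt chevG2 11 (w * c + a * (v * c))) := by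
  rw [C.hC.posUnipotent_eq] at hu
  obtain ⟨t, rfl⟩ := C.hC.exists_upProd le_rfl hu
  rw [show chevG2.nroots / 2 = 6 by decide, H52.Checked.upProd_step (k := 6) (by decide),
    H52.Checked.upProd_step (k := 7) (by decide), H52.Checked.upProd_step (k := 8) (by decide)]
  obtain ⟨a', b', c', hy⟩ := upper_nine C (H52.Checked.upProd_mem (D := chevG2) 9 t)
  refine ⟨t 6, t 7, t 8, H52.upProd chevG2 9 t, ?_, rfl, fun c => ?_⟩
  · rw [hy]
    exact mul_mem (rt_mem_centShortG2 (by simp) _)
      (mul_mem (rt_mem_centShortG2 (by simp) _) (rt_mem_centShortG2 (by simp) _))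
  have h9 : H52.upProd chevG2 9 t * H52.rt chevG2 9 c * (H52.upProd chevG2 9 t)⁻¹ =
      H52.rt chevG2 9 c := by
    rw [hy, mul_inv_eq_iff_eq_mul]
    have h1 := (C.commute_of_evenComm (F := F) (r := 9) (s := 9) (by decide) (by decide)
      (by decide +kernel) a' c)
    have h2 := (C.commute_of_evenComm (F := F) (r := 10) (s := 9) (by decide) (by decide)
      (by decide +kernel) b' c)
    have h3 := (C.commute_of_evenComm (F := F) (r := 11) (s := 9) (by decide) (by decide)
      (by decide +kernel) c' c)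
    exact (h1.mul_left (h2.mul_left h3)).eq
  generalize H52.upProd chevG2 9 t = y at h9 ⊢
  set a := t 6
  set v := t 7
  set w := t 8
  have e : H52.rt chevG2 6 a * (H52.rt chevG2 7 v * (H52.rt chevG2 8 w * y)) * H52.rt chevG2 9 c *
      (H52.rt chevG2 6 a * (H52.rt chevG2 7 v * (H52.rt chevG2 8 w * y)))⁻¹ =
      H52.rt chevG2 6 a * (H52.rt chevG2 7 v * (H52.rt chevG2 8 w * (y * H52.rt chevG2 9 c * y⁻¹) *
        (H52.rt chevG2 8 w)⁻¹) * (H52.rt chevG2 7 v)⁻¹) * (H52.rt chevG2 6 a)⁻¹ := by group
  have cj : ∀ g p q : GL chevG2.Idx F, g * (p * q) * g⁻¹ = (g * p * g⁻¹) * (g * q * g⁻¹) :=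
    fun g p q => by group
  rw [e, h9,
    C.conj_single (r := 8) (s := 9) (k := 11) (m := 3) (by decide) (by decide) (by decide) (by decide +kernel)
      (by decide) (by decide +kernel) (by decide) (by decide +kernel), cj (H52.rt chevG2 7 v),
    C.conj_single (r := 7) (s := 9) (k := 10) (m := 3) (by decide) (by decide) (by decide) (by decide +kernel)
      (by decide) (by decide +kernel) (by decide) (by decide +kernel),
    C.conj_even (r := 7) (s := 11) (by decide) (by decide) (by decide +kernel),
    cj (H52.rt chevG2 6 a), cj (H52.rt chevG2 6 a),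
    C.conj_even (r := 6) (s := 9) (by decide) (by decide) (by decide +kernel),
    C.conj_single (r := 6) (s := 10) (k := 11) (m := 1) (by decide) (by decide) (by decide) (by decide +kernel)
      (by decide) (by decide +kernel) (by decide) (by decide +kernel),
    C.conj_even (r := 6) (s := 11) (by decide) (by decide) (by decide +kernel)]
  simp only [mul_assoc, C.hC.rt_mul]
  rw [add_comm (a * (v * c))]

include C in
theorem centShortG2_le :
    centShortG2 F ≤ chevG2.group F ⊓ Subgroup.centralizer {H52.rt chevG2 9 (1 : F)} := by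
  refine le_inf ((Subgroup.closure_le _).2 ?_) ((Subgroup.closure_le _).2 ?_)
  · rintro g ⟨r, c, -, rfl⟩; exact C.rt_mem_group _ _
  · rintro g ⟨r, c, hr, rfl⟩
    rw [SetLike.mem_coe, Subgroup.mem_centralizer_singleton_iff]
    simp only [List.mem_cons, List.not_mem_nil, or_false] at hr
    rcases hr with rfl | rfl | rfl | rfl | rfl <;>
      exact (C.commute_of_evenComm (by decide) (by decide) (by decide +kernel) c 1).eq

/-- The short roots of `G₂`. -/
def shortG2 (r : ℕ) : Bool := [2, 3, 4, 7, 8, 9].contains r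

theorem shortG2_reflect : ∀ i < chevG2.rank, ∀ r < chevG2.nroots, shortG2 r = true →
    shortG2 (chevG2.reflectRoot i r) = true := by decide +kernel

theorem longG2_reflect : ∀ i < chevG2.rank, ∀ r < chevG2.nroots, (!shortG2 r) = true →
    (!shortG2 (chevG2.reflectRoot i r)) = true := by decide +kernel

theorem g2_lists : ∀ r < chevG2.nroots, 6 ≤ r → (shortG2 r = true → r ∈ [7, 8, 9]) ∧
    ((!shortG2 r) = true → r ∈ [6, 10, 11]) := by decide +kernel

theorem g2_uinv_check : ∀ r < chevG2.nroots, 6 ≤ r → r ≠ 6 →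
    6 ≤ chevG2.reflectRoot 1 r := by decide +kernel

include C in
theorem centralizer_short_G2 :
    chevG2.group F ⊓ Subgroup.centralizer {H52.rt chevG2 9 (1 : F)} = centShortG2 F := by
  refine le_antisymm ?_ (centShortG2_le C)
  intro g hg
  obtain ⟨hgG, hgc⟩ := Subgroup.mem_inf.1 hg
  have hK := fun {z : GL chevG2.Idx F} (hz : z ∈ centShortG2 F) =>
    (Subgroup.mem_inf.1 (centShortG2_le C hz)).2
  obtain ⟨u, hu, t, ht, L, v, hv, rfl⟩ := C.exists_nf hgG
  obtain ⟨au, pu, wu, yu, hyu, hueq, huc⟩ := pos_conj_nine C (inv_mem hu)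
  obtain ⟨av, pv, wv, yv, hyv, hveq, hvc⟩ := pos_conj_nine C (C.uinv_le _ hv)
  obtain ⟨c, rfl⟩ : ∃ c, H52.torus chevG2 c = t := by
    rw [C.hC.diagonalSubgroup_eq] at ht; exact ht
  -- conjugation by the monomial part
  set n := H52.torus chevG2 c * Ctx.nw chevG2 F L with hn
  have hconj : ∀ (r : Fin chevG2.nroots) (z : F), ∃ e : F, (z ≠ 0 → e ≠ 0) ∧
      n * H52.rt chevG2 r.val z * n⁻¹ = H52.rt chevG2 (C.wperm L r).val e := by
    intro r z
    obtain ⟨e, he, h⟩ := C.nw_conj_rt L r z
    refine ⟨((∏ i : Fin chevG2.rank, c i ^ chevG2.cartan i.val (C.wperm L r).val : Fˣ) : F) * ((e : F) * z),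
      fun hz => ?_, ?_⟩
    swap
    · rw [hn, show H52.torus chevG2 c * Ctx.nw chevG2 F L * H52.rt chevG2 r.val z *
          (H52.torus chevG2 c * Ctx.nw chevG2 F L)⁻¹ = H52.torus chevG2 c *
          (Ctx.nw chevG2 F L * H52.rt chevG2 r.val z * (Ctx.nw chevG2 F L)⁻¹) * (H52.torus chevG2 c)⁻¹ by
        group, h]
      exact C.hC.torus_conj_rt c (C.wperm L r).isLt _
    · refine mul_ne_zero (Units.ne_zero _) (mul_ne_zero ?_ hz)
      rcases he with rfl | rfl <;> simp
  rw [Subgroup.mem_centralizer_singleton_iff] at hgc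
  set x := H52.rt chevG2 9 (1 : F) with hx
  have hmain : n * (v * x * v⁻¹) * n⁻¹ = u⁻¹ * x * u⁻¹⁻¹ := by
    have h1 : u * n * v * x = x * (u * n * v) := by rw [hn, ← mul_assoc u]; exact hgc
    calc n * (v * x * v⁻¹) * n⁻¹ = u⁻¹ * (u * n * v * x) * v⁻¹ * n⁻¹ := by group
      _ = u⁻¹ * x * u⁻¹⁻¹ := by rw [h1]; group
  rw [hvc, huc] at hmain
  obtain ⟨e9, he9, hc9⟩ := hconj ⟨9, by decide⟩ 1
  obtain ⟨e10, he10, hc10⟩ := hconj ⟨10, by decide⟩ (pv * 1)
  obtain ⟨e11, -, hc11⟩ := hconj ⟨11, by decide⟩ (wv * 1 + av * (pv * 1))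
  have hlhs : n * (H52.rt chevG2 9 (1 : F) * (H52.rt chevG2 10 (pv * 1) *
      H52.rt chevG2 11 (wv * 1 + av * (pv * 1)))) * n⁻¹ =
      H52.rt chevG2 (C.wperm L ⟨9, by decide⟩).val e9 *
        (H52.rt chevG2 (C.wperm L ⟨10, by decide⟩).val e10 *
          H52.rt chevG2 (C.wperm L ⟨11, by decide⟩).val e11) := by
    rw [← hc9, ← hc10, ← hc11]; group
  rw [hlhs] at hmain
  -- the root goes to a short positive root
  set p9 := C.wperm L ⟨9, by decide⟩ with hp9
  set p10 := C.wperm L ⟨10, by decide⟩ with hp10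
  set p11 := C.wperm L ⟨11, by decide⟩ with hp11
  have hrhs : H52.rt chevG2 p9.val e9 * (H52.rt chevG2 p10.val e10 * H52.rt chevG2 p11.val e11) ∈
      H52.upper chevG2 F 9 := by
    rw [hmain]
    exact mul_mem (H52.Checked.rt_mem_upper le_rfl (by decide) _)
      (mul_mem (H52.Checked.rt_mem_upper (by norm_num) (by decide) _)
        (H52.Checked.rt_mem_upper (by norm_num) (by decide) _))
  have he9' := he9 one_ne_zero
  have hs9 : shortG2 p9.val = true :=
    C.wperm_inv_pred shortG2_reflect L (r := ⟨9, by decide⟩) (by decide)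
  have hl10 : (!shortG2 p10.val) = true :=
    C.wperm_inv_pred (P := fun r => !shortG2 r) longG2_reflect L (r := ⟨10, by decide⟩) (by decide)
  have hl11 : (!shortG2 p11.val) = true :=
    C.wperm_inv_pred (P := fun r => !shortG2 r) longG2_reflect L (r := ⟨11, by decide⟩) (by decide)
  have hne1011 : p10 ≠ p11 := fun e => absurd ((C.wperm L).injective e) (by decide)
  have hU : chevG2.posUnipotent F = H52.upper chevG2 F 6 := by
    rw [C.hC.posUnipotent_eq]; rfl
  have hrhsU : H52.rt chevG2 p9.val e9 * (H52.rt chevG2 p10.val e10 * H52.rt chevG2 p11.val e11) ∈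
      chevG2.posUnipotent F := by
    rw [hU]; exact H52.Checked.upper_anti (by norm_num) hrhs
  -- images of the coefficient-carrying roots are positive
  have hback : ∀ S : GL chevG2.Idx F, S ∈ chevG2.posUnipotent F →
      n * S * n⁻¹ ∈ chevG2.borelSubgroup F ⊓ chevG2.negUnipotent F → S = 1 := by
    intro S _ h
    rw [C.hC.borel_inf_neg, Subgroup.mem_bot] at h
    simpa using h
  have hcomm : ∀ (r s : Fin chevG2.nroots) (a b : F), r.val ∈ [9, 10, 11] → s.val ∈ [9, 10, 11] →
      Commute (H52.rt chevG2 r.val a) (H52.rt chevG2 s.val b) := by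
    intro r s a b hr hs
    refine C.commute_of_evenComm r.isLt s.isLt ?_ a b
    simp only [List.mem_cons, List.not_mem_nil, or_false] at hr hs
    rcases hr with h | h | h <;> rcases hs with h' | h' | h' <;> rw [h, h'] <;> decide +kernel
  have himg : ∀ (r s : Fin chevG2.nroots) (a b : F), r.val ∈ [9, 10, 11] → s.val ∈ [9, 10, 11] →
      ∀ a' b', n * H52.rt chevG2 r.val a * n⁻¹ = H52.rt chevG2 (C.wperm L r).val a' →
      n * H52.rt chevG2 s.val b * n⁻¹ = H52.rt chevG2 (C.wperm L s).val b' →
      Commute (H52.rt chevG2 (C.wperm L r).val a') (H52.rt chevG2 (C.wperm L s).val b') := by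
    intro r s a b hr hs a' b' h1 h2
    have := (hcomm r s a b hr hs).map (MulAut.conj n).toMonoidHom
    simpa [h1, h2] using this
  have k910 := himg _ _ _ _ (by simp) (by simp) _ _ hc9 hc10
  have k911 := himg _ _ _ _ (by simp) (by simp) _ _ hc9 hc11
  have k1011 := himg _ _ _ _ (by simp) (by simp) _ _ hc10 hc11
  have hp9pos : 6 ≤ p9.val := by
    by_contra hlt
    rw [not_le] at hlt
    -- split off the negative part
    have hN9 : H52.rt chevG2 p9.val e9 ∈ chevG2.negUnipotent F :=
      C.hC.rt_mem_neg (by rw [show chevG2.nroots / 2 = 6 from by decide]; exact hlt) _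
    have hpn : ∀ (q : Fin chevG2.nroots) (e : F), (H52.rt chevG2 q.val e ∈ chevG2.posUnipotent F ∧
        6 ≤ q.val) ∨ (H52.rt chevG2 q.val e ∈ chevG2.negUnipotent F ∧ q.val < 6) := by
      intro q e
      by_cases hq : 6 ≤ q.val
      · exact Or.inl ⟨by rw [hU]; exact H52.Checked.rt_mem_upper hq q.isLt _, hq⟩
      · exact Or.inr ⟨C.hC.rt_mem_neg (by rw [show chevG2.nroots / 2 = 6 from by decide]; omega) _,
          not_le.1 hq⟩
    have inB : ∀ z ∈ chevG2.posUnipotent F, z ∈ chevG2.borelSubgroup F :=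
      fun z hz => (le_sup_left : _ ≤ chevG2.borelSubgroup F) hz
    have h9U : ∀ z : F, H52.rt chevG2 9 z ∈ chevG2.posUnipotent F := fun z => by
      rw [hU]; exact H52.Checked.rt_mem_upper (by norm_num) (by decide) _
    have h10U : ∀ z : F, H52.rt chevG2 10 z ∈ chevG2.posUnipotent F := fun z => by
      rw [hU]; exact H52.Checked.rt_mem_upper (by norm_num) (by decide) _
    have h11U : ∀ z : F, H52.rt chevG2 11 z ∈ chevG2.posUnipotent F := fun z => by
      rw [hU]; exact H52.Checked.rt_mem_upper (by norm_num) (by decide) _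
    have hzero : ∀ a b : F,
        H52.rt chevG2 9 (1 : F) * (H52.rt chevG2 10 a * H52.rt chevG2 11 b) ≠ 1 := by
      intro a b h
      have h1 : H52.rt chevG2 9 (1 : F) ∈ H52.upper chevG2 F (9 + 1) := by
        rw [mul_eq_one_iff_eq_inv.1 h]
        exact inv_mem (mul_mem (H52.Checked.rt_mem_upper le_rfl (by decide) _)
          (H52.Checked.rt_mem_upper (by norm_num) (by decide) _))
      exact one_ne_zero (C.hC.rt_mem_upper_succ (by decide) (by decide) h1)
    rcases hpn p10 e10 with ⟨hP10, -⟩ | ⟨hN10, -⟩ <;> rcases hpn p11 e11 with ⟨hP11, -⟩ | ⟨hN11, -⟩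
    · refine hzero 0 0 (hback _ (mul_mem (h9U _) (mul_mem (h10U _) (h11U _))) ?_)
      simp only [C.hC.rt_zero, mul_one]
      rw [hc9]
      refine Subgroup.mem_inf.2 ⟨?_, hN9⟩
      have := mul_mem (inB _ hrhsU) (inv_mem (mul_mem (inB _ hP10) (inB _ hP11)))
      rwa [mul_inv_cancel_right] at this
    · refine hzero 0 (wv * 1 + av * (pv * 1))
        (hback _ (mul_mem (h9U _) (mul_mem (h10U _) (h11U _))) ?_)
      rw [C.hC.rt_zero, one_mul, show n * (H52.rt chevG2 9 (1 : F) *
          H52.rt chevG2 11 (wv * 1 + av * (pv * 1))) * n⁻¹ =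
        H52.rt chevG2 p9.val e9 * H52.rt chevG2 p11.val e11 by rw [← hc9, ← hc11]; group]
      refine Subgroup.mem_inf.2 ⟨?_, mul_mem hN9 hN11⟩
      have := mul_mem (inB _ hrhsU) (inv_mem (inB _ hP10))
      rwa [k1011.eq, ← mul_assoc (H52.rt chevG2 p9.val e9), mul_inv_cancel_right] at this
    · refine hzero (pv * 1) 0 (hback _ (mul_mem (h9U _) (mul_mem (h10U _) (h11U _))) ?_)
      rw [C.hC.rt_zero, mul_one, show n * (H52.rt chevG2 9 (1 : F) *
          H52.rt chevG2 10 (pv * 1)) * n⁻¹ =
        H52.rt chevG2 p9.val e9 * H52.rt chevG2 p10.val e10 by rw [← hc9, ← hc10]; group]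
      refine Subgroup.mem_inf.2 ⟨?_, mul_mem hN9 hN10⟩
      have := mul_mem (inB _ hrhsU) (inv_mem (inB _ hP11))
      rwa [← mul_assoc (H52.rt chevG2 p9.val e9), mul_inv_cancel_right] at this
    · refine hzero (pv * 1) (wv * 1 + av * (pv * 1))
        (hback _ (mul_mem (h9U _) (mul_mem (h10U _) (h11U _))) ?_)
      rw [hlhs]
      exact Subgroup.mem_inf.2 ⟨inB _ hrhsU, mul_mem hN9 (mul_mem hN10 hN11)⟩
  -- it is the root itself
  have hp9eq : p9.val = 9 := by
    have h789 := (g2_lists p9.val p9.isLt hp9pos).1 hs9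
    by_contra hne
    have h78 : p9.val = 7 ∨ p9.val = 8 := by
      simp only [List.mem_cons, List.not_mem_nil, or_false] at h789; omega
    -- the long images can be moved out of the way
    have hlong : ∀ (q : Fin chevG2.nroots) (e : F), (!shortG2 q.val) = true →
        e = 0 ∨ q.val < 6 ∨ q.val = 6 ∨ H52.rt chevG2 q.val e ∈ H52.upper chevG2 F 9 := by
      intro q e hq
      by_cases h6 : 6 ≤ q.val
      · have := (g2_lists q.val q.isLt h6).2 hq
        simp only [List.mem_cons, List.not_mem_nil, or_false] at this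
        rcases this with h | h | h
        · exact Or.inr (Or.inr (Or.inl h))
        all_goals exact Or.inr (Or.inr (Or.inr (H52.Checked.rt_mem_upper (by omega) q.isLt _)))
      · exact Or.inr (Or.inl (not_le.1 h6))
    set e := e9
    have hr9 : H52.rt chevG2 p9.val e ∈ H52.upper chevG2 F 7 :=
      H52.Checked.rt_mem_upper (by omega) p9.isLt _
    have h9pos' : H52.rt chevG2 p9.val e ∈ chevG2.posUnipotent F := by
      rw [hU]; exact H52.Checked.upper_anti (by norm_num) hr9
    -- a negative image carries no coefficient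
    have hnegkill : H52.rt chevG2 p10.val e10 * H52.rt chevG2 p11.val e11 ∈ chevG2.posUnipotent F := by
      have := mul_mem (inv_mem h9pos') hrhsU
      rwa [inv_mul_cancel_left] at this
    have key : ∀ (q q' : Fin chevG2.nroots) (a a' : F), q.val < 6 → 6 ≤ q'.val →
        H52.rt chevG2 q.val a * H52.rt chevG2 q'.val a' ∈ chevG2.posUnipotent F →
        H52.rt chevG2 q.val a = 1 := by
      intro q q' a a' hq hq' h
      have h1 : H52.rt chevG2 q.val a ∈ chevG2.borelSubgroup F ⊓ chevG2.negUnipotent F := by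
        refine Subgroup.mem_inf.2 ⟨?_, C.hC.rt_mem_neg
          (by rw [show chevG2.nroots / 2 = 6 from by decide]; exact hq) _⟩
        refine (le_sup_left : _ ≤ chevG2.borelSubgroup F) ?_
        have hq'' : H52.rt chevG2 q'.val a' ∈ chevG2.posUnipotent F := by
          rw [hU]; exact H52.Checked.rt_mem_upper hq' q'.isLt _
        have := mul_mem h (inv_mem hq'')
        rwa [mul_inv_cancel_right] at this
      rwa [C.hC.borel_inf_neg, Subgroup.mem_bot] at h1
    -- the product of the two long images lies in `x_b(s) ⋅ upper 9`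
    obtain ⟨s, hs⟩ : ∃ s : F, (H52.rt chevG2 6 s)⁻¹ *
        (H52.rt chevG2 p10.val e10 * H52.rt chevG2 p11.val e11) ∈ H52.upper chevG2 F 9 := by
      rcases lt_or_ge p10.val 6 with h10 | h10 <;> rcases lt_or_ge p11.val 6 with h11 | h11
      · refine ⟨0, ?_⟩
        have h1 : H52.rt chevG2 p10.val e10 * H52.rt chevG2 p11.val e11 ∈
            chevG2.borelSubgroup F ⊓ chevG2.negUnipotent F :=
          Subgroup.mem_inf.2 ⟨(le_sup_left : _ ≤ chevG2.borelSubgroup F) hnegkill,
            mul_mem (C.hC.rt_mem_neg (by rw [show chevG2.nroots / 2 = 6 from by decide]; exact h10) _)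
              (C.hC.rt_mem_neg (by rw [show chevG2.nroots / 2 = 6 from by decide]; exact h11) _)⟩
        rw [C.hC.borel_inf_neg, Subgroup.mem_bot] at h1
        rw [h1, C.hC.rt_zero]; simp
      · rw [key p10 p11 _ _ h10 h11 hnegkill, one_mul]
        rcases hlong p11 e11 hl11 with h | h | h | h
        · exact ⟨0, by simp [h, C.hC.rt_zero]⟩
        · omega
        · exact ⟨e11, by simp [h]⟩
        · exact ⟨0, by simpa [C.hC.rt_zero] using h⟩
      · rw [k1011.eq] at hnegkill ⊢
        rw [key p11 p10 _ _ h11 h10 hnegkill, one_mul]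
        rcases hlong p10 e10 hl10 with h | h | h | h
        · exact ⟨0, by simp [h, C.hC.rt_zero]⟩
        · omega
        · refine ⟨e10, ?_⟩
          have q : (H52.rt chevG2 6 e10)⁻¹ * H52.rt chevG2 p10.val e10 ∈ H52.upper chevG2 F 9 := by
            rw [h, inv_mul_cancel]; exact one_mem _
          exact q
        · exact ⟨0, by simpa [C.hC.rt_zero] using h⟩
      · rcases hlong p10 e10 hl10 with h | h | h | h
        · rcases hlong p11 e11 hl11 with h' | h' | h' | h'
          · exact ⟨0, by simp [h, h', C.hC.rt_zero]⟩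
          · omega
          · exact ⟨e11, by simp [h, h', C.hC.rt_zero]⟩
          · exact ⟨0, by simpa [h, C.hC.rt_zero] using h'⟩
        · omega
        · rcases hlong p11 e11 hl11 with h' | h' | h' | h'
          · exact ⟨e10, by simp [h, h', C.hC.rt_zero]⟩
          · omega
          · exact absurd (Fin.ext (h.trans h'.symm)) hne1011
          · exact ⟨e10, by simpa [h] using h'⟩
        · rcases hlong p11 e11 hl11 with h' | h' | h' | h'
          · exact ⟨0, by simpa [h', C.hC.rt_zero] using h⟩
          · omega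
          · refine ⟨e11, ?_⟩
            have q : (H52.rt chevG2 6 e11)⁻¹ * (H52.rt chevG2 p11.val e11 * H52.rt chevG2 p10.val e10) ∈
                H52.upper chevG2 F 9 := by
              rw [h', inv_mul_cancel_left]; exact h
            rw [k1011.eq]; exact q
          · exact ⟨0, by simpa [C.hC.rt_zero] using mul_mem h h'⟩
    -- compare lowest coefficients
    have h7 : H52.rt chevG2 p9.val e * H52.rt chevG2 6 s ∈ H52.upper chevG2 F 9 := by
      have := mul_mem hrhs (inv_mem hs)
      have e' : H52.rt chevG2 p9.val e * (H52.rt chevG2 p10.val e10 * H52.rt chevG2 p11.val e11) *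
          ((H52.rt chevG2 6 s)⁻¹ * (H52.rt chevG2 p10.val e10 * H52.rt chevG2 p11.val e11))⁻¹ =
          H52.rt chevG2 p9.val e * H52.rt chevG2 6 s := by group
      rwa [e'] at this
    have h6 : H52.rt chevG2 6 s ∈ H52.upper chevG2 F (6 + 1) := by
      have := mul_mem (inv_mem hr9) (H52.Checked.upper_anti (show 7 ≤ 9 by norm_num) h7)
      rwa [inv_mul_cancel_left] at this
    rw [C.hC.rt_mem_upper_succ (k := 6) (by decide) (by decide) h6, C.hC.rt_zero, mul_one] at h7
    have : e = 0 := C.hC.rt_mem_upper_succ (k := p9.val)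
      (by rw [show chevG2.nroots / 2 = 6 from by decide]; omega) p9.isLt
      (H52.Checked.upper_anti (by omega) h7)
    exact he9' this
  have hfix : C.wperm L ⟨9, by decide⟩ = ⟨9, by decide⟩ := Fin.ext hp9eq
  obtain ⟨L', hL', hz⟩ := C.exists_stab_word shortG2_reflect (h := ⟨9, by decide⟩) (by decide)
    (by decide +kernel) L hfix
  have hi1 : ∀ i ∈ L', i = (⟨1, by decide⟩ : Fin chevG2.rank) := by
    intro i hi
    have := hz i hi
    rcases (show i.val = 0 ∨ i.val = 1 from by
      have := i.isLt; simp [show chevG2.rank = 2 from by decide] at this; omega) with h | h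
    · exfalso
      have h0 : chevG2.cartan 0 9 = 1 := by decide +kernel
      rw [h] at this
      change chevG2.cartan 0 9 = 0 at this
      omega
    · exact Fin.ext h
  have hL'K : Ctx.nw chevG2 F L' ∈ centShortG2 F := list_prod_mem fun z hz' => by
    obtain ⟨i, hi, rfl⟩ := List.mem_map.1 hz'
    rw [hi1 i hi]
    have e6 : chevG2.simple 1 = 6 := by decide +kernel
    have e5 : chevG2.neg 6 = 5 := by decide +kernel
    change H53.nGL chevG2 (chevG2.simple 1) (1 : F) ∈ centShortG2 F
    rw [H53.nGL, e6, e5]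
    exact mul_mem (mul_mem (rt_mem_centShortG2 (by simp) _) (rt_mem_centShortG2 (by simp) _))
      (rt_mem_centShortG2 (by simp) _)
  have hvK : v ∈ centShortG2 F := by
    refine (Subgroup.closure_le _).2 ?_ hv
    rintro z ⟨r, z', hr, hr', rfl⟩
    have hgen : ∀ (M : List (Fin chevG2.rank)), (∀ i ∈ M, i = (⟨1, by decide⟩ : Fin chevG2.rank)) →
        C.wperm M = 1 ∨ C.wperm M = C.W.sigma ⟨1, by decide⟩ := by
      intro M
      induction M with
      | nil => intro _; exact Or.inl rfl
      | cons i M ih =>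
        intro h
        rw [h i List.mem_cons_self, C.wperm_cons]
        rcases ih (fun j hj => h j (List.mem_cons_of_mem _ hj)) with e | e <;> rw [e]
        · exact Or.inr (mul_one _)
        · exact Or.inl (Equiv.ext fun q => (C.axioms (F := ℚ)).sigma_sigma _ q)
    rw [← hL'] at hr'
    rw [show chevG2.nroots / 2 = 6 from by decide] at hr hr'
    rcases hgen L' hi1 with e | e <;> rw [e] at hr'
    · simp only [Equiv.Perm.one_apply] at hr'; omega
    · rw [C.sigma_val] at hr'
      change chevG2.reflectRoot 1 r.val < 6 at hr'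
      have : r.val = 6 := by
        by_contra hne
        have := g2_uinv_check r.val r.isLt hr hne
        omega
      rw [this]; exact rt_mem_centShortG2 (by simp) _
  set d := H52.torus chevG2 c * (Ctx.nw chevG2 F L * (Ctx.nw chevG2 F L')⁻¹) with hd
  have hdD : d ∈ chevG2.diagonalSubgroup F := by
    refine mul_mem ht ?_
    have h1 : Ctx.nw chevG2 F L * (Ctx.nw chevG2 F L')⁻¹ =
        ((C.nwG L * (C.nwG L')⁻¹ : ↥(chevG2.group F)) : GL chevG2.Idx F) := by
      simp [Ctx.coe_nwG]
    rw [h1, H53.mem_diag_iff C.hC C.W]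
    refine H53.RootGroupSys.mem_H_of_acts_one C.axioms C.sep
      (mul_mem (C.nwG_mem_N L) (inv_mem (C.nwG_mem_N L'))) ?_
    have := H53.RootGroupSys.acts_mul (C.nwG_acts (F := F) L)
      (H53.RootGroupSys.acts_inv (C.nwG_acts (F := F) L'))
    rwa [hL', mul_inv_cancel] at this
  have hud : u * d * x = x * (u * d) := by
    have h1 : u * d ∈ Subgroup.centralizer {x} := by
      have hgc' : u * H52.torus chevG2 c * Ctx.nw chevG2 F L * v ∈ Subgroup.centralizer {x} := by
        rw [Subgroup.mem_centralizer_singleton_iff]; exact hgc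
      have := mul_mem (mul_mem hgc' (inv_mem (hK hvK))) (inv_mem (hK hL'K))
      rw [mul_inv_cancel_right] at this
      rw [hd]
      simpa [mul_assoc] using this
    rwa [Subgroup.mem_centralizer_singleton_iff] at h1
  obtain ⟨c', hc'⟩ : ∃ c', H52.torus chevG2 c' = d := by
    rw [C.hC.diagonalSubgroup_eq] at hdD; exact hdD
  obtain ⟨a1, p1, w1, y1, hy1, hu1, hu1c⟩ := pos_conj_nine C hu
  have h2 : u * (d * x * d⁻¹) * u⁻¹ = x := by
    calc u * (d * x * d⁻¹) * u⁻¹ = u * d * x * (u * d)⁻¹ := by group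
      _ = x := by rw [hud]; group
  rw [← hc', hx, C.hC.torus_conj_rt c' (by decide), mul_one, hu1c] at h2
  set z : F := ((∏ i : Fin chevG2.rank, c' i ^ chevG2.cartan i.val 9 : Fˣ) : F) with hz'
  -- read off the coefficients
  have hcoef : z = 1 ∧ p1 * z = 0 ∧ w1 * z + a1 * (p1 * z) = 0 := by
    have hmk : ∀ x y w : F, H52.rt chevG2 9 x * (H52.rt chevG2 10 y * H52.rt chevG2 11 w) =
        H52.upProd chevG2 9 (fun r => if r = 9 then x else if r = 10 then y else w) := by
      intro x y w
      rw [H52.Checked.upProd_step (k := 9) (by decide), H52.Checked.upProd_step (k := 10) (by decide),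
        H52.Checked.upProd_step (k := 11) (by decide)]
      simp [H52.upProd, H52.wordRt, show chevG2.nroots = 12 by decide]
    have h3 : H52.rt chevG2 9 (1 : F) =
        H52.rt chevG2 9 1 * (H52.rt chevG2 10 0 * H52.rt chevG2 11 0) := by simp [C.hC.rt_zero]
    rw [h3, hmk, hmk] at h2
    have h4 := C.hC.upProd_injective (by decide) h2
    exact ⟨by simpa using h4 9 le_rfl (by decide), by simpa using h4 10 (by norm_num) (by decide),
      by simpa using h4 11 (by norm_num) (by decide)⟩
  obtain ⟨hz1, hp1, hw1⟩ := hcoef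
  rw [hz1, mul_one] at hp1
  rw [hz1, hp1] at hw1
  simp only [mul_one, mul_zero, add_zero] at hw1
  have huK : u ∈ centShortG2 F := by
    rw [hu1, hp1, hw1, C.hC.rt_zero, C.hC.rt_zero, one_mul, one_mul]
    exact mul_mem (rt_mem_centShortG2 (by simp) _) hy1
  have hdK : d ∈ centShortG2 F := by
    have hc0 : c' ⟨0, by decide⟩ = 1 := by
      have h5 : (∏ i : Fin chevG2.rank, c' i ^ chevG2.cartan i.val 9 : Fˣ) = 1 :=
        Units.ext hz1
      rw [Finset.prod_eq_single ⟨0, by decide⟩] at h5
      · rwa [show chevG2.cartan 0 9 = 1 from by decide +kernel, zpow_one] at h5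
      · intro j _ hj
        have : j.val = 1 := by
          have := j.isLt; simp [show chevG2.rank = 2 from by decide] at this
          have : j.val ≠ 0 := fun e => hj (Fin.ext e)
          omega
        rw [this, show chevG2.cartan 1 9 = 0 from by decide +kernel, zpow_zero]
      · simp
    rw [← hc', C.hC.torus_eq_prod]
    refine list_prod_mem fun q hq => ?_
    obtain ⟨i, -, rfl⟩ := List.mem_map.1 hq
    rcases (show i.val = 0 ∨ i.val = 1 from by
      have := i.isLt; simp [show chevG2.rank = 2 from by decide] at this; omega) with h | h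
    · have : i = (⟨0, by decide⟩ : Fin chevG2.rank) := Fin.ext h
      subst this
      rw [hc0]
      have : H52.hElt chevG2 (chevG2.simple 0) ((1 : Fˣ) : F) = 1 := by
        rw [C.hC.hElt_eq_dgR (C.hC.simple_lt (by decide))]
        apply Units.ext
        rw [H52.coe_dgR]
        simp [← Matrix.diagonal_one]
      rw [this]; exact one_mem _
    · refine H52.Checked.wordRt_mem _ _ fun q hq => ?_
      rw [h] at hq
      simp only [ChevalleyDatum.hWord, ChevalleyDatum.nWord, List.mem_append, List.mem_cons,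
        List.not_mem_nil, or_false, show chevG2.simple 1 = 6 from by decide +kernel,
        show chevG2.neg 6 = 5 from by decide +kernel] at hq
      apply rt_mem_centShortG2
      rcases hq with (rfl | rfl | rfl) | (rfl | rfl | rfl) <;> simp
  have hfin : u * H52.torus chevG2 c * Ctx.nw chevG2 F L * v = u * d * Ctx.nw chevG2 F L' * v := by
    rw [hd]; group
  rw [hfin]
  exact mul_mem (mul_mem (mul_mem huK hdK) hL'K) hvK

end G2

end H54
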