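import Cfsg.Agent.H54.ChevCentral

/-!
The table checks for the centralisers of root elements in characteristic 2.
-/

set_option autoImplicit false

open Cfsg.Lie

namespace H54

/-- The short roots of `F₄`. -/
def shortF4 (r : ℕ) : Bool :=
  [3, 7, 8, 9, 10, 11, 12, 13, 14, 18, 19, 20, 27, 28, 29, 33, 34, 35, 36, 37, 38, 39, 40, 44].contains r

theorem centCheck_G2 : centCheck chevG2 11 1 (fun _ => true) = true := by decide +kernel
theorem centCheck_F4_long : centCheck chevF4 47 3 (fun _ => true) = true := by decide +kernel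
theorem centCheck_F4_short : centCheck chevF4 44 0 shortF4 = true := by decide +kernel
theorem centCheck_E6 : centCheck chevE6 71 1 (fun _ => true) = true := by decide +kernel
theorem centCheck_E7 : centCheck chevE7 125 0 (fun _ => true) = true := by decide +kernel
theorem centCheck_E8 : centCheck chevE8 239 7 (fun _ => true) = true := by decide +kernel

end H54

namespace H54

theorem mem_negSimple {n j0 : ℕ} {f : ℕ → ℕ} {l : List ℕ}
    (hl : l = ((List.range n).filter (· != j0)).map f) (s : ℕ) :
    s ∈ l ↔ ∃ j, j < n ∧ j ≠ j0 ∧ s = f j := by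
  subst hl
  constructor
  · intro h
    obtain ⟨j, hj, rfl⟩ := List.mem_map.1 h
    obtain ⟨h1, h2⟩ := List.mem_filter.1 hj
    exact ⟨j, List.mem_range.1 h1, by simpa using h2, rfl⟩
  · rintro ⟨j, h1, h2, rfl⟩
    exact List.mem_map.2 ⟨j, List.mem_filter.2 ⟨List.mem_range.2 h1, by simpa using h2⟩, rfl⟩

end H54
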