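import Cfsg.Agent.H54.ChevCtx
import Cfsg.Agent.H54.ChevGroup
import Mathlib.Algebra.CharP.Lemmas

/-!
Generation by the monomial subgroup and root subgroups of fundamental roots.
-/

set_option autoImplicit false
set_option linter.unusedSectionVars false

open Cfsg.Lie
open scoped MatrixGroups

namespace H54

/-- The fundamental roots `i`, `j` are joined by a single bond. -/
def linkOK (D : ChevalleyDatum) (i j : ℕ) : Bool :=
  D.reflectRoot i (D.reflectRoot j (D.simple i)) == D.simple j

/-- One step along single bonds. -/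
def linkStep (D : ChevalleyDatum) (l : List ℕ) : List ℕ :=
  (List.range D.rank).filter fun j => l.contains j || l.any fun i => linkOK D i j

/-- The fundamental roots connected to those in `seeds` by single bonds. -/
def linkClosure (D : ChevalleyDatum) (seeds : List ℕ) : List ℕ :=
  Nat.rec seeds (fun _ l => linkStep D l) D.rank

/-- Every fundamental root is connected to one in `seeds`. -/
def linkCover (D : ChevalleyDatum) (seeds : List ℕ) : Bool :=
  (List.range D.rank).all fun j => (linkClosure D seeds).contains j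

/-- The root `simple j` is a single commutator term, with coefficient of absolute value `e`, of two images
of `simple i`. -/
def commGen (D : ChevalleyDatum) (e : ℕ) (i j : ℕ) (wr ws : List ℕ) : Bool :=
  decide (i < D.rank) && decide (j < D.rank) && (wr.all fun k => decide (k < D.rank)) &&
    (ws.all fun k => decide (k < D.rank)) &&
    (let r := wr.foldr D.reflectRoot (D.simple i)
     let s := ws.foldr D.reflectRoot (D.simple i)
     r != s && s != D.neg r && match D.commTerms r s with
      | [(k, C, 1, 1)] => k == D.simple j && C.natAbs == e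
      | _ => false)

namespace Ctx

variable {D : ChevalleyDatum} (C : Ctx D) {F : Type*} [Field F] {K : Subgroup (GL D.Idx F)}
  (hN : D.monomialSubgroup F ≤ K)
include C hN

theorem nGL_mem_K {j : ℕ} (hj : j < D.rank) : H53.nGL D (D.simple j) (1 : F) ∈ K :=
  hN ((le_sup_right : _ ≤ D.monomialSubgroup F)
    (Subgroup.subset_closure ⟨D.simple j, C.hC.simple_lt hj, H53.coe_nGL C.hC _ _⟩))

theorem reflect_mem {r : ℕ} (hr : r < D.nroots) (h : ∀ t : F, H52.rt D r t ∈ K) {j : ℕ}
    (hj : j < D.rank) : ∀ t : F, H52.rt D (D.reflectRoot j r) t ∈ K := by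
  intro t
  have hn := C.nGL_mem_K hN hj
  have e : H53.nGL D (D.simple j) (1 : F) * H52.rt D r ((C.T.eps j r : F) * t) *
      (H53.nGL D (D.simple j) (1 : F))⁻¹ = H52.rt D (D.reflectRoot j r) t := by
    rw [mul_inv_eq_iff_eq_mul]
    apply Units.ext
    simp only [Units.val_mul, C.hC.coe_rt, H53.coe_nGL C.hC]
    have := C.hC.sig_mul_x (F := F) hj hr ((C.T.eps j r : F) * t)
    rw [← mul_assoc, H52.Checked.eps_cast_mul_self, one_mul] at this
    exact this
  rw [← e]
  exact mul_mem (mul_mem hn (h _)) (inv_mem hn)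

theorem foldr_mem {r : ℕ} (hr : r < D.nroots) (h : ∀ t : F, H52.rt D r t ∈ K) :
    ∀ w : List ℕ, (∀ k ∈ w, k < D.rank) →
      w.foldr D.reflectRoot r < D.nroots ∧ ∀ t : F, H52.rt D (w.foldr D.reflectRoot r) t ∈ K := by
  intro w
  induction w with
  | nil => exact fun _ => ⟨hr, h⟩
  | cons k w ih =>
    intro hw
    obtain ⟨h1, h2⟩ := ih fun k' hk' => hw k' (List.mem_cons_of_mem _ hk')
    exact ⟨C.hC.reflect_lt (hw k List.mem_cons_self) h1,
      C.reflect_mem hN h1 h2 (hw k List.mem_cons_self)⟩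

theorem link_mem {seeds : List ℕ} (hlt : ∀ i ∈ seeds, i < D.rank)
    (h : ∀ i ∈ seeds, ∀ t : F, H52.rt D (D.simple i) t ∈ K) :
    ∀ j ∈ linkClosure D seeds, j < D.rank ∧ ∀ t : F, H52.rt D (D.simple j) t ∈ K := by
  have key : ∀ n : ℕ, ∀ j ∈ (Nat.rec seeds (fun _ l => linkStep D l) n : List ℕ),
      j < D.rank ∧ ∀ t : F, H52.rt D (D.simple j) t ∈ K := by
    intro n
    induction n with
    | zero => exact fun j hj => ⟨hlt j hj, h j hj⟩
    | succ n ih =>
      intro j hj
      simp only [linkStep, List.mem_filter, List.mem_range, Bool.or_eq_true, List.any_eq_true,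
        List.contains_iff_mem] at hj
      obtain ⟨hjr, hj | ⟨i, hi, hij⟩⟩ := hj
      · exact ih j hj
      · obtain ⟨hir, him⟩ := ih i hi
        refine ⟨hjr, fun t => ?_⟩
        rw [linkOK, beq_iff_eq] at hij
        rw [← hij]
        exact C.reflect_mem hN (C.hC.reflect_lt hjr (C.hC.simple_lt hir))
          (C.reflect_mem hN (C.hC.simple_lt hir) him hjr) hir t
  exact key D.rank

theorem group_le_of_seeds {seeds : List ℕ} (hlt : ∀ i ∈ seeds, i < D.rank)
    (hc : linkCover D seeds = true) (h : ∀ i ∈ seeds, ∀ t : F, H52.rt D (D.simple i) t ∈ K) :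
    D.group F ≤ K := by
  simp only [linkCover, List.all_eq_true, List.mem_range, List.contains_iff_mem] at hc
  rw [group_eq_closure_simple C.hC, Subgroup.closure_le]
  rintro g ⟨j, t, hj, rfl | rfl⟩
  · exact (C.link_mem hN hlt h j (hc j hj)).2 t
  · have h2 := C.reflect_mem hN (C.hC.simple_lt hj) (C.link_mem hN hlt h j (hc j hj)).2 hj t
    rwa [C.hC.reflect_simple hj] at h2

theorem commGen_mem {e i j : ℕ} {wr ws : List ℕ} (hc : commGen D e i j wr ws = true)
    (he : (e : F) ≠ 0) (h : ∀ t : F, H52.rt D (D.simple i) t ∈ K) :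
    j < D.rank ∧ ∀ t : F, H52.rt D (D.simple j) t ∈ K := by
  simp only [commGen, Bool.and_eq_true, decide_eq_true_eq, List.all_eq_true, bne_iff_ne,
    ne_eq] at hc
  obtain ⟨⟨⟨⟨hi, hj⟩, hwr⟩, hws⟩, ⟨hne, hneg⟩, hm⟩ := hc
  obtain ⟨hr, hrK⟩ := C.foldr_mem hN (C.hC.simple_lt hi) h wr hwr
  obtain ⟨hs, hsK⟩ := C.foldr_mem hN (C.hC.simple_lt hi) h ws hws
  set r := wr.foldr D.reflectRoot (D.simple i)
  set s := ws.foldr D.reflectRoot (D.simple i)
  split at hm
  swap
  · simp at hm
  rename_i k c heq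
  simp only [Bool.and_eq_true, beq_iff_eq] at hm
  obtain ⟨rfl, hce⟩ := hm
  refine ⟨hj, fun v => ?_⟩
  have hc0 : (c : F) ≠ 0 := by
    rcases Int.natAbs_eq c with hh | hh <;> rw [hh, hce] <;> simpa using he
  have hcm := C.hC.comm_rt hr hs (fun e' => hne e'.symm) hneg 1 (-v / (c : F))
  have hw : H52.wordRt D (D.commWord F r s 1 (-v / (c : F))) = H52.rt D (D.simple j) v := by
    simp [H52.wordRt, ChevalleyDatum.commWord, heq]
    rw [show -((c : F) * (-v / (c : F))) = v by field_simp]
  rw [hw] at hcm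
  have hv : H52.rt D (D.simple j) v = (H52.rt D s (-v / (c : F)))⁻¹ * (H52.rt D r 1)⁻¹ *
      (H52.rt D s (-v / (c : F)) * H52.rt D r 1) := by
    rw [hcm]; group
  rw [hv]
  exact mul_mem (mul_mem (inv_mem (hsK _)) (inv_mem (hrK _))) (mul_mem (hsK _) (hrK _))

end Ctx

end H54
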