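import Cfsg.Agent.H54.CentralG2
import Mathlib.GroupTheory.PGroup

/-!
Two conjugates of a long root subgroup in characteristic 2.
-/

set_option autoImplicit false
set_option linter.unusedSectionVars false

open Cfsg.Lie
open scoped MatrixGroups

namespace H54

/-- The commutators of the roots `h`, `s` are central in the group generated by both. -/
def pairCheck (D : ChevalleyDatum) (h s : ℕ) : Bool :=
  s != h && h != D.neg s && s != D.neg h &&
    (D.commTerms h s).all fun c => decide (c.1 < D.nroots) && evenComm D c.1 h && evenComm D c.1 s &&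
      (D.commTerms h s).all fun c' => evenComm D c.1 c'.1

/-- The finite conditions for `root_pair`. -/
def rootPairCheck (D : ChevalleyDatum) (P : ℕ → Bool) : Bool :=
  decide (0 < D.nroots) && P (D.nroots - 1) &&
    ((List.range' (D.nroots / 2) (D.nroots - D.nroots / 2)).all fun r =>
      evenComm D r (D.nroots - 1)) &&
    (List.range D.nroots).all fun s => !P s ||
      (((List.range D.rank).all fun i => P (D.reflectRoot i s)) &&
        (s == 0 || s == D.nroots - 1 || pairCheck D (D.nroots - 1) s))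

theorem rootPairCheck_G2 : rootPairCheck chevG2 (fun r => !shortG2 r) = true := by decide +kernel
theorem rootPairCheck_D4 : rootPairCheck chevD4 (fun _ => true) = true := by decide +kernel
theorem rootPairCheck_E6 : rootPairCheck chevE6 (fun _ => true) = true := by decide +kernel
theorem rootPairCheck_E7 : rootPairCheck chevE7 (fun _ => true) = true := by decide +kernel
theorem rootPairCheck_E8 : rootPairCheck chevE8 (fun _ => true) = true := by decide +kernel

/-- Exponent-2 subgroups whose commutators are central generate a 2-group. -/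
theorem isPGroup_two_sup {G : Type*} [Group G] (A B Z : Subgroup G)
    (hA : ∀ a ∈ A, a * a = 1) (hB : ∀ b ∈ B, b * b = 1) (hZ : ∀ z ∈ Z, z * z = 1)
    (hAZ : ∀ a ∈ A, ∀ z ∈ Z, a * z = z * a) (hBZ : ∀ b ∈ B, ∀ z ∈ Z, b * z = z * b)
    (hAB : ∀ a ∈ A, ∀ b ∈ B, ∃ z ∈ Z, b * a = a * b * z) :
    IsPGroup 2 ↥(A ⊔ B) := by
  have mform : ∀ g ∈ A ⊔ B, ∃ a ∈ A, ∃ b ∈ B, ∃ z ∈ Z, g = a * b * z := by
    intro g hg
    rw [Subgroup.sup_eq_closure] at hg
    refine Subgroup.closure_induction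
      (p := fun g _ => ∃ a ∈ A, ∃ b ∈ B, ∃ z ∈ Z, g = a * b * z) ?_
      ⟨1, one_mem _, 1, one_mem _, 1, one_mem _, by simp⟩ ?_ ?_ hg
    · rintro g (hg | hg)
      · exact ⟨g, hg, 1, one_mem _, 1, one_mem _, by simp⟩
      · exact ⟨1, one_mem _, g, hg, 1, one_mem _, by simp⟩
    · rintro _ _ _ _ ⟨a, ha, b, hb, z, hz, rfl⟩ ⟨a', ha', b', hb', z', hz', rfl⟩
      obtain ⟨z'', hz'', he⟩ := hAB a' ha' b hb
      refine ⟨a * a', mul_mem ha ha', b * b', mul_mem hb hb', z'' * z * z',
        mul_mem (mul_mem hz'' hz) hz', ?_⟩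
      calc a * b * z * (a' * b' * z') = a * b * (z * a') * b' * z' := by group
        _ = a * b * (a' * z) * b' * z' := by rw [hAZ a' ha' z hz]
        _ = a * (b * a') * (z * b') * z' := by group
        _ = a * (a' * b * z'') * (b' * z) * z' := by rw [he, hBZ b' hb' z hz]
        _ = a * a' * b * (z'' * b') * z * z' := by group
        _ = a * a' * b * (b' * z'') * z * z' := by rw [hBZ b' hb' z'' hz'']
        _ = _ := by group
    · rintro _ _ ⟨a, ha, b, hb, z, hz, rfl⟩
      obtain ⟨z', hz', he⟩ := hAB a⁻¹ (inv_mem ha) b⁻¹ (inv_mem hb)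
      refine ⟨a⁻¹, inv_mem ha, b⁻¹, inv_mem hb, z' * z⁻¹, mul_mem hz' (inv_mem hz), ?_⟩
      calc (a * b * z)⁻¹ = z⁻¹ * (b⁻¹ * a⁻¹) := by group
        _ = z⁻¹ * (a⁻¹ * b⁻¹ * z') := by rw [he]
        _ = (z⁻¹ * a⁻¹) * b⁻¹ * z' := by group
        _ = (a⁻¹ * z⁻¹) * b⁻¹ * z' := by rw [hAZ _ (inv_mem ha) _ (inv_mem hz)]
        _ = a⁻¹ * (z⁻¹ * b⁻¹) * z' := by group
        _ = a⁻¹ * (b⁻¹ * z⁻¹) * z' := by rw [hBZ _ (inv_mem hb) _ (inv_mem hz)]
        _ = a⁻¹ * b⁻¹ * (z⁻¹ * z') := by group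
        _ = a⁻¹ * b⁻¹ * (z' * z⁻¹) := by
          congr 1
          have h1 : ∀ x ∈ Z, ∀ y ∈ Z, x * y = y * x := fun x hx y hy => by
            have h := hZ _ (mul_mem hx hy)
            calc x * y = (x * y)⁻¹ := (inv_eq_of_mul_eq_one_right h).symm
              _ = y⁻¹ * x⁻¹ := mul_inv_rev x y
              _ = y * x := by rw [inv_eq_of_mul_eq_one_right (hZ y hy), inv_eq_of_mul_eq_one_right (hZ x hx)]
          exact h1 _ (inv_mem hz) _ hz'
  intro g
  obtain ⟨a, ha, b, hb, z, hz, he⟩ := mform g g.2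
  refine ⟨2, Subtype.ext ?_⟩
  obtain ⟨z', hz', he'⟩ := hAB a ha b hb
  have hsq : (g : G) * g ∈ Z := by
    have : (g : G) * g = z' * z * z := by
      rw [he]
      calc a * b * z * (a * b * z) = a * b * (z * a) * b * z := by group
        _ = a * b * (a * z) * b * z := by rw [hAZ a ha z hz]
        _ = a * (b * a) * (z * b) * z := by group
        _ = a * (a * b * z') * (b * z) * z := by rw [he', hBZ b hb z hz]
        _ = (a * a) * b * (z' * b) * z * z := by group
        _ = (a * a) * b * (b * z') * z * z := by rw [hBZ b hb z' hz']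
        _ = (a * a) * (b * b) * z' * z * z := by group
        _ = _ := by rw [hA a ha, hB b hb, one_mul, one_mul]
    rw [this]; exact mul_mem (mul_mem hz' hz) hz
  have h4 := hZ _ hsq
  simp only [SubgroupClass.coe_pow, Subgroup.coe_one]
  calc (g : G) ^ 2 ^ 2 = (g : G) * g * ((g : G) * g) := by
        rw [show 2 ^ 2 = 4 from rfl, pow_succ, pow_succ, pow_succ, pow_one]; group
    _ = 1 := h4

namespace Ctx

variable {D : ChevalleyDatum} (C : Ctx D) {F : Type*} [Field F]

include C in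
theorem mem_rootSubgroup {r : ℕ} {g : GL D.Idx F} :
    g ∈ D.rootSubgroup F r ↔ ∃ t : F, g = H52.rt D r t := by
  constructor
  · intro h
    refine Subgroup.closure_induction (p := fun g _ => ∃ t : F, g = H52.rt D r t) ?_ ?_ ?_ ?_ h
    · rintro g ⟨t, ht⟩; exact ⟨t, C.hC.eq_rt ht⟩
    · exact ⟨0, (C.hC.rt_zero r).symm⟩
    · rintro _ _ _ _ ⟨t, rfl⟩ ⟨u, rfl⟩; exact ⟨t + u, C.hC.rt_mul r t u⟩
    · rintro _ _ ⟨t, rfl⟩; exact ⟨-t, C.hC.rt_inv r t⟩
  · rintro ⟨t, rfl⟩; exact Subgroup.subset_closure ⟨t, C.hC.coe_rt r t⟩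

include C in
theorem map_rootSubgroup {g : GL D.Idx F} {r s : ℕ} {a : F} (ha : a ≠ 0)
    (h : ∀ t, g * H52.rt D r t * g⁻¹ = H52.rt D s (a * t)) :
    (D.rootSubgroup F r).map (MulAut.conj g).toMonoidHom = D.rootSubgroup F s := by
  ext x
  rw [Subgroup.mem_map, C.mem_rootSubgroup]
  constructor
  · rintro ⟨y, hy, rfl⟩
    obtain ⟨t, rfl⟩ := C.mem_rootSubgroup.1 hy
    exact ⟨a * t, h t⟩
  · rintro ⟨t, rfl⟩
    exact ⟨H52.rt D r (a⁻¹ * t), C.mem_rootSubgroup.2 ⟨_, rfl⟩, by
      rw [MulEquiv.coe_toMonoidHom, MulAut.conj_apply, h, mul_inv_cancel_left₀ ha]⟩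

include C in
/-- Two conjugates of the highest root subgroup generate a 2-group or, up to conjugation, are opposite. -/
theorem root_pair [CharP F 2] {P : ℕ → Bool} (hc : rootPairCheck D P = true) {g : GL D.Idx F}
    (hg : g ∈ D.group F) :
    IsPGroup 2 ↥(D.rootSubgroup F (D.nroots - 1) ⊔
        (D.rootSubgroup F (D.nroots - 1)).map (MulAut.conj g).toMonoidHom) ∨
      ∃ h ∈ D.group F, (D.rootSubgroup F (D.nroots - 1) ⊔
          (D.rootSubgroup F (D.nroots - 1)).map (MulAut.conj g).toMonoidHom).map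
            (MulAut.conj h).toMonoidHom =
        D.rootSubgroup F (D.nroots - 1) ⊔ D.rootSubgroup F 0 := by
  simp only [rootPairCheck, Bool.and_eq_true, decide_eq_true_eq, List.all_eq_true, List.mem_range,
    List.mem_range'_1, Bool.or_eq_true, beq_iff_eq, Bool.not_eq_true'] at hc
  obtain ⟨⟨⟨hn, hPh⟩, hpos⟩, hP⟩ := hc
  have hh : D.nroots - 1 < D.nroots := by omega
  set h := D.nroots - 1 with hhd
  have hP' : ∀ i < D.rank, ∀ r < D.nroots, P r = true → P (D.reflectRoot i r) = true :=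
    fun i hi r hr hPr => ((hP r hr).resolve_left (by simp [hPr])).1 i hi
  obtain ⟨u, hu, t, ht, L, v, hv, rfl⟩ := C.exists_nf hg
  obtain ⟨c, rfl⟩ : ∃ c, H52.torus D c = t := by
    rw [C.hC.diagonalSubgroup_eq] at ht; exact ht
  set s := C.wperm L ⟨h, hh⟩ with hs
  have hcent : ∀ w ∈ D.posUnipotent F, ∀ a : F, w * H52.rt D h a * w⁻¹ = H52.rt D h a := by
    intro w hw a
    have hw' : w ∈ Subgroup.centralizer {H52.rt D h a} := by
      refine (Subgroup.closure_le _).2 ?_ hw
      rintro x ⟨r, b, hr, hx⟩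
      obtain ⟨h1, h2⟩ := (C.hC.isPosRoot_iff r).1 hr
      rw [SetLike.mem_coe, Subgroup.mem_centralizer_singleton_iff, C.hC.eq_rt hx]
      exact (C.commute_of_evenComm h2 hh (hpos r ⟨h1, by omega⟩) b a).eq
    rw [Subgroup.mem_centralizer_singleton_iff] at hw'
    rw [hw', mul_inv_cancel_right]
  have hU : ∀ w ∈ D.posUnipotent F,
      (D.rootSubgroup F h).map (MulAut.conj w).toMonoidHom = D.rootSubgroup F h := fun w hw =>
    C.map_rootSubgroup one_ne_zero fun a => by rw [one_mul]; exact hcent w hw a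
  have hX : (D.rootSubgroup F h).map
      (MulAut.conj (u * H52.torus D c * nw D F L * v)).toMonoidHom =
      (D.rootSubgroup F s.val).map (MulAut.conj u).toMonoidHom := by
    obtain ⟨e, he, hconj⟩ := C.nw_conj_rt (F := F) L ⟨h, hh⟩ 1
    have hne : (e : F) ≠ 0 := by rcases he with rfl | rfl <;> simp
    have h1 : (D.rootSubgroup F h).map
        (MulAut.conj (H52.torus D c * nw D F L * v)).toMonoidHom = D.rootSubgroup F s.val := by
      refine C.map_rootSubgroup (a := ((∏ i : Fin D.rank, c i ^ D.cartan i.val s.val : Fˣ) : F) * (e : F))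
        (mul_ne_zero (Units.ne_zero _) hne) fun a => ?_
      obtain ⟨e', he', hconj'⟩ := C.nw_conj_rt (F := F) L ⟨h, hh⟩ a
      have hee : (e' : F) = e := by
        have h2 : ∀ k : ℤ, k = 1 ∨ k = -1 → (k : F) = 1 := by
          rintro k (rfl | rfl)
          · simp
          · simp [CharTwo.neg_eq]
        rw [h2 e he, h2 e' he']
      rw [show H52.torus D c * nw D F L * v * H52.rt D h a * (H52.torus D c * nw D F L * v)⁻¹ =
        H52.torus D c * (nw D F L * (v * H52.rt D h a * v⁻¹) * (nw D F L)⁻¹) * (H52.torus D c)⁻¹ by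
          group, hcent v (C.uinv_le _ hv)]
      change H52.torus D c * (nw D F L * H52.rt D (⟨h, hh⟩ : Fin D.nroots).val a *
        (nw D F L)⁻¹) * (H52.torus D c)⁻¹ = _
      rw [hconj', C.hC.torus_conj_rt c s.isLt, hee, mul_assoc]
    rw [← h1, Subgroup.map_map]
    congr 1
    ext x
    simp [mul_assoc]
  rw [hX]
  have hfac : D.rootSubgroup F h ⊔ (D.rootSubgroup F s.val).map (MulAut.conj u).toMonoidHom =
      (D.rootSubgroup F h ⊔ D.rootSubgroup F s.val).map (MulAut.conj u).toMonoidHom := by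
    rw [Subgroup.map_sup, hU u hu]
  rw [hfac]
  have hPs : P s.val = true := C.wperm_inv_pred hP' L (r := ⟨h, hh⟩) hPh
  rcases ((hP s.val s.isLt).resolve_left (by simp [hPs])).2 with (hs0 | hsh) | hpair
  · right
    refine ⟨u⁻¹, inv_mem (C.pos_le_group hu), ?_⟩
    rw [hs0, Subgroup.map_map]
    conv_rhs => rw [← Subgroup.map_id (D.rootSubgroup F h ⊔ D.rootSubgroup F 0)]
    congr 1
    ext x
    simp [mul_assoc]
  all_goals left
  · refine IsPGroup.map ?_ _
    rw [hsh, sup_idem]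
    intro x
    obtain ⟨a, ha⟩ := C.mem_rootSubgroup.1 x.2
    exact ⟨1, Subtype.ext (by
      rw [pow_one, sq, Subgroup.coe_mul, Subgroup.coe_one, ha, C.hC.rt_mul, CharTwo.add_self_eq_zero,
        C.hC.rt_zero])⟩
  · refine IsPGroup.map ?_ _
    simp only [pairCheck, Bool.and_eq_true, bne_iff_ne, ne_eq, List.all_eq_true,
      decide_eq_true_eq] at hpair
    obtain ⟨⟨⟨hne, -⟩, hneg⟩, hterms⟩ := hpair
    set Z : Subgroup (GL D.Idx F) :=
      Subgroup.closure {x | ∃ c ∈ D.commTerms h s.val, ∃ a : F, x = H52.rt D c.1 a} with hZd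
    have hexp : ∀ r, ∀ x ∈ D.rootSubgroup F r, x * x = 1 := by
      intro r x hx
      obtain ⟨a, rfl⟩ := C.mem_rootSubgroup.1 hx
      rw [C.hC.rt_mul, CharTwo.add_self_eq_zero, C.hC.rt_zero]
    have hZcomm : ∀ r, r < D.nroots → (∀ c ∈ D.commTerms h s.val, evenComm D c.1 r = true) →
        ∀ z ∈ Z, ∀ a : F, Commute z (H52.rt D r a) := by
      intro r hr hev z hz a
      have : z ∈ Subgroup.centralizer {H52.rt D r a} := by
        refine (Subgroup.closure_le _).2 ?_ hz
        rintro x ⟨c, hc, b, rfl⟩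
        rw [SetLike.mem_coe, Subgroup.mem_centralizer_singleton_iff]
        exact (C.commute_of_evenComm (hterms c hc).1.1.1 hr (hev c hc) b a).eq
      exact Subgroup.mem_centralizer_singleton_iff.1 this
    refine isPGroup_two_sup _ _ Z (hexp h) (hexp s.val) ?_ ?_ ?_ ?_
    · intro z hz
      refine (Subgroup.closure_induction (p := fun z _ => z ∈ Z ∧ z * z = 1) ?_ ?_ ?_ ?_ hz).2
      · rintro x ⟨c, hc, a, rfl⟩
        refine ⟨Subgroup.subset_closure ⟨c, hc, a, rfl⟩, ?_⟩
        rw [C.hC.rt_mul, CharTwo.add_self_eq_zero, C.hC.rt_zero]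
      · exact ⟨one_mem _, one_mul _⟩
      · rintro x y hx hy ⟨hxZ, hx2⟩ ⟨hyZ, hy2⟩
        refine ⟨mul_mem hxZ hyZ, ?_⟩
        have hxy : Commute x y := by
          have : x ∈ Subgroup.centralizer (Z : Set (GL D.Idx F)) := by
            refine (Subgroup.closure_le _).2 ?_ hxZ
            rintro w ⟨c, hc, a, rfl⟩
            rw [SetLike.mem_coe, Subgroup.mem_centralizer_iff]
            intro z' hz'
            exact (hZcomm c.1 (hterms c hc).1.1.1
              (fun c' hc' => (hterms c' hc').2 c hc) z' hz' a).eq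
          exact (Subgroup.mem_centralizer_iff.1 this y hyZ).symm
        calc x * y * (x * y) = x * (y * x) * y := by group
          _ = x * (x * y) * y := by rw [hxy.eq]
          _ = (x * x) * (y * y) := by group
          _ = 1 := by rw [hx2, hy2, one_mul]
      · rintro x _ ⟨hxZ, hx2⟩
        exact ⟨inv_mem hxZ, by rw [← mul_inv_rev, hx2, inv_one]⟩
    · intro a ha z hz
      obtain ⟨b, rfl⟩ := C.mem_rootSubgroup.1 ha
      exact (hZcomm h hh (fun c hc => (hterms c hc).1.1.2) z hz b).eq.symm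
    · intro a ha z hz
      obtain ⟨b, rfl⟩ := C.mem_rootSubgroup.1 ha
      exact (hZcomm s.val s.isLt (fun c hc => (hterms c hc).1.2) z hz b).eq.symm
    · intro a ha b hb
      obtain ⟨x, rfl⟩ := C.mem_rootSubgroup.1 ha
      obtain ⟨y, rfl⟩ := C.mem_rootSubgroup.1 hb
      refine ⟨H52.wordRt D (D.commWord F h s.val x y), ?_, C.hC.comm_rt hh s.isLt hne hneg x y⟩
      refine H52.Checked.wordRt_mem _ _ fun p hp => ?_
      simp only [ChevalleyDatum.commWord, List.mem_map] at hp
      obtain ⟨c, hc, rfl⟩ := hp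
      exact Subgroup.subset_closure ⟨c, hc, _, rfl⟩

end Ctx

end H54
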