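import Mathlib

/-!
Eigenvalue multiplicities modulo a prime `r` of an integer matrix of finite order prime to `r`.
-/

set_option autoImplicit false

open Polynomial

namespace H54

namespace CycloMult

theorem dvd_of_dvd_prime_mul {R : Type*} [CommRing R] [IsDomain R] {p g A : R} (hp : Prime p)
    (hg : ¬ p ∣ g) (h : g ∣ p * A) : g ∣ A := by
  obtain ⟨t, ht⟩ := h
  obtain ⟨s, rfl⟩ := ((hp.dvd_or_dvd ⟨A, ht.symm⟩).resolve_left hg)
  exact ⟨s, mul_left_cancel₀ hp.ne_zero (by rw [ht]; ring)⟩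

theorem dvd_of_dvd_pow_mul {R : Type*} [CommRing R] [IsDomain R] {p g A : R} (hp : Prime p)
    (hg : ¬ p ∣ g) : ∀ {k : ℕ}, g ∣ p ^ k * A → g ∣ A
  | 0, h => by simpa using h
  | k + 1, h => dvd_of_dvd_pow_mul hp hg (k := k)
      (dvd_of_dvd_prime_mul hp hg (by rwa [← mul_assoc, ← pow_succ']))

variable {l : ℕ}

/-- The characteristic polynomial of a matrix of finite order. -/
theorem charpoly_dvd (M : Matrix (Fin l) (Fin l) ℤ) {N : ℕ} (hN : 0 < N) (hM : M ^ N = 1) :
    M.charpoly ∣ (X ^ N - 1) ^ l := by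
  rcases Nat.eq_zero_or_pos l with rfl | hl
  · rw [Matrix.charpoly_isEmpty, pow_zero]
  have : Nonempty (Fin l) := ⟨⟨0, hl⟩⟩
  refine (Polynomial.map_dvd_map (Int.castRingHom ℂ) Int.cast_injective
    (Matrix.charpoly_monic M)).1 ?_
  set A := M.map (Int.castRingHom ℂ) with hA
  have hA1 : A ^ N = 1 := by
    rw [hA, ← RingHom.mapMatrix_apply, ← map_pow, hM, map_one]
  rw [← Matrix.charpoly_map, ← hA, Polynomial.map_pow, Polynomial.map_sub, Polynomial.map_pow,
    Polynomial.map_X, Polynomial.map_one]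
  have hs : A.charpoly.Splits := IsAlgClosed.splits _
  rw [hs.eq_prod_roots_of_monic (Matrix.charpoly_monic A)]
  have hroot : ∀ x ∈ A.charpoly.roots, x ^ N = 1 := fun x hx => by
    have h1 : x ∈ spectrum ℂ A := Matrix.mem_spectrum_iff_isRoot_charpoly.2 (isRoot_of_mem_roots hx)
    have h2 := spectrum.pow_mem_pow A N h1
    rw [hA1, spectrum.one_eq] at h2
    exact h2
  have hcard : A.charpoly.roots.card ≤ l := by
    have := A.charpoly.card_roots'
    rwa [Matrix.charpoly_natDegree_eq_dim, Fintype.card_fin] at this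
  refine dvd_trans ?_ (pow_dvd_pow _ hcard)
  clear hs hcard
  generalize A.charpoly.roots = s at hroot
  induction s using Multiset.induction_on with
  | empty => simp
  | cons a s ih =>
    rw [Multiset.map_cons, Multiset.prod_cons, Multiset.card_cons, pow_succ']
    refine mul_dvd_mul (dvd_iff_isRoot.2 ?_) (ih fun x hx => hroot x (Multiset.mem_cons_of_mem hx))
    simp [IsRoot, hroot a (Multiset.mem_cons_self _ _)]

/-- A polynomial with the same roots as the characteristic polynomial annihilates a matrix of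
finite order prime to the characteristic. -/
theorem aeval_eq_zero {k : Type*} [Field k] (A : Matrix (Fin l) (Fin l) k) {N : ℕ}
    (hN : (N : k) ≠ 0) (hA : A ^ N = 1) {S : k[X]} {n : ℕ} (h : A.charpoly ∣ S ^ n) :
    aeval A S = 0 := by
  classical
  set g := EuclideanDomain.gcd A.charpoly (X ^ N - 1 : k[X]) with hg
  have hsep : (X ^ N - 1 : k[X]).Separable := by
    rw [← C_1]; exact separable_X_pow_sub_C 1 hN one_ne_zero
  have hsq : Squarefree g :=
    (hsep.of_dvd (EuclideanDomain.gcd_dvd_right _ _)).squarefree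
  have h1 : g ∣ S ^ (n + 1) :=
    (EuclideanDomain.gcd_dvd_left _ _).trans (h.trans (pow_dvd_pow _ (Nat.le_succ n)))
  obtain ⟨t, ht⟩ := (hsq.dvd_pow_iff_dvd n.succ_ne_zero).1 h1
  have hg0 : aeval A g = 0 := by
    rw [hg, EuclideanDomain.gcd_eq_gcd_ab, map_add, map_mul, map_mul, Matrix.aeval_self_charpoly,
      zero_mul, zero_add]
    simp [hA]
  rw [ht, map_mul, hg0, zero_mul]

variable {r : ℕ} [hr : Fact r.Prime]

/-- The multiplicity of an element of order `d` is the exponent of the `d`-th cyclotomic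
polynomial. -/
theorem exists_split (M : Matrix (Fin l) (Fin l) ℤ) {N : ℕ} (hN : ¬ r ∣ N) (hM : M ^ N = 1)
    (c : ZMod r) {d : ℕ} (hd : 0 < d) (hc : orderOf c = d) :
    ∃ R : ℤ[X], R.Monic ∧ R ∣ (X ^ N - 1) ^ l ∧ ¬ cyclotomic d ℤ ∣ R ∧
      ¬ (R.map (Int.castRingHom (ZMod r))).IsRoot c ∧
      M.charpoly = cyclotomic d ℤ ^
        ((M.map (Int.castRingHom (ZMod r))).charpoly.rootMultiplicity c) * R ∧
      (M.map (Int.castRingHom (ZMod r))).charpoly.rootMultiplicity c * d.totient + R.natDegree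
        = l := by
  classical
  have hN0 : 0 < N := Nat.pos_of_ne_zero fun h => hN (h ▸ dvd_zero r)
  have hcp : IsPrimitiveRoot c d := hc ▸ IsPrimitiveRoot.orderOf c
  have hc0 : c ≠ 0 := by
    rintro rfl
    exact zero_ne_one ((zero_pow hd.ne').symm.trans hcp.pow_eq_one)
  have hrd : ¬ r ∣ d := fun h => by
    have h1 : d ∣ r - 1 := hc ▸ ZMod.orderOf_dvd_card_sub_one hc0
    have h2 := Nat.le_of_dvd (by have := hr.out.two_le; omega) (h.trans h1)
    have := hr.out.two_le
    omega
  have : NeZero (d : ZMod r) := ⟨fun h => hrd ((ZMod.natCast_eq_zero_iff _ _).1 h)⟩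
  have hΦ : Prime (cyclotomic d ℤ) := (cyclotomic.irreducible hd).prime
  obtain ⟨b, R, hR, hMR⟩ :=
    WfDvdMonoid.max_power_factor (Matrix.charpoly_monic M).ne_zero hΦ.irreducible
  have hΦm : (cyclotomic d ℤ ^ b).Monic := (cyclotomic.monic d ℤ).pow b
  have hRm : R.Monic := hΦm.of_mul_monic_left (hMR ▸ Matrix.charpoly_monic M)
  have hRX : R ∣ (X ^ N - 1) ^ l :=
    (dvd_mul_left R _).trans (hMR ▸ charpoly_dvd M hN0 hM)
  have hRc : ¬ (R.map (Int.castRingHom (ZMod r))).IsRoot c := by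
    intro hroot
    set P := ∏ k ∈ N.divisors.erase d, cyclotomic k ℤ with hP
    have hdiv : (X ^ N - 1 : ℤ[X]) ∣ cyclotomic d ℤ * P := by
      rw [← prod_cyclotomic_eq_X_pow_sub_one hN0 ℤ]
      by_cases h : d ∈ N.divisors
      · rw [hP, Finset.mul_prod_erase _ (fun k => cyclotomic k ℤ) h]
      · rw [hP, Finset.erase_eq_of_notMem h]; exact dvd_mul_left _ _
    have h1 : R ∣ cyclotomic d ℤ ^ l * P ^ l := by
      rw [← mul_pow]; exact hRX.trans (pow_dvd_pow_of_dvd hdiv l)
    have h2 : (R.map (Int.castRingHom (ZMod r))) ∣ (P ^ l).map (Int.castRingHom (ZMod r)) :=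
      Polynomial.map_dvd _ (dvd_of_dvd_pow_mul hΦ hR h1)
    have h3 := hroot.dvd h2
    rw [IsRoot, Polynomial.map_pow, eval_pow] at h3
    have h4 := eq_zero_of_pow_eq_zero h3
    rw [hP, Polynomial.map_prod, eval_prod, Finset.prod_eq_zero_iff] at h4
    obtain ⟨k, hk, hk0⟩ := h4
    obtain ⟨hkd, hk⟩ := Finset.mem_erase.1 hk
    rw [map_cyclotomic] at hk0
    have : NeZero (k : ZMod r) :=
      ⟨fun h => hN (((ZMod.natCast_eq_zero_iff _ _).1 h).trans (Nat.dvd_of_mem_divisors hk))⟩
    exact hkd ((isRoot_cyclotomic_iff.1 hk0).eq_orderOf.trans hc)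
  have hmult : (M.map (Int.castRingHom (ZMod r))).charpoly.rootMultiplicity c = b := by
    have hne : ((cyclotomic d ℤ ^ b).map (Int.castRingHom (ZMod r))) *
        R.map (Int.castRingHom (ZMod r)) ≠ 0 :=
      mul_ne_zero (hΦm.map _).ne_zero (hRm.map _).ne_zero
    rw [Matrix.charpoly_map, hMR, Polynomial.map_mul, rootMultiplicity_mul hne,
      rootMultiplicity_eq_zero hRc, add_zero, Polynomial.map_pow, map_cyclotomic, ← count_roots,
      roots_pow, Multiset.count_nsmul, count_roots]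
    have hroot : (cyclotomic d (ZMod r)).IsRoot c := isRoot_cyclotomic_iff.2 hcp
    have h1 := (rootMultiplicity_pos (cyclotomic_ne_zero d (ZMod r))).2 hroot
    have h2 := rootMultiplicity_le_one_of_separable (separable_cyclotomic d (ZMod r)) c
    rw [le_antisymm h2 h1, mul_one]
  refine ⟨R, hRm, hRX, hR, hRc, hmult.symm ▸ hMR, ?_⟩
  have := congrArg natDegree hMR
  rw [Matrix.charpoly_natDegree_eq_dim, Fintype.card_fin, hΦm.natDegree_mul hRm,
    (cyclotomic.monic d ℤ).natDegree_pow, natDegree_cyclotomic] at this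
  rw [hmult, this]

theorem mult_mul_totient_le (M : Matrix (Fin l) (Fin l) ℤ) {N : ℕ} (hN : ¬ r ∣ N) (hM : M ^ N = 1)
    (c : ZMod r) {d : ℕ} (hd : 0 < d) (hc : orderOf c = d) :
    (M.map (Int.castRingHom (ZMod r))).charpoly.rootMultiplicity c * d.totient ≤ l := by
  obtain ⟨R, -, -, -, -, -, h⟩ := exists_split M hN hM c hd hc
  omega

/-- The eigenvectors of an eigenvalue. -/
theorem card_eigen_le {k : Type*} [Field k] [Finite k] (A : Matrix (Fin l) (Fin l) k) (c : k) :
    Nat.card {v : Fin l → k // A.vecMul v = c • v} ≤ Nat.card k ^ A.charpoly.rootMultiplicity c := by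
  have h := LinearMap.finrank_eigenspace_le (Matrix.toLin' A.transpose) c
  rw [Matrix.charpoly_toLin', Matrix.charpoly_transpose] at h
  have e : {v : Fin l → k // A.vecMul v = c • v} ≃
      ↥(Module.End.eigenspace (Matrix.toLin' A.transpose) c) :=
    Equiv.subtypeEquivRight fun v => by
      rw [Module.End.mem_eigenspace_iff, Matrix.toLin'_apply, Matrix.mulVec_transpose]
  rw [Nat.card_congr e, Module.natCard_eq_pow_finrank (K := k)]
  exact Nat.pow_le_pow_right Nat.card_pos h

end CycloMult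

end H54
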