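import Mathlib

/-!
A lattice lemma for the root lattice of type E7: no isometry `M` killed by `Φ₁₂(X) (X² + 1) (X - 1)` has a
one-dimensional space of fixed vectors.
-/

set_option autoImplicit false

open Matrix

namespace H54

namespace E7Lat

/-- The Gram matrix. -/
def egram : Matrix (Fin 7) (Fin 7) ℤ :=
  !![2, 0, -1, 0, 0, 0, 0; 0, 2, 0, -1, 0, 0, 0; -1, 0, 2, -1, 0, 0, 0; 0, -1, -1, 2, -1, 0, 0;
    0, 0, 0, -1, 2, -1, 0; 0, 0, 0, 0, -1, 2, -1; 0, 0, 0, 0, 0, -1, 2]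

/-- Twice the inverse of the Gram matrix. -/
def ginv : Matrix (Fin 7) (Fin 7) ℤ :=
  !![4, 4, 6, 8, 6, 4, 2; 4, 7, 8, 12, 9, 6, 3; 6, 8, 12, 16, 12, 8, 4; 8, 12, 16, 24, 18, 12, 6;
    6, 9, 12, 18, 15, 10, 5; 4, 6, 8, 12, 10, 8, 4; 2, 3, 4, 6, 5, 4, 3]

theorem ginv_mul : ∀ i j : Fin 7, (ginv * egram) i j = if i = j then 2 else 0 := by decide +kernel

theorem gram_symm (i j : Fin 7) : egram i j = egram j i := by
  fin_cases i <;> fin_cases j <;> rfl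

/-- The inner product. -/
def ip (u v : Fin 7 → ℤ) : ℤ := u ⬝ᵥ egram *ᵥ v

theorem ip_symm (u v : Fin 7 → ℤ) : ip u v = ip v u := by
  have hT : egramᵀ = egram := Matrix.ext fun i j => gram_symm j i
  rw [ip, ip, Matrix.dotProduct_mulVec, dotProduct_comm, ← Matrix.mulVec_transpose, hT]

theorem ip_add_left (u u' v : Fin 7 → ℤ) : ip (u + u') v = ip u v + ip u' v := add_dotProduct _ _ _

theorem ip_sub_left (u u' v : Fin 7 → ℤ) : ip (u - u') v = ip u v - ip u' v := sub_dotProduct _ _ _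

theorem ip_self_eq (b : Fin 7 → ℤ) : ip b b = 2 * b 0 ^ 2 + 2 * b 1 ^ 2 + 2 * b 2 ^ 2 + 2 * b 3 ^ 2 +
    2 * b 4 ^ 2 + 2 * b 5 ^ 2 + 2 * b 6 ^ 2 - 2 * (b 0 * b 2) - 2 * (b 1 * b 3) - 2 * (b 2 * b 3) -
    2 * (b 3 * b 4) - 2 * (b 4 * b 5) - 2 * (b 5 * b 6) := by
  simp [ip, egram, dotProduct, Matrix.mulVec, Fin.sum_univ_seven]
  ring

theorem ip_self_nonneg (b : Fin 7 → ℤ) : 0 ≤ ip b b := by
  rw [ip_self_eq]
  nlinarith [sq_nonneg (2 * b 0 - b 2), sq_nonneg (2 * b 1 - b 3), sq_nonneg (3 * b 2 - 2 * b 3),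
    sq_nonneg (5 * b 3 - 6 * b 4), sq_nonneg (4 * b 4 - 5 * b 5), sq_nonneg (3 * b 5 - 4 * b 6),
    sq_nonneg (b 6)]

theorem ip_self_even (b : Fin 7 → ℤ) : 2 ∣ ip b b := by
  rw [ip_self_eq]
  exact ⟨b 0 ^ 2 + b 1 ^ 2 + b 2 ^ 2 + b 3 ^ 2 + b 4 ^ 2 + b 5 ^ 2 + b 6 ^ 2 - b 0 * b 2 - b 1 * b 3 -
    b 2 * b 3 - b 3 * b 4 - b 4 * b 5 - b 5 * b 6, by ring⟩

theorem radical_mod_two : ∀ v : Fin 7 → ZMod 2, (∀ j, (egram.map (Int.castRingHom (ZMod 2)) *ᵥ v) j = 0) →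
    v = 0 ∨ v = ![0, 1, 0, 0, 1, 0, 1] := by decide +kernel

/-- `Φ₁₂(M) u`. -/
def phi (M : Matrix (Fin 7) (Fin 7) ℤ) (u : Fin 7 → ℤ) : Fin 7 → ℤ :=
  M *ᵥ M *ᵥ M *ᵥ M *ᵥ u - M *ᵥ M *ᵥ u + u

/-- There is no isometry with these properties. -/
theorem no_isometry (M : Matrix (Fin 7) (Fin 7) ℤ) (hM : Mᵀ * egram * M = egram)
    (hann : (M ^ 4 - M ^ 2 + 1) * (M ^ 2 + 1) * (M - 1) = 0)
    (hex : ∃ f : Fin 7 → ℤ, f ≠ 0 ∧ M *ᵥ f = f)
    (hone : ∀ f g : Fin 7 → ℤ, M *ᵥ f = f → M *ᵥ g = g → g ≠ 0 → ∃ t : ℚ, ∀ i, (f i : ℚ) = t * g i) :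
    False := by
  classical
  obtain ⟨f, hf0, hf⟩ := hex
  obtain ⟨b, hfb, hgcd⟩ := Finset.extract_gcd f (Finset.univ_nonempty (α := Fin 7))
  have hg0 : Finset.univ.gcd f ≠ 0 := fun h => hf0 (funext fun i => by
    rw [hfb i (Finset.mem_univ _), h, zero_mul]; rfl)
  have hbfix : M *ᵥ b = b := by
    have hsm : f = (Finset.univ.gcd f) • b := funext fun i => hfb i (Finset.mem_univ _)
    rw [hsm, Matrix.mulVec_smul] at hf
    exact funext fun i => mul_left_cancel₀ hg0 (congrFun hf i)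
  have hb0 : b ≠ 0 := fun h => hf0 (funext fun i => by
    rw [hfb i (Finset.mem_univ _), congrFun h i]; simp)
  have iso : ∀ u v, ip (M *ᵥ u) (M *ᵥ v) = ip u v := fun u v => by
    rw [ip, ip, Matrix.dotProduct_mulVec, Matrix.vecMul_mulVec, ← Matrix.dotProduct_mulVec,
      Matrix.mulVec_mulVec, hM]
  have isob : ∀ u, ip (M *ᵥ u) b = ip u b := fun u => by
    conv_lhs => rw [← hbfix]
    exact iso u b
  -- the key identity
  have key : ∀ u, ip b b ∣ ip u b ^ 2 := by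
    intro u
    set y := phi M u with hy
    have hyb : ip y b = ip u b := by
      rw [hy, phi, ip_add_left, ip_sub_left]
      simp only [isob]
      ring
    set w := M *ᵥ M *ᵥ y + y with hw
    have hwfix : M *ᵥ w = w := by
      have h : ((M ^ 4 - M ^ 2 + 1) * (M ^ 2 + 1) * (M - 1)) *ᵥ u = 0 := by
        rw [hann, Matrix.zero_mulVec]
      have e : (M ^ 4 - M ^ 2 + 1) * (M ^ 2 + 1) * (M - 1) =
          (M - 1) * ((M ^ 2 + 1) * (M ^ 4 - M ^ 2 + 1)) := by noncomm_ring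
      rw [e, ← Matrix.mulVec_mulVec, ← Matrix.mulVec_mulVec, Matrix.sub_mulVec, Matrix.one_mulVec,
        sub_eq_zero] at h
      have e2 : (M ^ 2 + 1) *ᵥ ((M ^ 4 - M ^ 2 + 1) *ᵥ u) = w := by
        simp only [hw, hy, phi, pow_succ, pow_zero, one_mul, Matrix.add_mulVec, Matrix.sub_mulVec,
          Matrix.one_mulVec, ← Matrix.mulVec_mulVec]
      rwa [e2] at h
    obtain ⟨t, ht⟩ := hone w b hwfix hbfix hb0
    have hlin : ∀ v, (ip w v : ℚ) = t * (ip b v : ℚ) := fun v => by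
      simp only [ip, dotProduct, Int.cast_sum, Int.cast_mul, ht, Finset.mul_sum]
      exact Finset.sum_congr rfl fun i _ => by ring
    have h1 : ip w b = 2 * ip y b := by
      rw [hw, ip_add_left, isob, isob]; ring
    have h2 : ip w (M *ᵥ y) = 2 * ip y (M *ᵥ y) := by
      rw [hw, ip_add_left, iso, ip_symm (M *ᵥ y) y]; ring
    have h3 : ip b (M *ᵥ y) = ip y b := by rw [ip_symm, isob]
    have q1 := hlin b
    have q2 := hlin (M *ᵥ y)
    rw [h1] at q1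
    rw [h2, h3] at q2
    push_cast at q1 q2
    refine ⟨ip y (M *ᵥ y), ?_⟩
    rw [← hyb]
    have : ((ip y b : ℚ)) ^ 2 = (ip b b : ℚ) * (ip y (M *ᵥ y) : ℚ) := by
      linear_combination ((ip y b : ℚ) / 2) * q1 - ((ip b b : ℚ) / 2) * q2
    exact_mod_cast this
  have hpair : ∀ j, ip (Pi.single j 1) b = (egram *ᵥ b) j := fun j => by simp [ip]
  by_cases hodd : ∃ j, ¬ 2 ∣ (egram *ᵥ b) j
  · obtain ⟨j, hj⟩ := hodd
    have h := (ip_self_even b).trans (key (Pi.single j 1))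
    rw [hpair] at h
    exact hj (Int.prime_two.dvd_of_dvd_pow h)
  push Not at hodd
  -- `b` is congruent to the radical vector modulo 2
  set v : Fin 7 → ZMod 2 := fun i => (b i : ZMod 2) with hv
  have hker : ∀ j, (egram.map (Int.castRingHom (ZMod 2)) *ᵥ v) j = 0 := fun j => by
    have := (ZMod.intCast_zmod_eq_zero_iff_dvd _ 2).2 (hodd j)
    rw [← this]
    exact (RingHom.map_mulVec (Int.castRingHom (ZMod 2)) egram b j).symm
  have hprim : ∀ p : ℕ, p.Prime → ∃ i, ¬ (p : ℤ) ∣ b i := by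
    intro p hp
    by_contra hall
    push Not at hall
    have h1 : (p : ℤ) ∣ Finset.univ.gcd b := Finset.dvd_gcd fun i _ => hall i
    rw [hgcd] at h1
    exact hp.one_lt.ne' (Nat.eq_one_of_dvd_one (by exact_mod_cast h1))
  rcases radical_mod_two v hker with h0 | h0
  · obtain ⟨i, hi⟩ := hprim 2 Nat.prime_two
    exact hi ((ZMod.intCast_zmod_eq_zero_iff_dvd _ 2).1 (congrFun h0 i))
  have hev : ∀ i : Fin 7, ∃ k, b i = (![0, 1, 0, 0, 1, 0, 1] : Fin 7 → ℤ) i + 2 * k := by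
    intro i
    have h1 : ((b i - (![0, 1, 0, 0, 1, 0, 1] : Fin 7 → ℤ) i : ℤ) : ZMod 2) = 0 := by
      rw [Int.cast_sub, show (b i : ZMod 2) = (![0, 1, 0, 0, 1, 0, 1] : Fin 7 → ZMod 2) i from congrFun h0 i]
      revert i
      decide
    obtain ⟨k, hk⟩ := (ZMod.intCast_zmod_eq_zero_iff_dvd _ 2).1 h1
    exact ⟨k, by push_cast at hk; linarith⟩
  choose k hk using hev
  have h8 : ∃ z : ℤ, ip b b = 2 * (4 * z + 3) := by
    refine ⟨k 0 ^ 2 + k 1 ^ 2 + k 2 ^ 2 + k 3 ^ 2 + k 4 ^ 2 + k 5 ^ 2 + k 6 ^ 2 - k 0 * k 2 - k 1 * k 3 -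
      k 2 * k 3 - k 3 * k 4 - k 4 * k 5 - k 5 * k 6 + k 1 + k 4 + k 6 - k 3 - k 5, ?_⟩
    have e : ip b b = _ := ip_self_eq b
    rw [e, hk 0, hk 1, hk 2, hk 3, hk 4, hk 5, hk 6]
    simp
    ring
  obtain ⟨z, hz⟩ := h8
  have hm : (4 * z + 3).natAbs ≠ 1 := by
    have := ip_self_nonneg b
    omega
  obtain ⟨p, hp, hpm⟩ := Nat.exists_prime_and_dvd hm
  have hpm' : (p : ℤ) ∣ 4 * z + 3 := Int.natCast_dvd.2 hpm
  have hp2 : p ≠ 2 := by
    rintro rfl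
    obtain ⟨c, hc⟩ := hpm'
    push_cast at hc
    omega
  have hpP : Prime (p : ℤ) := Nat.prime_iff_prime_int.1 hp
  have hGb : ∀ j, (p : ℤ) ∣ (egram *ᵥ b) j := fun j => by
    have h := key (Pi.single j 1)
    rw [hpair, hz] at h
    exact hpP.dvd_of_dvd_pow ((hpm'.mul_left 2).trans h)
  obtain ⟨i, hi⟩ := hprim p hp
  have h2b : (ginv *ᵥ egram *ᵥ b) i = 2 * b i := by
    rw [Matrix.mulVec_mulVec]
    simp [Matrix.mulVec, dotProduct, ginv_mul]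
  have hd : (p : ℤ) ∣ 2 * b i := by
    rw [← h2b]
    show (p : ℤ) ∣ ∑ j, ginv i j * (egram *ᵥ b) j
    exact Finset.dvd_sum fun j _ => Dvd.dvd.mul_left (hGb j) _
  rcases hpP.dvd_mul.1 hd with h | h
  · exact hp2 ((Nat.prime_dvd_prime_iff_eq hp Nat.prime_two).1 (by exact_mod_cast h))
  · exact hi h

end E7Lat

end H54
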