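import Cfsg.Agent.H54.WeylInvolution
import Cfsg.Agent.H54.CycloMult
import Cfsg.Agent.H52.OrderD4
import Cfsg.Agent.H52.OrderE6
import Cfsg.Agent.H52.OrderE7

/-!
Eigenspaces modulo a prime of the Weyl groups of types D4, E6 and E7 in the cases not covered by
the degree count.
-/

set_option autoImplicit false
set_option linter.unusedSectionVars false

open Cfsg.Lie
open scoped Matrix
open Polynomial

namespace H54

namespace EigExc

/-- All permutations of the roots of D4 coming from the Weyl group, as value lists. -/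
def d4Perms : List (List ℕ) := [
  [0,1,2,3,4,5,6,7,8,9,10,11,12,13,14,15,16,17,18,19,20,21,22,23],
  [0,6,7,8,9,18,1,2,3,4,10,11,12,13,19,20,21,22,5,14,15,16,17,23],
  [1,0,2,3,5,4,6,10,11,14,7,8,15,16,9,12,13,17,19,18,20,21,23,22],
  [0,3,4,1,2,5,8,9,6,7,13,11,12,10,16,17,14,15,18,21,22,19,20,23],
  [0,2,1,4,3,5,7,6,9,8,10,12,11,13,15,14,17,16,18,20,19,22,21,23],
  [1,6,10,11,14,19,0,2,3,5,7,8,15,16,18,20,21,23,4,9,12,13,17,22],
  [0,8,9,6,7,18,3,4,1,2,13,11,12,10,21,22,19,20,5,16,17,14,15,23],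
  [0,7,6,9,8,18,2,1,4,3,10,12,11,13,20,19,22,21,5,15,14,17,16,23],
  [6,0,7,8,18,9,1,10,11,19,2,3,20,21,4,12,13,22,14,5,15,16,23,17],
  [3,0,4,1,5,2,8,13,11,16,9,6,17,14,7,12,10,15,21,18,22,19,23,20],
  [2,0,1,4,5,3,7,10,12,15,6,9,14,17,8,11,13,16,20,18,19,22,23,21],
  [1,3,5,0,2,4,11,14,6,10,16,8,15,7,13,17,9,12,19,21,23,18,20,22],
  [0,4,3,2,1,5,9,8,7,6,13,12,11,10,17,16,15,14,18,22,21,20,19,23],
  [1,2,0,5,3,4,10,6,14,11,7,15,8,16,12,9,17,13,19,20,18,23,21,22],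
  [6,1,10,11,19,14,0,7,8,18,2,3,20,21,5,15,16,23,9,4,12,13,22,17],
  [3,8,13,11,16,21,0,4,1,5,9,6,17,14,18,22,19,23,2,7,12,10,15,20],
  [2,7,10,12,15,20,0,1,4,5,6,9,14,17,18,19,22,23,3,8,11,13,16,21],
  [1,11,14,6,10,19,3,5,0,2,16,8,15,7,21,23,18,20,4,13,17,9,12,22],
  [0,9,8,7,6,18,4,3,2,1,13,12,11,10,22,21,20,19,5,17,16,15,14,23],
  [1,10,6,14,11,19,2,0,5,3,7,15,8,16,20,18,23,21,4,12,9,17,13,22],
  [8,0,9,6,18,7,3,13,11,21,4,1,22,19,2,12,10,20,16,5,17,14,23,15],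
  [7,0,6,9,18,8,2,10,12,20,1,4,19,22,3,11,13,21,15,5,14,17,23,16],
  [3,1,5,0,4,2,11,16,8,13,14,6,17,9,10,15,7,12,21,19,23,18,22,20],
  [4,0,3,2,5,1,9,13,12,17,8,7,16,15,6,11,10,14,22,18,21,20,23,19],
  [2,1,0,5,4,3,10,7,15,12,6,14,9,17,11,8,16,13,20,19,18,23,22,21],
  [6,8,18,0,7,9,11,19,1,10,21,3,20,2,13,22,4,12,14,16,23,5,15,17],
  [2,4,5,0,1,3,12,15,7,10,17,9,14,6,13,16,8,11,20,22,23,18,19,21],
  [1,5,3,2,0,4,14,11,10,6,16,15,8,7,17,13,12,9,19,23,21,20,18,22],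
  [6,7,0,18,8,9,10,1,19,11,2,20,3,21,12,4,22,13,14,15,5,23,16,17],
  [3,4,0,5,1,2,13,8,16,11,9,17,6,14,12,7,15,10,21,22,18,23,19,20],
  [8,3,13,11,21,16,0,9,6,18,4,1,22,19,5,17,14,23,7,2,12,10,20,15],
  [7,2,10,12,20,15,0,6,9,18,1,4,19,22,5,14,17,23,8,3,11,13,21,16],
  [3,11,16,8,13,21,1,5,0,4,14,6,17,9,19,23,18,22,2,10,15,7,12,20],
  [4,9,13,12,17,22,0,3,2,5,8,7,16,15,18,21,20,23,1,6,11,10,14,19],
  [2,10,7,15,12,20,1,0,5,4,6,14,9,17,19,18,23,22,3,11,8,16,13,21],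
  [6,11,19,1,10,14,8,18,0,7,21,3,20,2,16,23,5,15,9,13,22,4,12,17],
  [2,12,15,7,10,20,4,5,0,1,17,9,14,6,22,23,18,19,3,13,16,8,11,21],
  [1,14,11,10,6,19,5,3,2,0,16,15,8,7,23,21,20,18,4,17,13,12,9,22],
  [6,10,1,19,11,14,7,0,18,8,2,20,3,21,15,5,23,16,9,12,4,22,13,17],
  [3,13,8,16,11,21,4,0,5,1,9,17,6,14,22,18,23,19,2,12,7,15,10,20],
  [11,1,14,6,19,10,3,16,8,21,5,0,23,18,2,15,7,20,13,4,17,9,22,12],
  [9,0,8,7,18,6,4,13,12,22,3,2,21,20,1,11,10,19,17,5,16,15,23,14],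
  [10,1,6,14,19,11,2,7,15,20,0,5,18,23,3,8,16,21,12,4,9,17,22,13],
  [8,6,18,0,9,7,11,21,3,13,19,1,22,4,10,20,2,12,16,14,23,5,17,15],
  [4,2,5,0,3,1,12,17,9,13,15,7,16,8,10,14,6,11,22,20,23,18,21,19],
  [5,1,3,2,4,0,14,16,15,17,11,10,13,12,6,8,7,9,23,19,21,20,22,18],
  [7,6,0,18,9,8,10,2,20,12,1,19,4,22,11,3,21,13,15,14,5,23,17,16],
  [4,3,0,5,2,1,13,9,17,12,8,16,7,15,11,6,14,10,22,21,18,23,20,19],
  [7,9,18,0,6,8,12,20,2,10,22,4,19,1,13,21,3,11,15,17,23,5,14,16],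
  [2,5,4,1,0,3,15,12,10,7,17,14,9,6,16,13,11,8,20,23,22,19,18,21],
  [6,18,8,7,0,9,19,11,10,1,21,20,3,2,22,13,12,4,14,23,16,15,5,17],
  [3,5,1,4,0,2,16,11,13,8,14,17,6,9,15,10,12,7,21,23,19,22,18,20],
  [8,9,0,18,6,7,13,3,21,11,4,22,1,19,12,2,20,10,16,17,5,23,14,15],
  [11,3,16,8,21,13,1,14,6,19,5,0,23,18,4,17,9,22,10,2,15,7,20,12],
  [9,4,13,12,22,17,0,8,7,18,3,2,21,20,5,16,15,23,6,1,11,10,19,14],
  [10,2,7,15,20,12,1,6,14,19,0,5,18,23,4,9,17,22,11,3,8,16,21,13],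
  [8,11,21,3,13,16,6,18,0,9,19,1,22,4,14,23,5,17,7,10,20,2,12,15],
  [4,12,17,9,13,22,2,5,0,3,15,7,16,8,20,23,18,21,1,10,14,6,11,19],
  [5,14,16,15,17,23,1,3,2,4,11,10,13,12,19,21,20,22,0,6,8,7,9,18],
  [7,10,2,20,12,15,6,0,18,9,1,19,4,22,14,5,23,17,8,11,3,21,13,16],
  [4,13,9,17,12,22,3,0,5,2,8,16,7,15,21,18,23,20,1,11,6,14,10,19],
  [7,12,20,2,10,15,9,18,0,6,22,4,19,1,17,23,5,14,8,13,21,3,11,16],
  [2,15,12,10,7,20,5,4,1,0,17,14,9,6,23,22,19,18,3,16,13,11,8,21],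
  [6,19,11,10,1,14,18,8,7,0,21,20,3,2,23,16,15,5,9,22,13,12,4,17],
  [3,16,11,13,8,21,5,1,4,0,14,17,6,9,23,19,22,18,2,15,10,12,7,20],
  [8,13,3,21,11,16,9,0,18,6,4,22,1,19,17,5,23,14,7,12,2,20,10,15],
  [11,6,19,1,14,10,8,21,3,16,18,0,23,5,7,20,2,15,13,9,22,4,17,12],
  [12,2,15,7,20,10,4,17,9,22,5,0,23,18,1,14,6,19,13,3,16,8,21,11],
  [14,1,11,10,19,6,5,16,15,23,3,2,21,20,0,8,7,18,17,4,13,12,22,9],
  [10,6,1,19,14,11,7,2,20,15,0,18,5,23,8,3,21,16,12,9,4,22,17,13],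
  [13,3,8,16,21,11,4,9,17,22,0,5,18,23,1,6,14,19,12,2,7,15,20,10],
  [9,7,18,0,8,6,12,22,4,13,20,2,21,3,10,19,1,11,17,15,23,5,16,14],
  [5,2,4,1,3,0,15,17,14,16,12,10,13,11,7,9,6,8,23,20,22,19,21,18],
  [18,6,8,7,9,0,19,21,20,22,11,10,13,12,1,3,2,4,23,14,16,15,17,5],
  [5,3,1,4,2,0,16,14,17,15,11,13,10,12,8,6,9,7,23,21,19,22,20,18],
  [9,8,0,18,7,6,13,4,22,12,3,21,2,20,11,1,19,10,17,16,5,23,15,14],
  [10,14,19,1,6,11,15,20,2,7,23,5,18,0,16,21,3,8,12,17,22,4,9,13],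
  [7,18,9,6,0,8,20,12,10,2,22,19,4,1,21,13,11,3,15,23,17,14,5,16],
  [4,5,2,3,0,1,17,12,13,9,15,16,7,8,14,10,11,6,22,23,20,21,18,19],
  [8,18,6,9,0,7,21,11,13,3,19,22,1,4,20,10,12,2,16,23,14,17,5,15],
  [11,14,1,19,6,10,16,3,21,8,5,23,0,18,15,2,20,7,13,17,4,22,9,12],
  [11,8,21,3,16,13,6,19,1,14,18,0,23,5,9,22,4,17,10,7,20,2,15,12],
  [12,4,17,9,22,13,2,15,7,20,5,0,23,18,3,16,8,21,10,1,14,6,19,11],
  [14,5,16,15,23,17,1,11,10,19,3,2,21,20,4,13,12,22,6,0,8,7,18,9],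
  [10,7,2,20,15,12,6,1,19,14,0,18,5,23,9,4,22,17,11,8,3,21,16,13],
  [13,4,9,17,22,12,3,8,16,21,0,5,18,23,2,7,15,20,11,1,6,14,19,10],
  [9,12,22,4,13,17,7,18,0,8,20,2,21,3,15,23,5,16,6,10,19,1,11,14],
  [5,15,17,14,16,23,2,4,1,3,12,10,13,11,20,22,19,21,0,7,9,6,8,18],
  [18,19,21,20,22,23,6,8,7,9,11,10,13,12,14,16,15,17,0,1,3,2,4,5],
  [5,16,14,17,15,23,3,1,4,2,11,13,10,12,21,19,22,20,0,8,6,9,7,18],
  [9,13,4,22,12,17,8,0,18,7,3,21,2,20,16,5,23,15,6,11,1,19,10,14],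
  [10,15,20,2,7,12,14,19,1,6,23,5,18,0,17,22,4,9,11,16,21,3,8,13],
  [7,20,12,10,2,15,18,9,6,0,22,19,4,1,23,17,14,5,8,21,13,11,3,16],
  [4,17,12,13,9,22,5,2,3,0,15,16,7,8,23,20,21,18,1,14,10,11,6,19],
  [8,21,11,13,3,16,18,6,9,0,19,22,1,4,23,14,17,5,7,20,10,12,2,15],
  [11,16,3,21,8,13,14,1,19,6,5,23,0,18,17,4,22,9,10,15,2,20,7,12],
  [12,7,20,2,15,10,9,22,4,17,18,0,23,5,6,19,1,14,13,8,21,3,16,11],
  [15,2,12,10,20,7,5,17,14,23,4,1,22,19,0,9,6,18,16,3,13,11,21,8],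
  [19,6,11,10,14,1,18,21,20,23,8,7,16,15,0,3,2,5,22,9,13,12,17,4],
  [16,3,11,13,21,8,5,14,17,23,1,4,19,22,0,6,9,18,15,2,10,12,20,7],
  [13,8,3,21,16,11,9,4,22,17,0,18,5,23,6,1,19,14,12,7,2,20,15,10],
  [14,10,19,1,11,6,15,23,5,16,20,2,21,3,7,18,0,8,17,12,22,4,13,9],
  [18,7,9,6,8,0,20,22,19,21,12,10,13,11,2,4,1,3,23,15,17,14,16,5],
  [5,4,2,3,1,0,17,15,16,14,12,13,10,11,9,7,8,6,23,22,20,21,19,18],
  [18,8,6,9,7,0,21,19,22,20,11,13,10,12,3,1,4,2,23,16,14,17,15,5],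
  [14,11,1,19,10,6,16,5,23,15,3,21,2,20,8,0,18,7,17,13,4,22,12,9],
  [10,19,14,6,1,11,20,15,7,2,23,18,5,0,21,16,8,3,12,22,17,9,4,13],
  [13,16,21,3,8,11,17,22,4,9,23,5,18,0,14,19,1,6,12,15,20,2,7,10],
  [9,18,7,8,0,6,22,12,13,4,20,21,2,3,19,10,11,1,17,23,15,16,5,14],
  [11,19,6,14,1,10,21,8,16,3,18,23,0,5,20,7,15,2,13,22,9,17,4,12],
  [12,15,2,20,7,10,17,4,22,9,5,23,0,18,14,1,19,6,13,16,3,21,8,11],
  [12,9,22,4,17,13,7,20,2,15,18,0,23,5,8,21,3,16,10,6,19,1,14,11],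
  [15,5,17,14,23,16,2,12,10,20,4,1,22,19,3,13,11,21,7,0,9,6,18,8],
  [19,18,21,20,23,22,6,11,10,14,8,7,16,15,9,13,12,17,1,0,3,2,5,4],
  [16,5,14,17,23,15,3,11,13,21,1,4,19,22,2,10,12,20,8,0,6,9,18,7],
  [13,9,4,22,17,12,8,3,21,16,0,18,5,23,7,2,20,15,11,6,1,19,14,10],
  [14,15,23,5,16,17,10,19,1,11,20,2,21,3,12,22,4,13,6,7,18,0,8,9],
  [18,20,22,19,21,23,7,9,6,8,12,10,13,11,15,17,14,16,0,2,4,1,3,5],
  [5,17,15,16,14,23,4,2,3,1,12,13,10,11,22,20,21,19,0,9,7,8,6,18],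
  [18,21,19,22,20,23,8,6,9,7,11,13,10,12,16,14,17,15,0,3,1,4,2,5],
  [14,16,5,23,15,17,11,1,19,10,3,21,2,20,13,4,22,12,6,8,0,18,7,9],
  [10,20,15,7,2,12,19,14,6,1,23,18,5,0,22,17,9,4,11,21,16,8,3,13],
  [13,17,22,4,9,12,16,21,3,8,23,5,18,0,15,20,2,7,11,14,19,1,6,10],
  [9,22,12,13,4,17,18,7,8,0,20,21,2,3,23,15,16,5,6,19,10,11,1,14],
  [11,21,8,16,3,13,19,6,14,1,18,23,0,5,22,9,17,4,10,20,7,15,2,12],
  [12,17,4,22,9,13,15,2,20,7,5,23,0,18,16,3,21,8,10,14,1,19,6,11],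
  [15,10,20,2,12,7,14,23,5,17,19,1,22,4,6,18,0,9,16,11,21,3,13,8],
  [20,7,12,10,15,2,18,22,19,23,9,6,17,14,0,4,1,5,21,8,13,11,16,3],
  [17,4,12,13,22,9,5,15,16,23,2,3,20,21,0,7,8,18,14,1,10,11,19,6],
  [21,8,11,13,16,3,18,19,22,23,6,9,14,17,0,1,4,5,20,7,10,12,15,2],
  [16,11,3,21,13,8,14,5,23,17,1,19,4,22,6,0,18,9,15,10,2,20,12,7],
  [19,10,14,6,11,1,20,23,18,21,15,7,16,8,2,5,0,3,22,12,17,9,13,4],
  [16,13,21,3,11,8,17,23,5,14,22,4,19,1,9,18,0,6,15,12,20,2,10,7],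
  [18,9,7,8,6,0,22,20,21,19,12,13,10,11,4,2,3,1,23,17,15,16,14,5],
  [19,11,6,14,10,1,21,18,23,20,8,16,7,15,3,0,5,2,22,13,9,17,12,4],
  [15,12,2,20,10,7,17,5,23,14,4,22,1,19,9,0,18,6,16,13,3,21,11,8],
  [13,21,16,8,3,11,22,17,9,4,23,18,5,0,19,14,6,1,12,20,15,7,2,10],
  [14,19,10,11,1,6,23,15,16,5,20,21,2,3,18,7,8,0,17,22,12,13,4,9],
  [12,20,7,15,2,10,22,9,17,4,18,23,0,5,19,6,14,1,13,21,8,16,3,11],
  [15,14,23,5,17,16,10,20,2,12,19,1,22,4,11,21,3,13,7,6,18,0,9,8],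
  [20,18,22,19,23,21,7,12,10,15,9,6,17,14,8,13,11,16,2,0,4,1,5,3],
  [17,5,15,16,23,14,4,12,13,22,2,3,20,21,1,10,11,19,9,0,7,8,18,6],
  [21,18,19,22,23,20,8,11,13,16,6,9,14,17,7,10,12,15,3,0,1,4,5,2],
  [16,14,5,23,17,15,11,3,21,13,1,19,4,22,10,2,20,12,8,6,0,18,9,7],
  [19,20,23,18,21,22,10,14,6,11,15,7,16,8,12,17,9,13,1,2,5,0,3,4],
  [16,17,23,5,14,15,13,21,3,11,22,4,19,1,12,20,2,10,8,9,18,0,6,7],
  [18,22,20,21,19,23,9,7,8,6,12,13,10,11,17,15,16,14,0,4,2,3,1,5],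
  [19,21,18,23,20,22,11,6,14,10,8,16,7,15,13,9,17,12,1,3,0,5,2,4],
  [15,17,5,23,14,16,12,2,20,10,4,22,1,19,13,3,21,11,7,9,0,18,6,8],
  [13,22,17,9,4,12,21,16,8,3,23,18,5,0,20,15,7,2,11,19,14,6,1,10],
  [14,23,15,16,5,17,19,10,11,1,20,21,2,3,22,12,13,4,6,18,7,8,0,9],
  [12,22,9,17,4,13,20,7,15,2,18,23,0,5,21,8,16,3,10,19,6,14,1,11],
  [20,10,15,7,12,2,19,23,18,22,14,6,17,9,1,5,0,4,21,11,16,8,13,3],
  [17,13,22,4,12,9,16,23,5,15,21,3,20,2,8,18,0,7,14,11,19,1,10,6],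
  [22,9,12,13,17,4,18,20,21,23,7,8,15,16,0,2,3,5,19,6,10,11,14,1],
  [21,11,8,16,13,3,19,18,23,22,6,14,9,17,1,0,5,4,20,10,7,15,12,2],
  [17,12,4,22,13,9,15,5,23,16,2,20,3,21,7,0,18,8,14,10,1,19,11,6],
  [21,13,16,8,11,3,22,23,18,19,17,9,14,6,4,5,0,1,20,12,15,7,10,2],
  [19,14,10,11,6,1,23,20,21,18,15,16,7,8,5,2,3,0,22,17,12,13,9,4],
  [20,12,7,15,10,2,22,18,23,19,9,17,6,14,4,0,5,1,21,13,8,16,11,3],
  [16,21,13,11,3,8,23,17,14,5,22,19,4,1,18,9,6,0,15,20,12,10,2,7],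
  [15,20,10,12,2,7,23,14,17,5,19,22,1,4,18,6,9,0,16,21,11,13,3,8],
  [20,19,23,18,22,21,10,15,7,12,14,6,17,9,11,16,8,13,2,1,5,0,4,3],
  [17,16,23,5,15,14,13,22,4,12,21,3,20,2,11,19,1,10,9,8,18,0,7,6],
  [22,18,20,21,23,19,9,12,13,17,7,8,15,16,6,10,11,14,4,0,2,3,5,1],
  [21,19,18,23,22,20,11,8,16,13,6,14,9,17,10,7,15,12,3,1,0,5,4,2],
  [17,15,5,23,16,14,12,4,22,13,2,20,3,21,10,1,19,11,9,7,0,18,8,6],
  [21,22,23,18,19,20,13,16,8,11,17,9,14,6,12,15,7,10,3,4,5,0,1,2],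
  [19,23,20,21,18,22,14,10,11,6,15,16,7,8,17,12,13,9,1,5,2,3,0,4],
  [20,22,18,23,19,21,12,7,15,10,9,17,6,14,13,8,16,11,2,4,0,5,1,3],
  [16,23,17,14,5,15,21,13,11,3,22,19,4,1,20,12,10,2,8,18,9,6,0,7],
  [15,23,14,17,5,16,20,10,12,2,19,22,1,4,21,11,13,3,7,18,6,9,0,8],
  [22,13,17,9,12,4,21,23,18,20,16,8,15,7,3,5,0,2,19,11,14,6,10,1],
  [23,14,15,16,17,5,19,20,21,22,10,11,12,13,1,2,3,4,18,6,7,8,9,0],
  [22,12,9,17,13,4,20,18,23,21,7,15,8,16,2,0,5,3,19,10,6,14,11,1],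
  [21,16,13,11,8,3,23,22,19,18,17,14,9,6,5,4,1,0,20,15,12,10,7,2],
  [20,15,10,12,7,2,23,19,22,18,14,17,6,9,5,1,4,0,21,16,11,13,8,3],
  [17,22,13,12,4,9,23,16,15,5,21,20,3,2,18,8,7,0,14,19,11,10,1,6],
  [22,21,23,18,20,19,13,17,9,12,16,8,15,7,11,14,6,10,4,3,5,0,2,1],
  [23,19,20,21,22,18,14,15,16,17,10,11,12,13,6,7,8,9,5,1,2,3,4,0],
  [22,20,18,23,21,19,12,9,17,13,7,15,8,16,10,6,14,11,4,2,0,5,3,1],
  [21,23,22,19,18,20,16,13,11,8,17,14,9,6,15,12,10,7,3,5,4,1,0,2],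
  [20,23,19,22,18,21,15,10,12,7,14,17,6,9,16,11,13,8,2,5,1,4,0,3],
  [17,23,16,15,5,14,22,13,12,4,21,20,3,2,19,11,10,1,9,18,8,7,0,6],
  [23,16,17,14,15,5,21,22,19,20,13,11,12,10,3,4,1,2,18,8,9,6,7,0],
  [23,15,14,17,16,5,20,19,22,21,10,12,11,13,2,1,4,3,18,7,6,9,8,0],
  [22,17,13,12,9,4,23,21,20,18,16,15,8,7,5,3,2,0,19,14,11,10,6,1],
  [23,21,22,19,20,18,16,17,14,15,13,11,12,10,8,9,6,7,5,3,4,1,2,0],
  [23,20,19,22,21,18,15,14,17,16,10,12,11,13,7,6,9,8,5,2,1,4,3,0],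
  [22,23,21,20,18,19,17,13,12,9,16,15,8,7,14,11,10,6,4,5,3,2,0,1],
  [23,17,16,15,14,5,22,21,20,19,13,12,11,10,4,3,2,1,18,9,8,7,6,0],
  [23,22,21,20,19,18,17,16,15,14,13,12,11,10,9,8,7,6,5,4,3,2,1,0]
]

/-- The data of type D4. -/
def ctxD4 : Ctx chevD4 := ⟨H52.tablesD4, H52.checkedD4, H53.weylForD4, chainOK_of_mem _ (by simp)⟩

/-- The data of type E6. -/
def ctxE6 : Ctx chevE6 := ⟨H52.tablesE6, H52.checkedE6, H53.weylForE6, chainOK_of_mem _ (by simp)⟩

/-- The data of type E7. -/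
def ctxE7 : Ctx chevE7 := ⟨H52.tablesE7, H52.checkedE7, H53.weylForE7, chainOK_of_mem _ (by simp)⟩

set_option maxRecDepth 100000 in
theorem cyclotomic_four (R : Type*) [CommRing R] : cyclotomic 4 R = X ^ 2 + 1 := by
  rw [show (4 : ℕ) = 2 ^ (1 + 1) from rfl, cyclotomic_prime_pow_eq_geom_sum Nat.prime_two]
  simp [Finset.sum_range_succ, add_comm]

theorem cyclotomic_six : cyclotomic 6 ℤ = X ^ 2 - X + 1 := by
  have h := prod_cyclotomic_eq_X_pow_sub_one (n := 6) (by norm_num) ℤ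
  rw [show Nat.divisors 6 = {1, 2, 3, 6} from by decide] at h
  simp only [Finset.prod_insert, Finset.prod_singleton, Finset.mem_insert, Finset.mem_singleton,
    OfNat.one_ne_ofNat, OfNat.ofNat_ne_one, or_self, not_false_eq_true, cyclotomic_one,
    cyclotomic_two, cyclotomic_three, Nat.reduceEqDiff] at h
  refine mul_left_cancel₀ (a := (X - 1 : ℤ[X]) * (X + 1) * (X ^ 2 + X + 1)) ?_ ?_
  · have h1 : ((X : ℤ[X]) - 1) ≠ 0 := by rw [← C_1]; exact X_sub_C_ne_zero 1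
    have h2 : ((X : ℤ[X]) + 1) ≠ 0 := by rw [← C_1]; exact X_add_C_ne_zero 1
    have h3 : ((X : ℤ[X]) ^ 2 + X + 1) ≠ 0 := by
      rw [← cyclotomic_three ℤ]; exact cyclotomic_ne_zero 3 ℤ
    exact mul_ne_zero (mul_ne_zero h1 h2) h3
  · linear_combination h

section

variable {D : ChevalleyDatum} (C : Ctx D) (r : ℕ) [hr : Fact r.Prime]

/-- The matrix of a word modulo `r`. -/
noncomputable def mbar (D : ChevalleyDatum) (r : ℕ) (L : List (Fin D.rank)) :
    Matrix (Fin D.rank) (Fin D.rank) (ZMod r) :=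
  (Ctx.wmat D L).map (Int.castRingHom (ZMod r))

/-- The coefficient vector of a root modulo `r`. -/
def rvec (s : Fin D.nroots) : Fin D.rank → ZMod r := fun j => (C.cvec s j : ZMod r)

theorem rvec_negF (s : Fin D.nroots) : rvec C r (C.W.negF s) = - rvec C r s := by
  funext j; simp [rvec, C.cvec_negF]

theorem mbar_mulVec (L : List (Fin D.rank)) (s : Fin D.nroots) :
    mbar D r L *ᵥ rvec C r s = rvec C r (C.wperm L s) := by
  funext j
  rw [rvec, ← C.wmat_mulVec]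
  exact (RingHom.map_mulVec (Int.castRingHom (ZMod r)) (Ctx.wmat D L) (C.cvec s) j).symm

theorem mbar_append (L L' : List (Fin D.rank)) :
    mbar D r (L ++ L') = mbar D r L * mbar D r L' := by
  rw [mbar, Ctx.wmat_append, Matrix.map_mul]; rfl

theorem mbar_pow {L : List (Fin D.rank)} {n : ℕ} (h : C.wperm L ^ n = 1) :
    mbar D r L ^ n = 1 := by
  rw [mbar, ← RingHom.mapMatrix_apply, ← map_pow, C.wmat_pow_eq_one h, map_one]

/-- Annihilating polynomials of a word. -/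
theorem annihilate {L : List (Fin D.rank)} {N : ℕ} (hW : C.wperm L ^ N = 1) (hN : ¬ r ∣ N)
    {S : (ZMod r)[X]} {n : ℕ} (h : (mbar D r L).charpoly ∣ S ^ n) : aeval (mbar D r L) S = 0 :=
  CycloMult.aeval_eq_zero _ (by rwa [Ne, ZMod.natCast_eq_zero_iff]) (mbar_pow C r hW) h

/-- Roots are distinct modulo a large prime. -/
theorem rvec_injective {B : ℕ} (hB : ∀ s j, (C.cvec s j).natAbs ≤ B) (hr2 : 2 * B < r) :
    Function.Injective (rvec C r) := by
  intro s t h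
  refine C.cvec_injective (funext fun j => ?_)
  have h1 := congrFun h j
  rw [rvec, rvec, ZMod.intCast_eq_intCast_iff_dvd_sub] at h1
  have := hB s j
  have := hB t j
  have h2 := Int.eq_zero_of_dvd_of_natAbs_lt_natAbs h1 (by simp; omega)
  omega

/-- An involution undone by few reflections is close to one modulo `r`. -/
theorem rank_le {L : List (Fin D.rank)} (h2 : C.wperm L * C.wperm L = 1) {n : ℕ}
    (hno : ∀ Γ : List (Fin D.nroots), Γ.Pairwise (fun a b => C.pr a b = 0 ∧ C.pr b a = 0) →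
      (∀ a ∈ Γ, D.nroots / 2 ≤ a.val) → Γ.length ≠ n + 1) :
    (mbar D r L - 1).rank ≤ n := by
  classical
  obtain ⟨Γ, L', hpw, hpos, -, -, -, hspan, ⟨hlt, h1⟩ | hlen⟩ := C.involution_cases L h2 (n + 1)
  swap
  · exact absurd hlen (hno Γ hpw hpos)
  let W : Submodule (ZMod r) (Fin D.rank → ZMod r) :=
    Submodule.span (ZMod r) (Set.range fun k : Fin Γ.length => rvec C r (Γ.get k))
  have hW : Module.finrank (ZMod r) W ≤ n :=
    le_trans (finrank_range_le_card _) (by rw [Fintype.card_fin]; omega)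
  refine le_trans (Submodule.finrank_mono (t := W) ?_) hW
  rintro _ ⟨v, rfl⟩
  show (mbar D r L - 1) *ᵥ v ∈ W
  rw [show v = ∑ b, v b • rvec C r (C.simpleF b) from funext fun j => by
    simp [rvec, C.cvec_simpleF, Pi.single_apply], Matrix.mulVec_sum]
  refine Submodule.sum_mem _ fun b _ => ?_
  rw [Matrix.mulVec_smul]
  refine Submodule.smul_mem _ _ ?_
  rw [Matrix.sub_mulVec, Matrix.one_mulVec, mbar_mulVec]
  have hmem := hspan (C.simpleF b)
  rw [h1] at hmem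
  obtain ⟨c, hc⟩ := (Submodule.mem_span_range_iff_exists_fun ℤ).1 hmem
  refine (Submodule.mem_span_range_iff_exists_fun _).2 ⟨fun k => (c k : ZMod r), funext fun j => ?_⟩
  have := congrArg (fun z : ℤ => (z : ZMod r)) (congrFun hc j)
  simpa [rvec, Finset.sum_apply] using this

/-- The eigenvectors of `-1` of a matrix close to one. -/
theorem card_neg_eigen_le (hr2 : r ≠ 2) {L : List (Fin D.rank)} {n : ℕ}
    (h : (mbar D r L - 1).rank ≤ n) :
    Nat.card {v : Fin D.rank → ZMod r // (mbar D r L).vecMul v = (-1 : ZMod r) • v} ≤ r ^ n := by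
  classical
  have h2 : (2 : ZMod r) ≠ 0 := by
    rw [Ne, show (2 : ZMod r) = ((2 : ℕ) : ZMod r) from rfl, ZMod.natCast_eq_zero_iff,
      Nat.prime_dvd_prime_iff_eq hr.out Nat.prime_two]
    exact hr2
  let W := LinearMap.range ((mbar D r L - 1).transpose).mulVecLin
  have hmem : ∀ v : {v : Fin D.rank → ZMod r // (mbar D r L).vecMul v = (-1 : ZMod r) • v},
      v.1 ∈ W := fun v => by
    refine ⟨-((2 : ZMod r)⁻¹ • v.1), ?_⟩
    rw [Matrix.mulVecLin_apply, Matrix.mulVec_transpose, Matrix.neg_vecMul, Matrix.smul_vecMul,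
      Matrix.vecMul_sub, v.2, Matrix.vecMul_one]
    rw [show ((-1 : ZMod r) • v.1 - v.1) = -((2 : ZMod r) • v.1) by module, smul_neg, neg_neg,
      smul_smul, inv_mul_cancel₀ h2, one_smul]
  refine le_trans (Nat.card_le_card_of_injective (fun v => (⟨v.1, hmem v⟩ : W))
    fun a b e => Subtype.ext (congrArg (fun z : W => z.1) e)) ?_
  rw [Module.natCard_eq_pow_finrank (K := ZMod r), Nat.card_zmod]
  refine Nat.pow_le_pow_right hr.out.pos ?_
  show ((mbar D r L - 1).transpose).rank ≤ n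
  rwa [Matrix.rank_transpose]

/-- The characteristic polynomial when a multiplicity is large. -/
theorem charpoly_cases {L : List (Fin D.rank)} {N : ℕ} (hW : C.wperm L ^ N = 1) (hN : ¬ r ∣ N)
    (x : ZMod r) {d : ℕ} (hd : 0 < d) (hx : orderOf x = d) (a : ℕ)
    (hbig : ¬ Nat.card {v : Fin D.rank → ZMod r // (mbar D r L).vecMul v = x • v} ≤ r ^ a) :
    ∃ (b : ℕ) (R : ℤ[X]), a < b ∧ b * d.totient + R.natDegree = D.rank ∧ R.Monic ∧
      (R.natDegree = 0 → R = 1) ∧ (R.natDegree = 1 → R = X + 1 ∨ R = X - 1) ∧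
      (mbar D r L).charpoly =
        cyclotomic d (ZMod r) ^ b * R.map (Int.castRingHom (ZMod r)) := by
  obtain ⟨R, hRm, hRX, -, -, heq, hdeg⟩ :=
    CycloMult.exists_split (Ctx.wmat D L) hN (C.wmat_pow_eq_one hW) x hd hx
  set b := ((Ctx.wmat D L).map (Int.castRingHom (ZMod r))).charpoly.rootMultiplicity x with hb
  have hab : a < b := by
    by_contra hle
    refine hbig (le_trans (CycloMult.card_eigen_le _ x) ?_)
    rw [Nat.card_zmod]
    exact Nat.pow_le_pow_right hr.out.pos (not_lt.1 hle)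
  refine ⟨b, R, hab, hdeg, hRm, fun h => hRm.natDegree_eq_zero.1 h, fun h => ?_, ?_⟩
  · obtain ⟨t, ht⟩ := hRX
    have hN0 : N ≠ 0 := fun h => hN (h ▸ dvd_zero r)
    have h1 := congrArg (eval 0) ht
    rw [eval_pow, eval_sub, eval_pow, eval_X, eval_one, zero_pow hN0, zero_sub, eval_mul] at h1
    have hu : IsUnit (R.eval 0) :=
      isUnit_of_dvd_unit (Dvd.intro _ h1.symm) (isUnit_one.neg.pow _)
    have hR : R = X + Polynomial.C (R.coeff 0) := hRm.eq_X_add_C h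
    rw [← coeff_zero_eq_eval_zero] at hu
    rcases Int.isUnit_iff.1 hu with h2 | h2
    · exact Or.inl (by rw [hR, h2, map_one])
    · exact Or.inr (by rw [hR, h2, map_neg, map_one, sub_eq_add_neg])
  · rw [mbar, Matrix.charpoly_map, heq, Polynomial.map_mul, Polynomial.map_pow, map_cyclotomic]

theorem natCast_ne_zero {N : ℕ} (hN : ¬ r ∣ N) : (N : ZMod r) ≠ 0 := by
  rwa [Ne, ZMod.natCast_eq_zero_iff]

end

/-- A pairwise orthogonal search. -/
def clique {n : ℕ} (orth : Fin n → Fin n → Bool) : ℕ → List (Fin n) → Bool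
  | 0, _ => true
  | k + 1, l => l.any fun x => clique orth k (l.filter (orth x))

theorem clique_of_pairwise {n : ℕ} (orth : Fin n → Fin n → Bool) :
    ∀ (Γ l : List (Fin n)), (∀ a ∈ Γ, a ∈ l) → Γ.Pairwise (fun a b => orth a b = true) →
      clique orth Γ.length l = true
  | [], _, _, _ => rfl
  | a :: Γ, l, hl, hp => by
    obtain ⟨h1, h2⟩ := List.pairwise_cons.1 hp
    simp only [clique, List.length_cons, List.any_eq_true]
    exact ⟨a, hl a List.mem_cons_self, clique_of_pairwise orth Γ _ (fun b hb =>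
      List.mem_filter.2 ⟨hl b (List.mem_cons_of_mem _ hb), h1 b hb⟩) h2⟩

/-- Orthogonality of two roots of E6. -/
def orthE6 (a b : Fin chevE6.nroots) : Bool := H52.pairInt chevE6 a.val b.val == 0

/-- The positive roots of E6. -/
def posE6 : List (Fin chevE6.nroots) :=
  (List.finRange chevE6.nroots).filter fun a => decide (chevE6.nroots / 2 ≤ a.val)

theorem no_five : clique orthE6 5 posE6 = false := by decide +kernel

theorem boundE6 : ∀ (s : Fin chevE6.nroots) (j : Fin chevE6.rank),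
    (ctxE6.cvec s j).natAbs ≤ 3 := by decide +kernel

theorem cardE6 : H52.pEval (1 : ℤ) (H52.pProd [H52.e6Orb0Poly, H52.e6Orb1Poly, H52.e6Orb2Poly,
    H52.e6Orb3Poly, H52.e6Orb4Poly, H52.e6Orb5Poly]) = ((51840 : ℕ) : ℤ) := by decide +kernel

section E6

variable (r : ℕ) [hr : Fact r.Prime]

theorem prime_ge {n : ℕ} (hr7 : ¬ r ∣ n) {p : ℕ} (hp : p ∣ n) : r ≠ p := by
  rintro rfl; exact hr7 hp

theorem seven_le (hW : ¬ r ∣ 51840) : 7 ≤ r := by
  have h2 : r ≠ 2 := prime_ge r hW (by norm_num)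
  have h3 : r ≠ 3 := prime_ge r hW (by norm_num)
  have h5 : r ≠ 5 := prime_ge r hW (by norm_num)
  have := hr.out.two_le
  have h4 : r ≠ 4 := fun h => by have := hr.out; rw [h] at this; norm_num at this
  have h6 : r ≠ 6 := fun h => by have := hr.out; rw [h] at this; norm_num at this
  omega

theorem e6_pow (L : List (Fin chevE6.rank)) : ctxE6.wperm L ^ 51840 = 1 :=
  ctxE6.wperm_pow_eq_one H52.e6_hasPoly cardE6 L

theorem e6_rank_le {L : List (Fin chevE6.rank)} (h2 : ctxE6.wperm L * ctxE6.wperm L = 1) :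
    (mbar chevE6 r L - 1).rank ≤ 4 := by
  refine rank_le ctxE6 r h2 fun Γ hpw hpos hlen => ?_
  have := clique_of_pairwise orthE6 Γ posE6
    (fun a ha => List.mem_filter.2 ⟨List.mem_finRange a, by simpa using hpos a ha⟩)
    (hpw.imp fun {a b} h => beq_iff_eq.2 h.1)
  rw [hlen, no_five] at this
  exact Bool.noConfusion this

theorem e6_neg_square {L : List (Fin chevE6.rank)} (hW : ¬ r ∣ 51840)
    (h : mbar chevE6 r L * mbar chevE6 r L = 1) : ctxE6.wperm L * ctxE6.wperm L = 1 :=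
  Equiv.ext fun s => rvec_injective ctxE6 r boundE6 (by have := seven_le r hW; omega) (by
    rw [Equiv.Perm.mul_apply, ← mbar_mulVec ctxE6 r, ← mbar_mulVec ctxE6 r, Matrix.mulVec_mulVec, h,
      Matrix.one_mulVec]
    rfl)

/-- `-1` is not in the Weyl group of E6. -/
theorem e6_not_neg {L : List (Fin chevE6.rank)} (hW : ¬ r ∣ 51840)
    (h : mbar chevE6 r L = -1) : False := by
  have h1 := e6_rank_le r (e6_neg_square r hW (by rw [h]; simp))
  have h2 : (2 : ZMod r) ≠ 0 := by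
    rw [show (2 : ZMod r) = ((2 : ℕ) : ZMod r) from rfl]
    exact natCast_ne_zero r fun h => hW (h.trans (by norm_num))
  rw [h, show (-1 : Matrix (Fin chevE6.rank) (Fin chevE6.rank) (ZMod r)) - 1 =
    (-2 : ZMod r) • 1 by rw [neg_smul, two_smul]; abel] at h1
  rw [← Algebra.algebraMap_eq_smul_one, Matrix.rank_of_isUnit _
    ((IsUnit.mk0 _ (neg_ne_zero.2 h2)).map (algebraMap _ _)), Fintype.card_fin] at h1
  exact absurd h1 (by decide)

/-- The exceptional eigenvalue orders of E6. -/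
theorem e6_eigen (hW : ¬ r ∣ 51840) (L : List (Fin chevE6.rank)) (x : ZMod r) {d a : ℕ}
    (hx : orderOf x = d) (hc : (d = 2 ∧ a = 4) ∨ (d = 4 ∧ a = 2) ∨ (d = 6 ∧ a = 2)) :
    Nat.card {v : Fin chevE6.rank → ZMod r //
      ((Ctx.wmat chevE6 L).map (Int.castRingHom (ZMod r))).vecMul v = x • v} ≤ r ^ a := by
  by_contra hbig
  obtain ⟨b, R, hab, hdeg, -, hR0, hR1, hcp⟩ :=
    charpoly_cases ctxE6 r (e6_pow L) hW x (by omega) hx a hbig
  have hl : chevE6.rank = 6 := rfl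
  rw [hl] at hdeg
  rcases hc with ⟨rfl, rfl⟩ | ⟨rfl, rfl⟩ | ⟨rfl, rfl⟩
  · rw [Nat.totient_two] at hdeg
    have hdvd : (mbar chevE6 r L).charpoly ∣ ((X ^ 2 - 1 : (ZMod r)[X])) ^ 7 := by
      have h1 : (X + 1 : (ZMod r)[X]) ∣ X ^ 2 - 1 := ⟨X - 1, by ring⟩
      have h2 : (R.map (Int.castRingHom (ZMod r))) ∣ X ^ 2 - 1 := by
        rcases Nat.eq_zero_or_pos R.natDegree with h | h
        · rw [hR0 h, Polynomial.map_one]; exact one_dvd _
        · rcases hR1 (by omega) with h | h <;> rw [h]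
          · rwa [Polynomial.map_add, Polynomial.map_X, Polynomial.map_one]
          · rw [Polynomial.map_sub, Polynomial.map_X, Polynomial.map_one]
            exact ⟨X + 1, by ring⟩
      rw [hcp, cyclotomic_two]
      exact dvd_trans (mul_dvd_mul (pow_dvd_pow_of_dvd h1 b) h2)
        (by rw [← pow_succ]; exact pow_dvd_pow _ (by omega))
    have h0 := annihilate ctxE6 r (e6_pow L) hW hdvd
    simp only [map_sub, map_pow, aeval_X, map_one] at h0
    rw [sub_eq_zero, pow_two] at h0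
    have hrank := e6_rank_le r (e6_neg_square r hW h0)
    have hx1 : x = -1 := by
      have h2 : x ^ 2 = 1 := hx ▸ pow_orderOf_eq_one x
      refine (sq_eq_one_iff.1 h2).resolve_left fun h => ?_
      rw [h, orderOf_one] at hx; omega
    subst hx1
    exact hbig (card_neg_eigen_le r (prime_ge r hW (by norm_num)) hrank)
  · rw [show Nat.totient 4 = 2 from by decide] at hdeg
    rw [hR0 (by omega), Polynomial.map_one, mul_one, cyclotomic_four] at hcp
    have h0 := annihilate ctxE6 r (e6_pow L) hW (dvd_of_eq hcp)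
    simp only [map_add, map_pow, aeval_X, map_one] at h0
    rw [pow_two] at h0
    refine e6_not_neg r hW (L := L ++ L) ?_
    rw [mbar_append]
    exact eq_neg_of_add_eq_zero_left h0
  · rw [show Nat.totient 6 = 2 from by decide] at hdeg
    rw [hR0 (by omega), Polynomial.map_one, mul_one, ← map_cyclotomic 6 (Int.castRingHom (ZMod r)),
      cyclotomic_six] at hcp
    simp only [Polynomial.map_add, Polynomial.map_sub, Polynomial.map_pow, Polynomial.map_X,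
      Polynomial.map_one] at hcp
    have h1 : (X ^ 2 - X + 1 : (ZMod r)[X]) ∣ X ^ 3 + 1 := ⟨X + 1, by ring⟩
    have h0 := annihilate ctxE6 r (e6_pow L) hW (hcp ▸ pow_dvd_pow_of_dvd h1 b)
    simp only [map_add, map_pow, aeval_X, map_one] at h0
    refine e6_not_neg r hW (L := L ++ L ++ L) ?_
    rw [mbar_append, mbar_append, show mbar chevE6 r L * mbar chevE6 r L * mbar chevE6 r L =
      mbar chevE6 r L ^ 3 by rw [pow_three']]
    exact eq_neg_of_add_eq_zero_left h0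

end E6

/-- A word of the longest element of E7. -/
def w0E7 : List (Fin chevE7.rank) :=
  ([0, 1, 2, 0, 3, 1, 2, 0, 3, 2, 4, 3, 1, 2, 0, 3, 2, 4, 3, 1, 5, 4, 3, 1, 2, 0, 3, 2, 4, 3, 1, 5, 4,
    3, 2, 0, 6, 5, 4, 3, 1, 2, 0, 3, 2, 4, 3, 1, 5, 4, 3, 2, 0, 6, 5, 4, 3, 1, 2, 3, 4, 5, 6] :
    List ℕ).map fun i => (Fin.ofNat 7 i : Fin 7)

theorem e7_w0 : ∀ s : Fin chevE7.nroots, ctxE7.wperm w0E7 s = ctxE7.W.negF s := by decide +kernel

theorem e7_crt : ∀ (s : Fin chevE7.nroots) (j : Fin chevE7.rank),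
    H52.crt chevE7 s.val j.val = ctxE7.cvec s j := by decide +kernel

theorem e7_symm : ∀ i j : Fin chevE7.rank,
    chevE7.cartan i.val (chevE7.simple j.val) = chevE7.cartan j.val (chevE7.simple i.val) := by
  decide +kernel

theorem e7_neighbour : ∀ γ : Fin chevE7.nroots, ∃ x : Fin chevE7.nroots,
    H52.pairInt chevE7 γ.val x.val = 1 := by decide +kernel

theorem boundE7 : ∀ (s : Fin chevE7.nroots) (j : Fin chevE7.rank),
    (ctxE7.cvec s j).natAbs ≤ 4 := by decide +kernel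

theorem cardE7 : H52.pEval (1 : ℤ) (H52.pProd [H52.e7Orb0Poly, H52.e7Orb1Poly, H52.e7Orb2Poly,
    H52.e7Orb3Poly, H52.e7Orb4Poly, H52.e7Orb5Poly, H52.e7Orb6Poly]) = ((2903040 : ℕ) : ℤ) := by
  decide +kernel

theorem e7_pow (L : List (Fin chevE7.rank)) : ctxE7.wperm L ^ 2903040 = 1 :=
  ctxE7.wperm_pow_eq_one H52.e7_hasPoly cardE7 L

theorem e7_pr_comm (a b : Fin chevE7.nroots) : ctxE7.pr a b = ctxE7.pr b a := by
  have h : ∀ a b : Fin chevE7.nroots, ctxE7.pr a b =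
      ∑ m : Fin chevE7.rank, ∑ i : Fin chevE7.rank,
        ctxE7.cvec a m * ctxE7.cvec b i * chevE7.cartan m.val (chevE7.simple i.val) := by
    intro a b
    rw [Ctx.pr, ctxE7.hC.pairInt_eq_sum, Finset.sum_range]
    refine Finset.sum_congr rfl fun m _ => ?_
    rw [e7_crt, ctxE7.hC.cartan_eq b.isLt m.isLt, Finset.sum_range, Finset.mul_sum]
    exact Finset.sum_congr rfl fun i _ => (mul_assoc _ _ _).symm
  rw [h, h, Finset.sum_comm]
  exact Finset.sum_congr rfl fun m _ => Finset.sum_congr rfl fun i _ => by rw [e7_symm i m]; ring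

/-- No element of the Weyl group of E7 squares to `-1` times a single reflection. -/
theorem e7_no_root {L : List (Fin chevE7.rank)} {γ : Fin chevE7.nroots}
    (h : ∀ s, ctxE7.cvec (ctxE7.wperm L (ctxE7.wperm L s)) =
      - (ctxE7.cvec s - ctxE7.pr γ s • ctxE7.cvec γ)) : False := by
  set π := ctxE7.wperm L with hπ
  have hγ2 : π (π γ) = γ :=
    ctxE7.cvec_injective (by rw [h, ctxE7.pr_self]; module)
  have h1 := h (π γ)
  rw [hγ2] at h1
  have hinv : ∀ a b, ctxE7.pr (π a) (π b) = ctxE7.pr a b := ctxE7.pr_wperm L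
  -- `π γ = ± γ`
  set p := ctxE7.pr γ (π γ) with hp
  have h2 : (2 : ℤ) • ctxE7.cvec (π γ) = p • ctxE7.cvec γ := by linear_combination (norm := module) h1
  have h3 := congrArg (ctxE7.prForm (π γ)) h2
  rw [map_smul, map_smul, ctxE7.prForm_cvec, ctxE7.prForm_cvec, ctxE7.pr_self, smul_eq_mul,
    smul_eq_mul, e7_pr_comm, ← hp] at h3
  obtain ⟨e, he, hπγ⟩ : ∃ e : ℤ, (e = 1 ∨ e = -1) ∧ ctxE7.cvec (π γ) = e • ctxE7.cvec γ := by
    have hp2 : p = 2 ∨ p = -2 := by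
      have : (p - 2) * (p + 2) = 0 := by linear_combination -h3
      rcases mul_eq_zero.1 this with h | h <;> omega
    rcases hp2 with hp' | hp'
    · refine ⟨1, Or.inl rfl, funext fun j => ?_⟩
      have := congrFun h2 j
      simp only [hp', Pi.smul_apply, smul_eq_mul] at this ⊢; omega
    · refine ⟨-1, Or.inr rfl, funext fun j => ?_⟩
      have := congrFun h2 j
      simp only [hp', Pi.smul_apply, smul_eq_mul] at this ⊢; omega
  obtain ⟨x, hx⟩ := e7_neighbour γ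
  have hx' : ctxE7.pr γ x = 1 := hx
  -- `pr x (π x)` is invariant under `π`
  have h4 := hinv x (π x)
  rw [← ctxE7.prForm_cvec (π x) (π (π x)), h, hx', one_smul, map_neg, map_sub, ctxE7.prForm_cvec,
    ctxE7.prForm_cvec, e7_pr_comm (π x) x] at h4
  have h5 : ctxE7.pr (π x) γ = e := by
    have e1 : ctxE7.pr (π x) (π γ) = 1 := by rw [hinv, e7_pr_comm]; exact hx'
    rw [← ctxE7.prForm_cvec, hπγ, map_smul, ctxE7.prForm_cvec, smul_eq_mul] at e1
    rcases he with rfl | rfl <;> omega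
  rw [h5] at h4
  rcases he with rfl | rfl <;> omega

section E7

variable (r : ℕ) [hr : Fact r.Prime]

theorem eleven_le (hW : ¬ r ∣ 2903040) : 11 ≤ r := by
  have h2 : r ≠ 2 := prime_ge r hW (by norm_num)
  have h3 : r ≠ 3 := prime_ge r hW (by norm_num)
  have h5 : r ≠ 5 := prime_ge r hW (by norm_num)
  have h7 : r ≠ 7 := prime_ge r hW (by norm_num)
  have := hr.out.two_le
  by_contra hlt
  have hp := hr.out
  interval_cases r <;> first
    | exact absurd rfl h2 | exact absurd rfl h3 | exact absurd rfl h5 | exact absurd rfl h7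
    | norm_num at hp

/-- The pairing modulo `r`. -/
noncomputable def prR (γ : Fin chevE7.nroots) (v : Fin chevE7.rank → ZMod r) : ZMod r :=
  ∑ b : Fin chevE7.rank, (H52.pairInt chevE7 γ.val (chevE7.simple b.val) : ZMod r) * v b

theorem prR_rvec (γ s : Fin chevE7.nroots) :
    prR r γ (rvec ctxE7 r s) = (ctxE7.pr γ s : ZMod r) := by
  rw [← ctxE7.prForm_cvec, prR]
  simp [Ctx.prForm, rvec]

theorem prR_smul (γ : Fin chevE7.nroots) (c : ZMod r) (v : Fin chevE7.rank → ZMod r) :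
    prR r γ (c • v) = c * prR r γ v := by
  simp only [prR, Pi.smul_apply, smul_eq_mul, Finset.mul_sum]
  exact Finset.sum_congr rfl fun b _ => by ring

/-- The eigenvalue of order four in E7. -/
theorem e7_eigen (hW : ¬ r ∣ 2903040) (L : List (Fin chevE7.rank)) (x : ZMod r)
    (hx : orderOf x = 4) :
    Nat.card {v : Fin chevE7.rank → ZMod r //
      ((Ctx.wmat chevE7 L).map (Int.castRingHom (ZMod r))).vecMul v = x • v} ≤ r ^ 2 := by
  classical
  by_contra hbig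
  obtain ⟨b, R, hab, hdeg, -, hR0, hR1, hcp⟩ :=
    charpoly_cases ctxE7 r (e7_pow L) hW x (by omega) hx 2 hbig
  have hl : chevE7.rank = 7 := rfl
  rw [hl, show Nat.totient 4 = 2 from by decide] at hdeg
  have hr11 := eleven_le r hW
  have hb : b = 3 := by omega
  obtain ⟨e, he, hRe⟩ : ∃ e : ℤ, (e = 1 ∨ e = -1) ∧
      R.map (Int.castRingHom (ZMod r)) = X - Polynomial.C ((e : ℤ) : ZMod r) := by
    rcases hR1 (by omega) with h | h
    · refine ⟨-1, Or.inr rfl, ?_⟩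
      rw [h, Polynomial.map_add, Polynomial.map_X, Polynomial.map_one, Int.cast_neg, Int.cast_one,
        map_neg, map_one, sub_neg_eq_add]
    · refine ⟨1, Or.inl rfl, ?_⟩
      rw [h, Polynomial.map_sub, Polynomial.map_X, Polynomial.map_one, Int.cast_one, map_one]
  rw [hb, hRe, cyclotomic_four] at hcp
  set M := mbar chevE7 r L with hM
  set c : ZMod r := ((e : ℤ) : ZMod r) with hcdef
  have hc2 : c * c = 1 := by rcases he with rfl | rfl <;> simp [hcdef]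
  set S : (ZMod r)[X] := (X ^ 2 + 1) * (X - Polynomial.C c) with hSdef
  have hS : aeval M S = 0 := by
    refine annihilate ctxE7 r (e7_pow L) hW (n := 3) ?_
    rw [← hM, hcp, hSdef, mul_pow]
    exact mul_dvd_mul_left _ (dvd_pow_self _ (by norm_num))
  have hfour : aeval M (X ^ 4 - 1 : (ZMod r)[X]) = 0 := by
    have h1 : (X ^ 4 - 1 : (ZMod r)[X]) = S * (X + Polynomial.C c) := by
      have h2 : (Polynomial.C c) * Polynomial.C c = 1 := by rw [← map_mul, hc2, map_one]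
      rw [hSdef]; linear_combination (X ^ 2 + 1 : (ZMod r)[X]) * h2
    rw [h1, map_mul, hS, zero_mul]
  simp only [map_sub, map_pow, aeval_X, map_one] at hfour
  rw [sub_eq_zero] at hfour
  have hπ4 : ∀ s, ctxE7.wperm L (ctxE7.wperm L (ctxE7.wperm L (ctxE7.wperm L s))) = s := by
    intro s
    refine rvec_injective ctxE7 r boundE7 (by omega) ?_
    rw [← mbar_mulVec ctxE7 r, ← mbar_mulVec ctxE7 r, ← mbar_mulVec ctxE7 r,
      ← mbar_mulVec ctxE7 r, Matrix.mulVec_mulVec, Matrix.mulVec_mulVec, Matrix.mulVec_mulVec,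
      ← hM, show M * M * M * M = M ^ 4 by noncomm_ring, hfour, Matrix.one_mulVec]
  have hπ' : ∀ s, ctxE7.wperm (w0E7 ++ (L ++ L)) s =
      ctxE7.W.negF (ctxE7.wperm L (ctxE7.wperm L s)) := fun s => by
    rw [Ctx.wperm_append, Ctx.wperm_append, Equiv.Perm.mul_apply, Equiv.Perm.mul_apply, e7_w0]
  have hinv : ctxE7.wperm (w0E7 ++ (L ++ L)) * ctxE7.wperm (w0E7 ++ (L ++ L)) = 1 := by
    refine Equiv.ext fun s => ?_
    rw [Equiv.Perm.mul_apply, hπ', hπ', ctxE7.wperm_negF, ctxE7.wperm_negF, H53.WeylFor.negF_negF,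
      hπ4]
    rfl
  -- vectors fixed by the square are eigenvectors for `e`
  have hfix : ∀ v : Fin chevE7.rank → ZMod r, M *ᵥ (M *ᵥ v) = v → M *ᵥ v = c • v := by
    intro v hv
    have hS' : S = X ^ 2 * X - Polynomial.C c * X ^ 2 + X - Polynomial.C c := by rw [hSdef]; ring
    have h1 := congrArg (· *ᵥ v) hS
    simp only [hS', map_sub, map_add, map_mul, map_pow, aeval_X, aeval_C,
      Algebra.algebraMap_eq_smul_one, smul_mul_assoc, one_mul, pow_two, Matrix.sub_mulVec,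
      Matrix.add_mulVec, Matrix.smul_mulVec, Matrix.one_mulVec, Matrix.zero_mulVec,
      ← Matrix.mulVec_mulVec, hv] at h1
    have h2 : (2 : ZMod r) • (M *ᵥ v - c • v) = 0 := by rw [two_smul, ← h1]; abel
    have h3 : (2 : ZMod r) ≠ 0 := by
      rw [show (2 : ZMod r) = ((2 : ℕ) : ZMod r) from rfl]
      exact natCast_ne_zero r fun h => hW (h.trans (by norm_num))
    exact sub_eq_zero.1 ((smul_eq_zero.1 h2).resolve_left h3)
  have heig : Module.finrank (ZMod r) ↥(Module.End.eigenspace (Matrix.toLin' M) c) ≤ 1 := by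
    refine le_trans (LinearMap.finrank_eigenspace_le _ _) ?_
    rw [Matrix.charpoly_toLin', hcp]
    have hne : ((X ^ 2 + 1 : (ZMod r)[X]) ^ 3) * (X - Polynomial.C c) ≠ 0 := by
      rw [← hcp]; exact (Matrix.charpoly_monic M).ne_zero
    rw [rootMultiplicity_mul hne, rootMultiplicity_X_sub_C_self, rootMultiplicity_eq_zero]
    intro hroot
    simp only [IsRoot, eval_pow, eval_add, eval_X, eval_one, pow_eq_zero_iff (by norm_num : (3 : ℕ) ≠ 0)]
      at hroot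
    rw [pow_two, hc2, one_add_one_eq_two, show (2 : ZMod r) = ((2 : ℕ) : ZMod r) from rfl] at hroot
    exact natCast_ne_zero r (fun h => hW (h.trans (by norm_num))) hroot
  obtain ⟨Γ, L', hpw, -, -, -, hneg, hspan, hcase⟩ := ctxE7.involution_cases _ hinv 2
  have hΓ : ∀ a ∈ Γ, rvec ctxE7 r a ∈ Module.End.eigenspace (Matrix.toLin' M) c := by
    intro a ha
    rw [Module.End.mem_eigenspace_iff, Matrix.toLin'_apply]
    refine hfix _ ?_
    rw [mbar_mulVec ctxE7 r, mbar_mulVec ctxE7 r]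
    have := hneg a ha
    rw [hπ'] at this
    have h1 := congrArg ctxE7.W.negF this
    rw [H53.WeylFor.negF_negF, H53.WeylFor.negF_negF] at h1
    rw [h1]
  rcases hcase with ⟨hlt, h1⟩ | hlen
  · -- at most one root
    match Γ, hlt, hneg, hspan with
    | [], _, _, hspan =>
      have hsq : M * M = -1 := by
        refine Matrix.ext_of_mulVec_single fun i => ?_
        have hi := hspan (ctxE7.simpleF i)
        rw [h1, hπ'] at hi
        simp only [Equiv.Perm.one_apply, List.length_nil, Set.range_eq_empty, Submodule.span_empty,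
          Submodule.mem_bot, sub_eq_zero] at hi
        have hv : rvec ctxE7 r (ctxE7.simpleF i) = Pi.single i 1 := funext fun j => by
          simp [rvec, ctxE7.cvec_simpleF, Pi.single_apply]
        rw [← hv, ← Matrix.mulVec_mulVec, hM, mbar_mulVec, mbar_mulVec, Matrix.neg_mulVec,
          Matrix.one_mulVec, ← rvec_negF]
        have hk := congrArg ctxE7.W.negF (ctxE7.cvec_injective hi)
        rw [H53.WeylFor.negF_negF] at hk
        rw [hk]
      have hdetM : M.det * M.det = 1 := by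
        have hcp' := congrArg (fun P : (ZMod r)[X] => P.coeff 0) hcp
        simp only [coeff_zero_eq_eval_zero, eval_mul, eval_pow, eval_add, eval_X, eval_one,
          eval_sub, eval_C] at hcp'
        have hd := Matrix.det_eq_sign_charpoly_coeff M
        rw [coeff_zero_eq_eval_zero, hcp'] at hd
        rw [hd, Fintype.card_fin, hl]
        linear_combination hc2
      have := congrArg Matrix.det hsq
      rw [Matrix.det_mul, hdetM, Matrix.det_neg, Matrix.det_one, mul_one, Fintype.card_fin, hl] at this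
      have h2 : ((2 : ℕ) : ZMod r) = 0 := by push_cast; linear_combination this
      exact natCast_ne_zero r (fun h => hW (h.trans (by norm_num))) h2
    | [γ], _, hneg, hspan =>
      refine e7_no_root (L := L) (γ := γ) fun s => ?_
      obtain ⟨z, hz⟩ := (Submodule.mem_span_range_iff_exists_fun ℤ).1 (hspan s)
      simp only [h1, Equiv.Perm.one_apply, List.length_singleton, Fin.sum_univ_one,
        List.get_eq_getElem, Fin.val_zero, List.getElem_cons_zero] at hz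
      -- pair with `γ`
      have hkey := congrArg (ctxE7.prForm γ) hz
      simp only [map_smul, map_sub, ctxE7.prForm_cvec, ctxE7.pr_self, smul_eq_mul] at hkey
      have hπγ : ctxE7.pr γ (ctxE7.wperm (w0E7 ++ (L ++ L)) s) = - ctxE7.pr γ s := by
        have h4 := ctxE7.pr_wperm (w0E7 ++ (L ++ L)) γ s
        rw [hneg γ List.mem_cons_self, ctxE7.pr_negF_left] at h4
        omega
      rw [hπγ] at hkey
      have hz0 : z 0 = - ctxE7.pr γ s := by omega
      rw [hz0, hπ', Ctx.cvec_negF] at hz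
      linear_combination (norm := module) hz
    | a :: a' :: Γ', hlt, _, _ => simp at hlt
  · obtain ⟨γ, δ, rfl⟩ := List.length_eq_two.1 hlen
    obtain ⟨v, hv⟩ := finrank_le_one_iff.1 heig
    obtain ⟨s, hs⟩ := hv ⟨_, hΓ γ (by simp)⟩
    obtain ⟨t, ht⟩ := hv ⟨_, hΓ δ (by simp)⟩
    have hs' : s • (v : Fin chevE7.rank → ZMod r) = rvec ctxE7 r γ := congrArg Subtype.val hs
    have ht' : t • (v : Fin chevE7.rank → ZMod r) = rvec ctxE7 r δ := congrArg Subtype.val ht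
    have horth := (List.pairwise_cons.1 hpw).1 δ (by simp)
    have h3 : (2 : ZMod r) ≠ 0 := by
      rw [show (2 : ZMod r) = ((2 : ℕ) : ZMod r) from rfl]
      exact natCast_ne_zero r fun h => hW (h.trans (by norm_num))
    have e1 := congrArg (prR r γ) hs'
    have e2 := congrArg (prR r γ) ht'
    have e3 := congrArg (prR r δ) ht'
    rw [prR_smul, prR_rvec, ctxE7.pr_self, Int.cast_ofNat] at e1 e3
    rw [prR_smul, prR_rvec, horth.1, Int.cast_zero] at e2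
    rcases mul_eq_zero.1 e2 with h | h
    · rw [h, zero_mul] at e3; exact h3 e3.symm
    · rw [h, mul_zero] at e1; exact h3 e1.symm

end E7

/-- The permutations are closed under the fundamental reflections. -/
def d4Closed : Bool :=
  d4Perms.contains (List.range 24) && d4Perms.all fun p =>
    (List.range 4).all fun i => d4Perms.contains (p.map fun x => chevD4.reflectRoot i x)

theorem d4Closed_ok : d4Closed = true := by decide +kernel

/-- No element of the list satisfies `p p + e p + 1 = 0` on coefficient vectors modulo a prime at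
least five. -/
def d4Check (e : ℤ) : Bool :=
  d4Perms.all fun p => (List.range 24).any fun s => (List.range 4).any fun j =>
    let z := H52.tablesD4.co (p.getD (p.getD s 0) 0) j + e * H52.tablesD4.co (p.getD s 0) j +
      H52.tablesD4.co s j
    z != 0 && decide (z.natAbs < 5)

theorem d4Check_pos : d4Check 1 = true := by decide +kernel

theorem d4Check_neg : d4Check (-1) = true := by decide +kernel

theorem d4_mem (L : List (Fin chevD4.rank)) :
    (List.ofFn fun s => (ctxD4.wperm L s).val) ∈ d4Perms := by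
  have h := d4Closed_ok
  simp only [d4Closed, Bool.and_eq_true, List.all_eq_true, List.contains_iff_mem, List.mem_range] at h
  induction L with
  | nil =>
    have : (List.ofFn fun s => (ctxD4.wperm [] s).val) = List.range 24 := by decide +kernel
    rw [this]; exact h.1
  | cons i L ih =>
    have := h.2 _ ih i.val i.isLt
    rw [List.map_ofFn] at this
    convert this using 2
    funext s
    exact ctxD4.sigma_val i _

section D4

variable (r : ℕ) [hr : Fact r.Prime]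

theorem cardD4 : H52.pEval (1 : ℤ) (H52.pProd [H52.d4Orb0Poly, H52.d4Orb1Poly, H52.d4Orb2Poly,
    H52.d4Orb3Poly]) = ((192 : ℕ) : ℤ) := by decide +kernel

theorem d4_pow (L : List (Fin chevD4.rank)) : ctxD4.wperm L ^ 192 = 1 :=
  ctxD4.wperm_pow_eq_one H52.d4_hasPoly cardD4 L

theorem five_le (hW : ¬ r ∣ 192) : 5 ≤ r := by
  have h2 : r ≠ 2 := prime_ge r hW (by norm_num)
  have h3 : r ≠ 3 := prime_ge r hW (by norm_num)
  have := hr.out.two_le
  have h4 : r ≠ 4 := fun h => by have := hr.out; rw [h] at this; norm_num at this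
  omega

theorem d4_no_quadratic (hW : ¬ r ∣ 192) (L : List (Fin chevD4.rank)) {e : ℤ}
    (he : d4Check e = true)
    (h : mbar chevD4 r L * mbar chevD4 r L + (e : ZMod r) • mbar chevD4 r L + 1 = 0) : False := by
  simp only [d4Check, List.all_eq_true, List.any_eq_true, List.mem_range, Bool.and_eq_true,
    decide_eq_true_eq, bne_iff_ne] at he
  obtain ⟨s, hs, j, hj, hz, hzb⟩ := he _ (d4_mem L)
  have hget : ∀ t, (ht : t < 24) → (List.ofFn fun s => (ctxD4.wperm L s).val).getD t 0 =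
      (ctxD4.wperm L ⟨t, ht⟩).val := fun t ht => by
    rw [List.getD_eq_getElem _ _ (by rw [List.length_ofFn]; exact ht), List.getElem_ofFn]
  rw [hget s hs, hget _ (ctxD4.wperm L ⟨s, hs⟩).isLt] at hz hzb
  have h1 := congrFun (congrArg (· *ᵥ rvec ctxD4 r ⟨s, hs⟩) h) ⟨j, hj⟩
  simp only [Matrix.add_mulVec, Matrix.smul_mulVec, Matrix.one_mulVec, Matrix.zero_mulVec,
    ← Matrix.mulVec_mulVec, mbar_mulVec, Pi.add_apply, Pi.smul_apply, Pi.zero_apply, smul_eq_mul,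
    rvec] at h1
  set z : ℤ := ctxD4.cvec (ctxD4.wperm L (ctxD4.wperm L ⟨s, hs⟩)) ⟨j, hj⟩ +
    e * ctxD4.cvec (ctxD4.wperm L ⟨s, hs⟩) ⟨j, hj⟩ + ctxD4.cvec ⟨s, hs⟩ ⟨j, hj⟩ with hzdef
  have h2 : (z : ZMod r) = 0 := by rw [hzdef]; push_cast; exact h1
  rw [ZMod.intCast_zmod_eq_zero_iff_dvd] at h2
  have h3 : z.natAbs < r := lt_of_lt_of_le hzb (five_le r hW)
  exact hz (Int.eq_zero_of_dvd_of_natAbs_lt_natAbs h2 (by rw [Int.natAbs_natCast]; exact h3))

/-- The eigenvalues of orders three and six in D4. -/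
theorem d4_eigen (hW : ¬ r ∣ 192) (L : List (Fin chevD4.rank)) (x : ZMod r) {d : ℕ}
    (hx : orderOf x = d) (hc : d = 3 ∨ d = 6) :
    Nat.card {v : Fin chevD4.rank → ZMod r //
      ((Ctx.wmat chevD4 L).map (Int.castRingHom (ZMod r))).vecMul v = x • v} ≤ r ^ 1 := by
  by_contra hbig
  obtain ⟨b, R, hab, hdeg, -, hR0, -, hcp⟩ :=
    charpoly_cases ctxD4 r (d4_pow L) hW x (by omega) hx 1 hbig
  have hl : chevD4.rank = 4 := rfl
  rw [hl] at hdeg
  rcases hc with rfl | rfl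
  · rw [show Nat.totient 3 = 2 from by decide] at hdeg
    rw [hR0 (by omega), Polynomial.map_one, mul_one, cyclotomic_three] at hcp
    have h0 := annihilate ctxD4 r (d4_pow L) hW (dvd_of_eq hcp)
    simp only [map_add, map_pow, aeval_X, map_one] at h0
    refine d4_no_quadratic r hW L d4Check_pos ?_
    rw [Int.cast_one, one_smul, ← pow_two]
    exact h0
  · rw [show Nat.totient 6 = 2 from by decide] at hdeg
    rw [hR0 (by omega), Polynomial.map_one, mul_one, ← map_cyclotomic 6 (Int.castRingHom (ZMod r)),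
      cyclotomic_six] at hcp
    simp only [Polynomial.map_add, Polynomial.map_sub, Polynomial.map_pow, Polynomial.map_X,
      Polynomial.map_one] at hcp
    have h0 := annihilate ctxD4 r (d4_pow L) hW (dvd_of_eq hcp)
    simp only [map_add, map_sub, map_pow, aeval_X, map_one] at h0
    refine d4_no_quadratic r hW L d4Check_neg ?_
    rw [Int.cast_neg, Int.cast_one, neg_smul, one_smul, ← sub_eq_add_neg, ← pow_two]
    exact h0

end D4

end EigExc

end H54
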