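import Cfsg.Agent.H54.SylowTorus
import Cfsg.Agent.H54.WeylExceptions
import Cfsg.Agent.H52.OrderG2
import Cfsg.Agent.H52.OrderB2
import Cfsg.Agent.H52.OrderF4
import Cfsg.Agent.H52.OrderE8

/-!
Sylow subgroups of the seven Chevalley groups for primes not dividing the Weyl group order.
-/

set_option autoImplicit false

open Cfsg.Lie
open scoped MatrixGroups Matrix
open Polynomial

namespace H54

namespace SylowHom

/-- The conclusion for one datum. -/
def Concl (D : ChevalleyDatum) (ds : List ℕ) (F : Type*) [Field F] (q r : ℕ) [Fact r.Prime] : Prop :=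
  ∀ P : Sylow r ↥(D.group F), Nonempty (↥(P : Subgroup ↥(D.group F)) ≃*
    (Fin (ds.filter fun e => orderOf (q : ZMod r) ∣ e).length →
      Multiplicative (ZMod (r ^ H40.cycloExp q r))))

/-- Whether the pair of a degree list and an order is covered by the degree count. -/
def countOK (l : ℕ) (ds : List ℕ) (exc : List ℕ) : Bool :=
  (List.range 31).all fun d => (ds.filter fun e => d ∣ e).length == 0 || exc.contains d ||
    decide (l / d.totient ≤ (ds.filter fun e => d ∣ e).length)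

variable {F : Type*} [Field F] [Fintype F] {q : ℕ} {r : ℕ} [hr : Fact r.Prime]

theorem concl_of {D : ChevalleyDatum} (C : Ctx D) (hq : Fintype.card F = q) (ds : List ℕ)
    (hlen : ds.length = D.rank) {dd : Fin D.rank → ℕ} (hdd : H52.HasDivisors D dd)
    (hF : (∏ i, (Fintype.card F - 1).gcd (dd i)) * Nat.card ↥(D.group F) =
      Fintype.card F ^ (D.nroots / 2) * (ds.map fun e => Fintype.card F ^ e - 1).prod)
    (hK : ∀ (K : Type) [Field K] [Fintype K],
      (∏ i, (Fintype.card K - 1).gcd (dd i)) * Nat.card ↥(D.group K) =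
        Fintype.card K ^ (D.nroots / 2) * (ds.map fun e => Fintype.card K ^ e - 1).prod)
    (hrq : ¬ r ∣ q) (hrW : ¬ r ∣ ds.prod) (hrG : r ∣ Nat.card ↥(D.group F))
    {n : ℕ} (hn : n = ds.prod) (hW : ∀ L, C.wperm L ^ n = 1)
    (hdeg : (ds.all fun e => decide (0 < e) && decide (e < 31)) = true)
    (hddr : ((List.finRange D.rank).all fun i => decide (dd i ∣ ds.prod)) = true) (exc : List ℕ) (hok : countOK D.rank ds exc = true)
    (hexc : ∀ d ∈ exc, ∀ (L : List (Fin D.rank)) (x : ZMod r), orderOf x = d →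
      Nat.card {v : Fin D.rank → ZMod r //
        ((Ctx.wmat D L).map (Int.castRingHom (ZMod r))).vecMul v = x • v} ≤
          r ^ (ds.filter fun e => d ∣ e).length) :
    Concl D ds F q r := by
  intro P
  rw [hq] at hF
  have hds : ∀ e ∈ ds, 0 < e ∧ ¬ r ∣ e := fun e he => by
    have := List.all_eq_true.1 hdeg e he
    simp only [Bool.and_eq_true, decide_eq_true_eq] at this
    exact ⟨this.1, fun h => hrW (h.trans (List.dvd_prod he))⟩
  refine homocyclic C hq ds hlen hdd hF hK r hrq hrG hds (fun i h => hrW (h.trans (of_decide_eq_true (List.all_eq_true.1 hddr i (List.mem_finRange i))))) ?_ P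
  intro L x hx ha
  set d := orderOf (q : ZMod r) with hd
  have hdpos : 0 < d := H40.orderOf_pos_of_not_dvd q r hrq
  obtain ⟨e, he⟩ := List.exists_mem_of_ne_nil (ds.filter fun e => d ∣ e) fun h => ha (by rw [h]; rfl)
  obtain ⟨he1, he2⟩ := List.mem_filter.1 he
  have h31 : d < 31 := by
    have := List.all_eq_true.1 hdeg e he1
    simp only [Bool.and_eq_true, decide_eq_true_eq] at this
    exact lt_of_le_of_lt (Nat.le_of_dvd this.1 (of_decide_eq_true he2)) this.2
  have hok' := List.all_eq_true.1 hok d (List.mem_range.2 h31)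
  simp only [Bool.or_eq_true, beq_iff_eq, List.contains_iff_mem, decide_eq_true_eq] at hok'
  rcases hok' with (h0 | hmem) | hle
  · exact absurd h0 ha
  · exact hexc d hmem L x hx
  · refine le_trans (CycloMult.card_eigen_le _ x) ?_
    rw [Nat.card_zmod]
    refine Nat.pow_le_pow_right hr.out.pos (le_trans ?_ hle)
    rw [Nat.le_div_iff_mul_le (Nat.totient_pos.2 hdpos)]
    exact CycloMult.mult_mul_totient_le _ (hn ▸ hrW) (C.wmat_pow_eq_one (hW L)) x hdpos hx

theorem concl_G2 (hq : Fintype.card F = q) (hrq : ¬ r ∣ q) (hrW : ¬ r ∣ ([2, 6] : List ℕ).prod)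
    (hrG : r ∣ Nat.card ↥(chevG2.group F)) : Concl chevG2 [2, 6] F q r := by
  let C : Ctx chevG2 := ⟨H52.tablesG2, H52.checkedG2, H53.weylForG2, chainOK_of_mem _ (by simp)⟩
  have hn : H52.pEval (1 : ℤ) (H52.pProd [H52.g2Orb0Poly, H52.g2Orb1Poly]) = ((12 : ℕ) : ℤ) := by
    decide +kernel
  exact concl_of C hq [2, 6] rfl H52.divisorsG2 (H52.g2_card H52.divisorsG2)
    (fun K _ _ => H52.g2_card H52.divisorsG2) hrq hrW hrG (n := 12) rfl
    (C.wperm_pow_eq_one H52.g2_hasPoly hn) rfl (by decide +kernel) [] (by decide +kernel) (by simp)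

theorem concl_B2 (hq : Fintype.card F = q) (hrq : ¬ r ∣ q) (hrW : ¬ r ∣ ([2, 4] : List ℕ).prod)
    (hrG : r ∣ Nat.card ↥(chevB2.group F)) : Concl chevB2 [2, 4] F q r := by
  let C : Ctx chevB2 := ⟨H52.tablesB2, H52.checkedB2, H53.weylForB2, chainOK_of_mem _ (by simp)⟩
  have hn : H52.pEval (1 : ℤ) (H52.pProd [H52.b2Orb0Poly, H52.b2Orb1Poly]) = ((8 : ℕ) : ℤ) := by
    decide +kernel
  exact concl_of C hq [2, 4] rfl H52.divisorsB2 (H52.b2_card H52.divisorsB2)
    (fun K _ _ => H52.b2_card H52.divisorsB2) hrq hrW hrG (n := 8) rfl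
    (C.wperm_pow_eq_one H52.b2_hasPoly hn) rfl (by decide +kernel) [] (by decide +kernel) (by simp)

theorem concl_F4 (hq : Fintype.card F = q) (hrq : ¬ r ∣ q)
    (hrW : ¬ r ∣ ([2, 6, 8, 12] : List ℕ).prod)
    (hrG : r ∣ Nat.card ↥(chevF4.group F)) : Concl chevF4 [2, 6, 8, 12] F q r := by
  let C : Ctx chevF4 := ⟨H52.tablesF4, H52.checkedF4, H53.weylForF4, chainOK_of_mem _ (by simp)⟩
  have hn : H52.pEval (1 : ℤ) (H52.pProd [H52.f4Orb0Poly, H52.f4Orb1Poly, H52.f4Orb2Poly,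
      H52.f4Orb3Poly]) = ((1152 : ℕ) : ℤ) := by decide +kernel
  exact concl_of C hq [2, 6, 8, 12] rfl H52.divisorsF4 (H52.f4_card H52.divisorsF4)
    (fun K _ _ => H52.f4_card H52.divisorsF4) hrq hrW hrG (n := 1152) rfl
    (C.wperm_pow_eq_one H52.f4_hasPoly hn) rfl (by decide +kernel) [] (by decide +kernel) (by simp)

theorem concl_E8 (hq : Fintype.card F = q) (hrq : ¬ r ∣ q)
    (hrW : ¬ r ∣ ([2, 8, 12, 14, 18, 20, 24, 30] : List ℕ).prod)
    (hrG : r ∣ Nat.card ↥(chevE8.group F)) :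
    Concl chevE8 [2, 8, 12, 14, 18, 20, 24, 30] F q r := by
  let C : Ctx chevE8 := ⟨H52.tablesE8, H52.checkedE8, H53.weylForE8, chainOK_of_mem _ (by simp)⟩
  have hn : H52.pEval (1 : ℤ) (H52.pProd [H52.e8Orb0Poly, H52.e8Orb1Poly, H52.e8Orb2Poly,
      H52.e8Orb3Poly, H52.e8Orb4Poly, H52.e8Orb5Poly, H52.e8Orb6Poly, H52.e8Orb7Poly]) =
      ((696729600 : ℕ) : ℤ) := by decide +kernel
  exact concl_of C hq [2, 8, 12, 14, 18, 20, 24, 30] rfl H52.divisorsE8 (H52.e8_card H52.divisorsE8)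
    (fun K _ _ => H52.e8_card H52.divisorsE8) hrq hrW hrG (n := 696729600) rfl
    (C.wperm_pow_eq_one H52.e8_hasPoly hn) rfl (by decide +kernel) [] (by decide +kernel) (by simp)

theorem concl_D4 (hq : Fintype.card F = q) (hrq : ¬ r ∣ q)
    (hrW : ¬ r ∣ ([2, 4, 4, 6] : List ℕ).prod)
    (hrG : r ∣ Nat.card ↥(chevD4.group F)) : Concl chevD4 [2, 4, 4, 6] F q r := by
  have hn : (192 : ℕ) = ([2, 4, 4, 6] : List ℕ).prod := rfl
  refine concl_of EigExc.ctxD4 hq [2, 4, 4, 6] rfl H52.divisorsD4 (H52.d4_card H52.divisorsD4)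
    (fun K _ _ => H52.d4_card H52.divisorsD4) hrq hrW hrG hn
    EigExc.d4_pow rfl (by decide +kernel) [3, 6] (by decide +kernel) fun d hd L x hx => ?_
  have h192 : ¬ r ∣ 192 := hn ▸ hrW
  simp only [List.mem_cons, List.not_mem_nil, or_false] at hd
  rcases hd with rfl | rfl
  · exact EigExc.d4_eigen r h192 L x hx (Or.inl rfl)
  · exact EigExc.d4_eigen r h192 L x hx (Or.inr rfl)

theorem concl_E6 (hq : Fintype.card F = q) (hrq : ¬ r ∣ q)
    (hrW : ¬ r ∣ ([2, 5, 6, 8, 9, 12] : List ℕ).prod)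
    (hrG : r ∣ Nat.card ↥(chevE6.group F)) : Concl chevE6 [2, 5, 6, 8, 9, 12] F q r := by
  have hn : (51840 : ℕ) = ([2, 5, 6, 8, 9, 12] : List ℕ).prod := rfl
  refine concl_of EigExc.ctxE6 hq [2, 5, 6, 8, 9, 12] rfl H52.divisorsE6 (H52.e6_card H52.divisorsE6)
    (fun K _ _ => H52.e6_card H52.divisorsE6) hrq hrW hrG hn
    EigExc.e6_pow rfl (by decide +kernel) [2, 4, 6] (by decide +kernel) fun d hd L x hx => ?_
  have hW : ¬ r ∣ 51840 := hn ▸ hrW
  simp only [List.mem_cons, List.not_mem_nil, or_false] at hd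
  rcases hd with rfl | rfl | rfl
  · exact EigExc.e6_eigen r hW L x hx (Or.inl ⟨rfl, rfl⟩)
  · exact EigExc.e6_eigen r hW L x hx (Or.inr (Or.inl ⟨rfl, rfl⟩))
  · exact EigExc.e6_eigen r hW L x hx (Or.inr (Or.inr ⟨rfl, rfl⟩))

theorem concl_E7 (hq : Fintype.card F = q) (hrq : ¬ r ∣ q)
    (hrW : ¬ r ∣ ([2, 6, 8, 10, 12, 14, 18] : List ℕ).prod)
    (hrG : r ∣ Nat.card ↥(chevE7.group F)) :
    Concl chevE7 [2, 6, 8, 10, 12, 14, 18] F q r := by
  have hn : (2903040 : ℕ) = ([2, 6, 8, 10, 12, 14, 18] : List ℕ).prod := rfl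
  refine concl_of EigExc.ctxE7 hq [2, 6, 8, 10, 12, 14, 18] rfl H52.divisorsE7
    (H52.e7_card H52.divisorsE7) (fun K _ _ => H52.e7_card H52.divisorsE7) hrq hrW hrG hn
    EigExc.e7_pow rfl (by decide +kernel) [4] (by decide +kernel) fun d hd L x hx => ?_
  simp only [List.mem_cons, List.not_mem_nil, or_false] at hd
  subst hd
  exact EigExc.e7_eigen r (hn ▸ hrW) L x hx

end SylowHom

end H54
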