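import Cfsg.Agent.H54.TorusFusion
import Cfsg.Agent.H54.CycloMult
import Cfsg.Agent.H40.CycloValuation
import Cfsg.Agent.H40.LargeSylow

/-!
Sylow subgroups of Chevalley groups for primes not dividing the order of the Weyl group: they are
homocyclic as soon as the eigenspaces of the Weyl group modulo the prime are small.
-/

set_option autoImplicit false
set_option linter.unusedSectionVars false

open Cfsg.Lie
open scoped MatrixGroups Matrix

namespace H54

namespace SylowHom

/-- A finite abelian group of exponent dividing `r ^ k`, order `r ^ (k a)` and rank at most `a` is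
homocyclic. -/
theorem iso_pi {A : Type*} [CommGroup A] [Finite A] (r k a : ℕ) [hr : Fact r.Prime] (hk : 0 < k)
    (hexp : ∀ x : A, x ^ r ^ k = 1) (hcard : Nat.card A = r ^ (k * a))
    (hrank : Nat.card {x : A // x ^ r = 1} ≤ r ^ a) :
    Nonempty (A ≃* (Fin a → Multiplicative (ZMod (r ^ k)))) := by
  classical
  obtain ⟨ι, hι, n, hn1, ⟨e⟩⟩ := CommGroup.equiv_prod_multiplicative_zmod_of_finite A
  have hdvd : ∀ i, n i ∣ r ^ k := by
    intro i
    have h1 := congrArg e (hexp (e.symm (Pi.mulSingle i (Multiplicative.ofAdd (1 : ZMod (n i))))))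
    rw [map_pow, MulEquiv.apply_symm_apply, map_one e] at h1
    have h2 := congrFun h1 i
    rw [Pi.pow_apply, Pi.mulSingle_eq_same, ← ofAdd_nsmul, Pi.one_apply, ofAdd_eq_one,
      nsmul_one, ZMod.natCast_eq_zero_iff] at h2
    exact h2
  choose ex hexle hex using fun i => (Nat.dvd_prime_pow hr.out).1 (hdvd i)
  have hexpos : ∀ i, 0 < ex i := fun i => Nat.pos_of_ne_zero fun h => by
    have := hn1 i; rw [hex i, h, pow_zero] at this; exact lt_irrefl _ this
  have : ∀ i, NeZero (n i) := fun i => ⟨by have := hn1 i; omega⟩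
  have hsum : ∑ i, ex i = k * a := by
    refine Nat.pow_right_injective hr.out.two_le ?_
    show r ^ (∑ i, ex i) = r ^ (k * a)
    rw [← hcard, Nat.card_congr e.toEquiv, Nat.card_pi, ← Finset.prod_pow_eq_pow_sum]
    refine Finset.prod_congr rfl fun i _ => ?_
    rw [Nat.card_congr Multiplicative.toAdd, Nat.card_zmod, hex i]
  have hι : Fintype.card ι ≤ a := by
    refine (Nat.pow_le_pow_iff_right hr.out.one_lt).1 (le_trans ?_ hrank)
    let f : {x : A // x ^ r = 1} ≃ ((i : ι) → {y : Multiplicative (ZMod (n i)) // y ^ r = 1}) :=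
      { toFun := fun x i => ⟨e x.1 i, by rw [← Pi.pow_apply, ← map_pow, x.2, map_one]; rfl⟩
        invFun := fun y => ⟨e.symm fun i => (y i).1, by
          rw [← map_pow, show (fun i => (y i).1) ^ r = 1 from funext fun i => (y i).2, map_one]⟩
        left_inv := fun x => Subtype.ext (e.symm_apply_apply _)
        right_inv := fun y => funext fun i => Subtype.ext (by simp) }
    rw [Nat.card_congr f, Nat.card_pi, ← Finset.card_univ, ← Finset.prod_const]
    refine le_of_eq (Finset.prod_congr rfl fun i _ => ?_)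
    symm
    rw [show Nat.card {y : Multiplicative (ZMod (n i)) // y ^ r = 1} =
      Nat.card (powMonoidHom r : Multiplicative (ZMod (n i)) →* _).ker from rfl,
      IsCyclic.card_powMonoidHom_ker, Nat.card_congr Multiplicative.toAdd, Nat.card_zmod, hex i]
    exact Nat.gcd_eq_right (dvd_pow_self r (hexpos i).ne')
  have hle : ∑ i, ex i ≤ Fintype.card ι * k := by
    calc ∑ i, ex i ≤ ∑ _i : ι, k := Finset.sum_le_sum fun i _ => hexle i
      _ = _ := by simp
  have hιa : Fintype.card ι = a := le_antisymm hι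
    (Nat.le_of_mul_le_mul_right (by rw [mul_comm a k, ← hsum]; exact hle) hk)
  have heq : ∀ i, n i = r ^ k := by
    intro i
    rw [hex i]
    congr 1
    refine ((Finset.sum_eq_sum_iff_of_le (f := ex) (g := fun _ => k) fun j _ => hexle j).1 ?_) i
      (Finset.mem_univ _)
    rw [hsum, Finset.sum_const, Finset.card_univ, hιa, smul_eq_mul, mul_comm]
  exact ⟨(e.trans (MulEquiv.piCongrRight fun i =>
    AddEquiv.toMultiplicative (ZMod.ringEquivCongr (heq i)).toAddEquiv)).trans
    (MulEquiv.arrowCongr (Fintype.equivFinOfCardEq hιa) (MulEquiv.refl _))⟩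

section

variable (q r : ℕ) [hr : Fact r.Prime]

/-- The `r`-part of `q ^ i - 1` for `i` prime to `r`. -/
theorem val_pow_sub_one (hq : 2 ≤ q) (hrq : ¬ r ∣ q) {i : ℕ} (hi : 0 < i) (hir : ¬ r ∣ i) :
    padicValNat r (q ^ i - 1) =
      if orderOf (q : ZMod r) ∣ i then H40.cycloExp q r else 0 := by
  classical
  split_ifs with h
  · obtain ⟨j, hj⟩ := h
    set d := orderOf (q : ZMod r) with hd
    have hdpos : 0 < d := H40.orderOf_pos_of_not_dvd q r hrq
    have hjr : ¬ r ∣ j := fun h => hir (hj ▸ h.mul_left d)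
    have hgeom : q ^ i - 1 = (∑ t ∈ Finset.range j, (q ^ d) ^ t) * (q ^ d - 1) := by
      have h1 : 1 ≤ q ^ d := Nat.one_le_pow _ _ (by omega)
      have h2 : 1 ≤ q ^ i := Nat.one_le_pow _ _ (by omega)
      zify [h1, h2]
      rw [hj, pow_mul, geom_sum_mul]
    have hsum : ¬ r ∣ ∑ t ∈ Finset.range j, (q ^ d) ^ t := by
      rw [← ZMod.natCast_eq_zero_iff, Nat.cast_sum]
      have hqd : ((q : ZMod r)) ^ d = 1 := pow_orderOf_eq_one _
      simp only [Nat.cast_pow, hqd, one_pow, Finset.sum_const, Finset.card_range, nsmul_eq_mul,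
        mul_one]
      rw [ZMod.natCast_eq_zero_iff]
      exact hjr
    have hd1 : q ^ d - 1 ≠ 0 := by
      have : q ≤ q ^ d := Nat.le_self_pow hdpos.ne' q
      omega
    rw [hgeom, padicValNat.mul (fun h0 => hsum (by rw [h0]; exact dvd_zero r)) hd1,
      padicValNat.eq_zero_of_not_dvd hsum, zero_add, hd,
      H40.padicValNat_pow_order_sub_one q r hq hrq]
  · rw [padicValNat.eq_zero_of_not_dvd]
    rwa [H40.dvd_pow_sub_one_iff q r (by omega)]

theorem val_prod (hq : 2 ≤ q) (hrq : ¬ r ∣ q) : ∀ ds : List ℕ, (∀ e ∈ ds, 0 < e ∧ ¬ r ∣ e) →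
    (ds.map fun e => q ^ e - 1).prod ≠ 0 ∧
    padicValNat r (ds.map fun e => q ^ e - 1).prod =
      H40.cycloExp q r * (ds.filter fun e => orderOf (q : ZMod r) ∣ e).length
  | [], _ => by simp
  | e :: ds, h => by
    obtain ⟨h0, h1⟩ := val_prod hq hrq ds fun x hx => h x (List.mem_cons_of_mem _ hx)
    obtain ⟨he, hre⟩ := h e List.mem_cons_self
    have hne : q ^ e - 1 ≠ 0 := by
      have : q ≤ q ^ e := Nat.le_self_pow he.ne' q
      omega
    refine ⟨by rw [List.map_cons, List.prod_cons]; exact mul_ne_zero hne h0, ?_⟩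
    rw [List.map_cons, List.prod_cons, padicValNat.mul hne h0, h1, val_pow_sub_one q r hq hrq he hre,
      List.filter_cons]
    by_cases hd : orderOf (q : ZMod r) ∣ e
    · simp [hd, mul_add, add_comm]
    · simp [hd]

/-- The `r`-part of the group order. -/
theorem val_card {l N G : ℕ} (g : Fin l → ℕ) (hg : ∀ i, ¬ r ∣ g i) (hq : 2 ≤ q) (hrq : ¬ r ∣ q)
    (ds : List ℕ) (hds : ∀ e ∈ ds, 0 < e ∧ ¬ r ∣ e) (hG : G ≠ 0)
    (h : (∏ i, (q - 1).gcd (g i)) * G = q ^ N * (ds.map fun e => q ^ e - 1).prod) :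
    G.factorization r = H40.cycloExp q r * (ds.filter fun e => orderOf (q : ZMod r) ∣ e).length := by
  obtain ⟨h0, h1⟩ := val_prod q r hq hrq ds hds
  have hprod : ¬ r ∣ ∏ i, (q - 1).gcd (g i) := fun hd => by
    obtain ⟨i, -, hi⟩ := (hr.out.prime.dvd_finsetProd_iff _).1 hd
    exact hg i (hi.trans (Nat.gcd_dvd_right _ _))
  have hprod0 : ∏ i, (q - 1).gcd (g i) ≠ 0 := fun h0 => hprod (h0 ▸ dvd_zero r)
  have := congrArg (padicValNat r) h
  rw [padicValNat.mul hprod0 hG, padicValNat.eq_zero_of_not_dvd hprod, zero_add,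
    padicValNat.mul (pow_ne_zero _ (by omega)) h0, padicValNat.pow,
    padicValNat.eq_zero_of_not_dvd hrq, mul_zero, zero_add, h1] at this
  rw [Nat.factorization_def _ hr.out, this]

end

section

variable {D : ChevalleyDatum} (C : Ctx D)

include C in
/-- A torus element of `r`-power order is determined by its parameters. -/
theorem torus_eq_one {K : Type*} [Field K] {dd : Fin D.rank → ℕ} (hdd : H52.HasDivisors D dd)
    {n : ℕ} (hn : ∀ i, Nat.Coprime n (dd i)) {c : Fin D.rank → Kˣ} (hc : c ^ n = 1)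
    (h : H52.torus D c = 1) : c = 1 := by
  obtain ⟨P, P', Q, Q', h1, h2, h3, h4⟩ := hdd
  have hA := (C.hC.mem_torus_ker_iff c).1 h
  have hPA : Matrix.diagonal (fun i => (dd i : ℤ)) * Q' =
      P * Matrix.of fun j i : Fin D.rank => D.cartan i.val (D.simple j.val) := by
    rw [← h4, Matrix.mul_assoc, h2, Matrix.mul_one]
  have hy : H52.mact Q' c = 1 := by
    funext i
    have e1 : H52.mact (Matrix.diagonal fun i => (dd i : ℤ)) (H52.mact Q' c) = 1 := by
      rw [H52.mact_mact, hPA, ← H52.mact_mact, hA, map_one]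
    have e2 := congrFun e1 i
    rw [H52.mact_apply, Finset.prod_eq_single i, Matrix.diagonal_apply_eq, zpow_natCast] at e2
    · have e3 : (H52.mact Q' c i) ^ n = 1 := by
        rw [← Pi.pow_apply, ← map_pow, hc, map_one]; rfl
      have := pow_gcd_eq_one.2 ⟨e3, e2⟩
      rwa [hn i, pow_one] at this
    · intro j _ hj; rw [Matrix.diagonal_apply_ne _ hj.symm, zpow_zero]
    · simp
  rw [← H52.mact_one c, ← h2, ← H52.mact_mact, hy, map_one]

include C in
/-- The character values on all roots from those on the fundamental roots. -/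
theorem char_eq {K : Type*} [Field K] (c : Fin D.rank → Kˣ) (s : Fin D.nroots) :
    ∏ i : Fin D.rank, c i ^ D.cartan i.val s.val =
      ∏ b : Fin D.rank, (∏ i : Fin D.rank, c i ^ D.cartan i.val (D.simple b.val)) ^ C.cvec s b := by
  simp only [← Finset.prod_zpow, ← zpow_mul]
  rw [Finset.prod_comm]
  refine Finset.prod_congr rfl fun i _ => ?_
  rw [H52.prod_zpow_eq, C.hC.cartan_eq s.isLt i.isLt, Finset.sum_range]
  congr 1
  exact Finset.sum_congr rfl fun b _ => mul_comm _ _

include C in
/-- Sylow subgroups for primes away from the Weyl group are homocyclic, given the bound on the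
eigenspaces of the Weyl group modulo the prime. -/
theorem homocyclic {F : Type*} [Field F] [Fintype F] {q : ℕ} (hq : Fintype.card F = q)
    (ds : List ℕ) (hlen : ds.length = D.rank) {dd : Fin D.rank → ℕ}
    (hdd : H52.HasDivisors D dd)
    (hF : (∏ i, (q - 1).gcd (dd i)) * Nat.card ↥(D.group F) =
      q ^ (D.nroots / 2) * (ds.map fun e => q ^ e - 1).prod)
    (hK : ∀ (K : Type) [Field K] [Fintype K],
      (∏ i, (Fintype.card K - 1).gcd (dd i)) * Nat.card ↥(D.group K) =
        Fintype.card K ^ (D.nroots / 2) * (ds.map fun e => Fintype.card K ^ e - 1).prod)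
    (r : ℕ) [hr : Fact r.Prime] (hrq : ¬ r ∣ q) (hrG : r ∣ Nat.card ↥(D.group F))
    (hds : ∀ e ∈ ds, 0 < e ∧ ¬ r ∣ e) (hddr : ∀ i, ¬ r ∣ dd i)
    (hbound : ∀ (L : List (Fin D.rank)) (x : ZMod r), orderOf x = orderOf (q : ZMod r) →
      (ds.filter fun e => orderOf (q : ZMod r) ∣ e).length ≠ 0 →
      Nat.card {v : Fin D.rank → ZMod r //
        ((Ctx.wmat D L).map (Int.castRingHom (ZMod r))).vecMul v = x • v} ≤
          r ^ (ds.filter fun e => orderOf (q : ZMod r) ∣ e).length)
    (P : Sylow r ↥(D.group F)) :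
    Nonempty (↥(P : Subgroup ↥(D.group F)) ≃*
      (Fin (ds.filter fun e => orderOf (q : ZMod r) ∣ e).length →
        Multiplicative (ZMod (r ^ H40.cycloExp q r)))) := by
  classical
  set d := orderOf (q : ZMod r) with hd
  set a := (ds.filter fun e => d ∣ e).length with ha
  set k := H40.cycloExp q r with hk
  have hq2 : 2 ≤ q := hq ▸ Fintype.one_lt_card
  have hdpos : 0 < d := H40.orderOf_pos_of_not_dvd q r hrq
  have hGF : (Nat.card ↥(D.group F)).factorization r = k * a :=
    val_card q r dd hddr hq2 hrq ds hds Nat.card_pos.ne' hF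
  have hka : k * a ≠ 0 := by
    rw [← hGF]
    exact (hr.out.factorization_pos_of_dvd Nat.card_pos.ne' hrG).ne'
  have hkpos : 0 < k := Nat.pos_of_ne_zero (left_ne_zero_of_mul hka)
  have hrd : ¬ r ∣ d := fun h => by
    have h0 : (q : ZMod r) ≠ 0 := by rwa [Ne, ZMod.natCast_eq_zero_iff]
    have h2 := Nat.le_of_dvd (by have := hr.out.two_le; omega)
      (h.trans (ZMod.orderOf_dvd_card_sub_one h0))
    have := hr.out.two_le
    omega
  -- the larger field
  obtain ⟨p, hp⟩ := CharP.exists F
  have : Fact p.Prime := ⟨CharP.char_is_prime F p⟩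
  have : NeZero d := ⟨hdpos.ne'⟩
  let K := FiniteField.Extension F p d
  let iK : Fintype K := Fintype.ofFinite K
  have hcK : Fintype.card K = q ^ d := by
    rw [Fintype.card_eq_nat_card, FiniteField.natCard_extension, Nat.card_eq_fintype_card, hq]
  let ι : F →+* K := algebraMap F K
  let σ : K ≃+* K := (FiniteField.Extension.frob F p d).toRingEquiv
  have hσ : ∀ x, σ x = x ^ q := fun x => by
    show FiniteField.Extension.frob F p d x = _
    rw [FiniteField.Extension.frob_apply, Nat.card_eq_fintype_card, hq]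
  have hι : ∀ x, (∃ y, ι y = x) ↔ σ x = x := by
    intro x
    refine ⟨fun ⟨y, hy⟩ => hy ▸ (FiniteField.Extension.frob F p d).commutes y, fun h => ?_⟩
    have : x ∈ (algebraMap F K).range := by
      refine (IsGalois.mem_range_algebraMap_iff_fixed x).2 fun g => ?_
      obtain ⟨i, -, rfl⟩ := FiniteField.Extension.exists_frob_pow_eq F p d g
      induction i with
      | zero => rfl
      | succ i ih =>
        rw [pow_succ, AlgEquiv.mul_apply]
        exact (congrArg _ h).trans ih
    exact RingHom.mem_range.1 this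
  -- the r-torus
  have hQ2 : 2 ≤ q ^ d := hq2.trans (Nat.le_self_pow hdpos.ne' q)
  have hrQ : ¬ r ∣ q ^ d := fun h => hrq (hr.out.dvd_of_dvd_pow h)
  have hordQ : orderOf ((q ^ d : ℕ) : ZMod r) = 1 := by
    rw [Nat.cast_pow, pow_orderOf_eq_one, orderOf_one]
  have hkQ : H40.cycloExp (q ^ d) r = k := by
    rw [← H40.padicValNat_pow_order_sub_one _ r hQ2 hrQ, hordQ, pow_one,
      H40.padicValNat_pow_order_sub_one _ r hq2 hrq]
  have hGK : (Nat.card ↥(D.group K)).factorization r = k * D.rank := by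
    have h := hK K
    rw [hcK] at h
    rw [val_card (q ^ d) r dd hddr hQ2 hrQ ds hds Nat.card_pos.ne' h, hkQ, hordQ]
    simp [← hlen]
  have hrk : r ^ k ∣ Nat.card K - 1 := by
    rw [Nat.card_eq_fintype_card, hcK]
    exact H40.pow_cycloExp_dvd r q hq2 hrq
  have : NeZero (r ^ k) := ⟨pow_ne_zero _ hr.out.ne_zero⟩
  obtain ⟨φ, hφ⟩ := H40.exists_cyclic_units K (r ^ k) hrk
  let ψ₀ : (Fin D.rank → Multiplicative (ZMod (r ^ k))) →* GL D.Idx K :=
    (H52.torus D).comp (φ.compLeft (Fin D.rank))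
  have hmemψ : ∀ ξ, ψ₀ ξ ∈ D.group K := fun ξ =>
    C.diag_le_group (C.hC.torus_mem_diag _)
  let ψ : (Fin D.rank → Multiplicative (ZMod (r ^ k))) →* ↥(D.group K) :=
    ψ₀.codRestrict _ hmemψ
  have hpowξ : ∀ ξ : Fin D.rank → Multiplicative (ZMod (r ^ k)), ξ ^ r ^ k = 1 := fun ξ => by
    funext i
    have h : Nat.card (Multiplicative (ZMod (r ^ k))) = r ^ k := by
      rw [Nat.card_congr Multiplicative.toAdd, Nat.card_zmod]
    show ξ i ^ r ^ k = 1
    have := pow_card_eq_one' (x := ξ i)
    rwa [h] at this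
  have hψ : Function.Injective ψ := by
    refine (injective_iff_map_eq_one ψ).2 fun ξ hξ => ?_
    have h1 : H52.torus D (φ.compLeft (Fin D.rank) ξ) = 1 := congrArg Subtype.val hξ
    have h2 := torus_eq_one C hdd (n := r ^ k)
      (fun i => (Nat.Coprime.pow_left _ (hr.out.coprime_iff_not_dvd.2 (hddr i))))
      (by rw [← map_pow, hpowξ, map_one]) h1
    funext i
    exact hφ ((congrFun h2 i).trans (map_one φ).symm)
  let S : Sylow r ↥(D.group K) := Sylow.ofCard ψ.range (by
    rw [← Nat.card_congr (MonoidHom.ofInjective hψ).toEquiv, H40.card_torus, ← pow_mul, hGK])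
  let ιG : ↥(D.group F) →* ↥(D.group K) :=
    ((glF D ι).comp (D.group F).subtype).codRestrict _ fun x => C.glF_group_le ι ⟨x, x.2, rfl⟩
  have hιG : Function.Injective ιG := fun x y h =>
    Subtype.ext (glF_injective ι (congrArg Subtype.val h))
  obtain ⟨S', hS'⟩ := (P.isPGroup'.map ιG).exists_le_sylow
  obtain ⟨g, hg⟩ := MulAction.exists_smul_eq ↥(D.group K) S' S
  have hPR : ∀ x : ↥(P : Subgroup ↥(D.group F)), ∃ ξ, ψ ξ = g * ιG x.1 * g⁻¹ := by
    intro x
    have h1 : g * ιG x.1 * g⁻¹ ∈ ((g • S' : Sylow r ↥(D.group K)) : Subgroup ↥(D.group K)) := by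
      rw [Sylow.coe_subgroup_smul]
      exact Subgroup.smul_mem_pointwise_smul _ (MulAut.conj g) _ (hS' ⟨x.1, x.2, rfl⟩)
    rw [hg, Sylow.coe_ofCard] at h1
    exact h1
  choose ξ hξ using hPR
  let η : ↥(P : Subgroup ↥(D.group F)) →* (Fin D.rank → Multiplicative (ZMod (r ^ k))) :=
    { toFun := ξ
      map_one' := hψ (by rw [hξ, map_one]; simp)
      map_mul' := fun x y => hψ (by rw [map_mul, hξ, hξ, hξ, Subgroup.coe_mul, map_mul]; group) }
  have hη : Function.Injective η := fun x y h => by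
    have : ψ (ξ x) = ψ (ξ y) := congrArg ψ h
    rw [hξ, hξ] at this
    exact Subtype.ext (hιG (mul_left_cancel (mul_right_cancel this)))
  let icg : CommGroup ↥(P : Subgroup ↥(D.group F)) :=
    { (inferInstance : Group ↥(P : Subgroup ↥(D.group F))) with
      mul_comm := fun x y => hη (by rw [map_mul, map_mul, mul_comm]) }
  have hexp : ∀ x : ↥(P : Subgroup ↥(D.group F)), x ^ r ^ k = 1 := fun x =>
    hη (by rw [map_pow, hpowξ, map_one])
  have hcP : Nat.card ↥(P : Subgroup ↥(D.group F)) = r ^ (k * a) := by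
    rw [P.card_eq_multiplicity, hGF]
  refine iso_pi r k a hkpos hexp hcP ?_
  -- elements of order r
  obtain ⟨L, hL⟩ := C.exists_fusion_word
    (c := glF D σ.toRingHom (g : GL D.Idx K) * (g : GL D.Idx K)⁻¹)
    (mul_mem (C.glF_group_le σ.toRingHom ⟨_, g.2, rfl⟩) (inv_mem g.2))
  have hx0 : orderOf (q : ZMod r)⁻¹ = d := by
    rw [hd]
    exact (IsPrimitiveRoot.orderOf (q : ZMod r)).inv.eq_orderOf.symm
  refine le_trans ?_ (hbound L _ hx0 (right_ne_zero_of_mul hka))
  have hrK : r ∣ Nat.card K - 1 := (dvd_pow_self r hkpos.ne').trans hrk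
  obtain ⟨θ, hθ⟩ := H40.exists_cyclic_units K r hrK
  have hθsurj : ∀ u : Kˣ, u ^ r = 1 → ∃ z, θ z = u := by
    intro u hu
    have hle : θ.range ≤ (powMonoidHom r : Kˣ →* Kˣ).ker := by
      rintro _ ⟨z, rfl⟩
      rw [MonoidHom.mem_ker, powMonoidHom_apply, ← map_pow]
      have h : Nat.card (Multiplicative (ZMod r)) = r := by
        rw [Nat.card_congr Multiplicative.toAdd, Nat.card_zmod]
      have hz := pow_card_eq_one' (x := z)
      rw [h] at hz
      rw [hz, map_one]
    have heq : θ.range = (powMonoidHom r : Kˣ →* Kˣ).ker := by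
      refine Subgroup.eq_of_le_of_card_ge hle ?_
      rw [IsCyclic.card_powMonoidHom_ker, Nat.card_units, ← Nat.card_congr
        (MonoidHom.ofInjective hθ).toEquiv, Nat.card_congr Multiplicative.toAdd, Nat.card_zmod]
      exact Nat.le_of_dvd hr.out.pos (Nat.gcd_dvd_right _ _)
    have : u ∈ θ.range := heq ▸ hu
    exact this
  -- parameters, twist and logarithms of an element of order r
  have key : ∀ x : {x : ↥(P : Subgroup ↥(D.group F)) // x ^ r = 1},
      ∃ v : {v : Fin D.rank → ZMod r //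
        ((Ctx.wmat D L).map (Int.castRingHom (ZMod r))).vecMul v = (q : ZMod r)⁻¹ • v},
        ∀ b : Fin D.rank, θ (Multiplicative.ofAdd (v.1 b)) =
          ∏ i : Fin D.rank, φ (η x.1 i) ^ D.cartan i.val (D.simple b.val) := by
    intro x
    set c : Fin D.rank → Kˣ := fun i => φ (η x.1 i) with hc
    have hy : (H52.torus D c : GL D.Idx K) =
        (g : GL D.Idx K) * glF D ι (x.1.1 : GL D.Idx F) * (g : GL D.Idx K)⁻¹ :=
      congrArg Subtype.val (hξ x.1)
    have hcr : ∀ i, c i ^ r = 1 := fun i => by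
      have : η x.1 ^ r = 1 := by rw [← map_pow, x.2, map_one]
      rw [hc]
      simp only
      rw [← map_pow, ← Pi.pow_apply, this, Pi.one_apply, map_one]
    have hFr : glF D σ.toRingHom (H52.torus D c) = H52.torus D c ^ q := by
      rw [Ctx.glF_torus, ← map_pow]
      congr 1
      funext i
      exact Units.ext (by simp [hσ])
    have hfix : glF D σ.toRingHom (glF D ι (x.1.1 : GL D.Idx F)) = glF D ι (x.1.1 : GL D.Idx F) := by
      rw [glF_comp]
      congr 1
      exact congrArg _ (RingHom.ext fun y => (hι (ι y)).1 ⟨y, rfl⟩)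
    have hconj : glF D σ.toRingHom (g : GL D.Idx K) * (g : GL D.Idx K)⁻¹ * H52.torus D c *
        (glF D σ.toRingHom (g : GL D.Idx K) * (g : GL D.Idx K)⁻¹)⁻¹ = H52.torus D c ^ q := by
      rw [← hFr]
      conv_lhs => rw [hy]
      conv_rhs => rw [hy, map_mul, map_mul, map_inv, hfix]
      group
    have hnw := hL _ (C.hC.torus_mem_diag c) (by
      rw [hconj]; exact pow_mem (C.hC.torus_mem_diag c) _)
    rw [hconj] at hnw
    have htw := C.torus_twist hnw
    have hfr : ∀ b : Fin D.rank,
        (∏ i : Fin D.rank, c i ^ D.cartan i.val (D.simple b.val)) ^ r = 1 := fun b => by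
      rw [← Finset.prod_pow]
      exact Finset.prod_eq_one fun i _ => by
        rw [← zpow_natCast, ← zpow_mul, mul_comm, zpow_mul, zpow_natCast, hcr, one_zpow]
    choose z hz using fun b => hθsurj _ (hfr b)
    have hval : ∀ s : Fin D.nroots, ∏ i : Fin D.rank, c i ^ D.cartan i.val s.val =
        θ (Multiplicative.ofAdd (∑ b, (C.cvec s b : ZMod r) * (z b).toAdd)) := by
      intro s
      rw [char_eq C, ofAdd_sum, map_prod]
      refine Finset.prod_congr rfl fun b _ => ?_
      rw [← zsmul_eq_mul, ofAdd_zsmul, map_zpow, ofAdd_toAdd, hz]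
    refine ⟨⟨fun b => (z b).toAdd, funext fun b => ?_⟩, fun b => hz b⟩
    have h1 := htw (C.simpleF b)
    rw [hval, hval, ← map_pow, ← ofAdd_nsmul] at h1
    have h2 := congrArg Multiplicative.toAdd (hθ h1)
    simp only [toAdd_ofAdd, nsmul_eq_mul] at h2
    rw [Finset.sum_eq_single b (fun j _ hj => by simp [C.cvec_simpleF, Pi.single_eq_of_ne hj])
      (by simp), C.cvec_simpleF, Pi.single_eq_same, Int.cast_one, one_mul] at h2
    have hq0 : (q : ZMod r) ≠ 0 := by rwa [Ne, ZMod.natCast_eq_zero_iff]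
    rw [Pi.smul_apply, smul_eq_mul]
    conv_rhs => rw [h2, inv_mul_cancel_left₀ hq0]
    have hcol : ∀ j, C.cvec (C.wperm L (C.simpleF b)) j = Ctx.wmat D L j b := fun j => by
      rw [← C.wmat_mulVec, C.cvec_simpleF, Matrix.mulVec_single_one]; rfl
    simp only [Matrix.vecMul, dotProduct, Matrix.map_apply, hcol, eq_intCast]
    exact Finset.sum_congr rfl fun j _ => mul_comm _ _
  choose v hv using key
  refine Nat.card_le_card_of_injective v fun x y h => ?_
  have hb : ∀ b : Fin D.rank, ∏ i : Fin D.rank, φ (η x.1 i) ^ D.cartan i.val (D.simple b.val) =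
      ∏ i : Fin D.rank, φ (η y.1 i) ^ D.cartan i.val (D.simple b.val) := fun b => by
    rw [← hv x b, ← hv y b, h]
  have ht : H52.torus D (fun i => φ (η x.1 i)) = H52.torus D fun i => φ (η y.1 i) := by
    rw [H52.torus_apply, H52.torus_apply]
    refine H52.dgR_congr fun s hs => ?_
    rw [char_eq C _ ⟨s, hs⟩, char_eq C _ ⟨s, hs⟩]
    exact Finset.prod_congr rfl fun b _ => by rw [hb b]
  exact Subtype.ext (hη (hψ (Subtype.ext ht)))

end

end SylowHom

end H54
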