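import Cfsg.Agent.H54.TorusFusion
import Cfsg.Agent.H54.SylowTorus

/-!
Torus elements of prime order as functionals on the root lattice modulo the prime, their twists by
Weyl words, and regular sets of torus elements.
-/

set_option autoImplicit false
set_option linter.unusedSectionVars false

open Cfsg.Lie
open scoped MatrixGroups Matrix

namespace H54

namespace TorusLog

/-- The units of `ℓ`-power one. -/
theorem exists_theta (K : Type*) [Field K] [Finite K] (ℓ : ℕ) [hl : Fact ℓ.Prime]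
    (h : ℓ ∣ Nat.card K - 1) :
    ∃ θ : Multiplicative (ZMod ℓ) →* Kˣ, Function.Injective θ ∧
      ∀ u : Kˣ, u ^ ℓ = 1 → ∃ z, θ z = u := by
  obtain ⟨θ, hθ⟩ := H40.exists_cyclic_units K ℓ h
  refine ⟨θ, hθ, fun u hu => ?_⟩
  have hc : Nat.card (Multiplicative (ZMod ℓ)) = ℓ := by
    rw [Nat.card_congr Multiplicative.toAdd, Nat.card_zmod]
  have hle : θ.range ≤ (powMonoidHom ℓ : Kˣ →* Kˣ).ker := by
    rintro _ ⟨z, rfl⟩
    rw [MonoidHom.mem_ker, powMonoidHom_apply, ← map_pow]
    have hz := pow_card_eq_one' (x := z)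
    rw [hc] at hz
    rw [hz, map_one]
  have heq : θ.range = (powMonoidHom ℓ : Kˣ →* Kˣ).ker := by
    refine Subgroup.eq_of_le_of_card_ge hle ?_
    rw [IsCyclic.card_powMonoidHom_ker, Nat.card_units, ← Nat.card_congr
      (MonoidHom.ofInjective hθ).toEquiv, hc]
    exact Nat.le_of_dvd hl.out.pos (Nat.gcd_dvd_right _ _)
  have hmem : u ∈ θ.range := heq ▸ hu
  exact hmem

variable {D : ChevalleyDatum} (C : Ctx D) {K : Type*} [Field K]

/-- The character of a torus element on the roots. -/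
def chi (_C : Ctx D) (c : Fin D.rank → Kˣ) (s : Fin D.nroots) : Kˣ :=
  ∏ i : Fin D.rank, c i ^ D.cartan i.val s.val

theorem torus_ext {c c' : Fin D.rank → Kˣ} (h : ∀ s, chi C c s = chi C c' s) :
    H52.torus D c = H52.torus D c' := by
  rw [H52.torus_apply, H52.torus_apply]
  exact H52.dgR_congr fun s hs => h ⟨s, hs⟩

theorem chi_pow (c : Fin D.rank → Kˣ) (n : ℕ) (s : Fin D.nroots) :
    chi C (c ^ n) s = chi C c s ^ n := by
  simp only [chi]
  rw [← Finset.prod_pow]
  refine Finset.prod_congr rfl fun i _ => ?_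
  rw [Pi.pow_apply, ← zpow_natCast, ← zpow_natCast, ← zpow_mul, ← zpow_mul, mul_comm]

theorem chi_of_torus_eq_one {c : Fin D.rank → Kˣ} (h : H52.torus D c = 1) (s : Fin D.nroots) :
    chi C c s = 1 := by
  have h1 := congrArg (fun g : GL D.Idx K => (g : Matrix D.Idx D.Idx K)) h
  simp only [H52.torus_apply, H52.coe_dgR, Units.val_one] at h1
  have h2 := congrFun (congrFun h1 (Sum.inr s)) (Sum.inr s)
  simp only [Matrix.diagonal_apply_eq, Matrix.one_apply_eq, Sum.elim_inr] at h2
  exact Units.ext h2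

theorem chi_eq_of_simple {c : Fin D.rank → Kˣ} {ℓ : ℕ} [Fact ℓ.Prime]
    (θ : Multiplicative (ZMod ℓ) →* Kˣ) {φ : Fin D.rank → ZMod ℓ}
    (h : ∀ b, chi C c (C.simpleF b) = θ (Multiplicative.ofAdd (φ b))) (s : Fin D.nroots) :
    chi C c s = θ (Multiplicative.ofAdd (φ ⬝ᵥ fun j => (C.cvec s j : ZMod ℓ))) := by
  show ∏ i : Fin D.rank, c i ^ D.cartan i.val s.val = _
  rw [SylowHom.char_eq C, dotProduct, ofAdd_sum, map_prod]
  refine Finset.prod_congr rfl fun b _ => ?_
  rw [mul_comm, ← zsmul_eq_mul, ofAdd_zsmul, map_zpow, ← h]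
  rfl

variable {ℓ : ℕ} [hl : Fact ℓ.Prime]

/-- The value of a functional at a root. -/
def rval (φ : Fin D.rank → ZMod ℓ) (s : Fin D.nroots) : ZMod ℓ :=
  φ ⬝ᵥ fun j => (C.cvec s j : ZMod ℓ)

theorem rval_simple (φ : Fin D.rank → ZMod ℓ) (b : Fin D.rank) : rval C φ (C.simpleF b) = φ b := by
  simp [rval, dotProduct, C.cvec_simpleF, Pi.single_apply]

theorem rval_smul (x : ZMod ℓ) (φ : Fin D.rank → ZMod ℓ) (s : Fin D.nroots) :
    rval C (x • φ) s = x * rval C φ s := by
  rw [rval, smul_dotProduct, smul_eq_mul]; rfl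

theorem rval_vecMul (L : List (Fin D.rank)) (φ : Fin D.rank → ZMod ℓ) (s : Fin D.nroots) :
    rval C (((Ctx.wmat D L).map (Int.castRingHom (ZMod ℓ))).vecMul φ) s =
      rval C φ (C.wperm L s) := by
  rw [rval, rval, ← Matrix.dotProduct_mulVec]
  congr 1
  funext j
  rw [← C.wmat_mulVec]
  exact (RingHom.map_mulVec (Int.castRingHom (ZMod ℓ)) (Ctx.wmat D L) (C.cvec s) j).symm

theorem exists_log (θ : Multiplicative (ZMod ℓ) →* Kˣ)
    (hsurj : ∀ u : Kˣ, u ^ ℓ = 1 → ∃ z, θ z = u) (c : Fin D.rank → Kˣ)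
    (h : H52.torus D c ^ ℓ = 1) :
    ∃ φ : Fin D.rank → ZMod ℓ, ∀ s, chi C c s = θ (Multiplicative.ofAdd (rval C φ s)) := by
  rw [← map_pow] at h
  choose z hz using fun b : Fin D.rank =>
    hsurj (chi C c (C.simpleF b)) (by rw [← chi_pow]; exact chi_of_torus_eq_one C h _)
  exact ⟨fun b => (z b).toAdd, chi_eq_of_simple C θ fun b => by rw [ofAdd_toAdd, hz]⟩

/-- Every functional comes from a torus element when the Cartan matrix is unimodular. -/
theorem exists_of_log (θ : Multiplicative (ZMod ℓ) →* Kˣ) {M : List (List ℤ)}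
    (hM : Ctx.cartanInvOK D 1 M = true) (φ : Fin D.rank → ZMod ℓ) :
    ∃ c : Fin D.rank → Kˣ, ∀ s, chi C c s = θ (Multiplicative.ofAdd (rval C φ s)) := by
  simp only [Ctx.cartanInvOK, List.all_eq_true, List.mem_range, beq_iff_eq] at hM
  let A : Matrix (Fin D.rank) (Fin D.rank) ℤ := fun i j => D.cartan i.val (D.simple j.val)
  let M' : Matrix (Fin D.rank) (Fin D.rank) ℤ := fun j k => (M.getD j.val []).getD k.val 0
  have hAM : A * M' = 1 := by
    ext i k
    have := hM i.val i.isLt k.val k.isLt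
    rw [← List.sum_toFinset _ List.nodup_range, List.toFinset_range, Finset.sum_range] at this
    rw [Matrix.mul_apply, Matrix.one_apply]
    simpa [Fin.ext_iff, A, M'] using this
  have hMA : Aᵀ * M'ᵀ = 1 := by
    rw [← Matrix.transpose_mul, mul_eq_one_comm.1 hAM, Matrix.transpose_one]
  refine ⟨H52.mact M'ᵀ fun b => θ (Multiplicative.ofAdd (φ b)), chi_eq_of_simple C θ fun b => ?_⟩
  have := congrFun (H52.mact_mact Aᵀ M'ᵀ fun b => θ (Multiplicative.ofAdd (φ b))) b
  rw [hMA, H52.mact_one] at this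
  exact this

/-- The twist seen on functionals. -/
theorem twist_log (θ : Multiplicative (ZMod ℓ) →* Kˣ) (hθ : Function.Injective θ) {q : ℕ}
    (hq : (q : ZMod ℓ) ≠ 0) {L : List (Fin D.rank)} {c : Fin D.rank → Kˣ}
    {φ : Fin D.rank → ZMod ℓ} (hφ : ∀ s, chi C c s = θ (Multiplicative.ofAdd (rval C φ s))) :
    Ctx.nw D K L * H52.torus D c * (Ctx.nw D K L)⁻¹ = H52.torus D c ^ q ↔
      ((Ctx.wmat D L).map (Int.castRingHom (ZMod ℓ))).vecMul φ = (q : ZMod ℓ)⁻¹ • φ := by
  constructor
  · intro h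
    funext b
    have h1 : chi C c (C.simpleF b) = chi C c (C.wperm L (C.simpleF b)) ^ q :=
      C.torus_twist h (C.simpleF b)
    rw [hφ, hφ, ← map_pow, ← ofAdd_nsmul] at h1
    have h2 := congrArg Multiplicative.toAdd (hθ h1)
    simp only [toAdd_ofAdd, nsmul_eq_mul] at h2
    rw [← rval_vecMul, rval_simple, rval_simple] at h2
    rw [Pi.smul_apply, smul_eq_mul, h2, inv_mul_cancel_left₀ hq]
  · intro h
    obtain ⟨c', hc'⟩ : Ctx.nw D K L * H52.torus D c * (Ctx.nw D K L)⁻¹ ∈
        (H52.torus D (F := K)).range := by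
      rw [← C.hC.diagonalSubgroup_eq]
      exact C.nw_conj_diag L (C.hC.torus_mem_diag c)
    rw [← hc', ← map_pow]
    refine torus_ext C fun u => ?_
    obtain ⟨s, rfl⟩ := (C.wperm L).surjective u
    have hmove : chi C c' (C.wperm L s) = chi C c s := by
      obtain ⟨e, he, hall⟩ := C.nw_conj_rt_all (F := K) L s
      have h1 : H52.torus D c' * (Ctx.nw D K L * H52.rt D s.val (1 : K) * (Ctx.nw D K L)⁻¹) *
          (H52.torus D c')⁻¹ = Ctx.nw D K L * (H52.torus D c * H52.rt D s.val (1 : K) *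
            (H52.torus D c)⁻¹) * (Ctx.nw D K L)⁻¹ := by
        rw [hc']; group
      rw [hall, C.hC.torus_conj_rt c' (C.wperm L s).isLt, C.hC.torus_conj_rt c s.isLt, hall,
        mul_one, mul_one, mul_comm ((_ : Kˣ) : K) (e : K)] at h1
      have h2 := C.hC.rt_injective (C.wperm L s).isLt h1
      have hene : (e : K) ≠ 0 := by rcases he with rfl | rfl <;> simp
      exact Units.ext (mul_left_cancel₀ hene h2)
    rw [hmove, chi_pow, hφ, hφ, ← map_pow, ← ofAdd_nsmul]
    congr 2
    rw [nsmul_eq_mul, ← rval_vecMul, h, rval_smul, mul_inv_cancel_left₀ hq]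

include C in
theorem torus_conj_upProd (c : Fin D.rank → Kˣ) (a : ℕ → K) :
    H52.torus D c * H52.upProd D (D.nroots / 2) a * (H52.torus D c)⁻¹ =
      H52.upProd D (D.nroots / 2) fun r =>
        (if hr : r < D.nroots then (chi C c ⟨r, hr⟩ : K) else 1) * a r := by
  have key : ∀ (n k : ℕ), D.nroots = k + n →
      H52.torus D c * H52.upProd D k a * (H52.torus D c)⁻¹ = H52.upProd D k fun r =>
        (if hr : r < D.nroots then (chi C c ⟨r, hr⟩ : K) else 1) * a r := by
    intro n
    induction n with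
    | zero =>
      intro k hk
      have h1 : ∀ t : ℕ → K, H52.upProd D k t = 1 := fun t => by
        have := H52.Checked.upProd_mem (D := D) k t
        rwa [H52.Checked.upper_eq_bot (D := D) (F := K) (by omega), Subgroup.mem_bot] at this
      rw [h1, h1]; simp
    | succ n ih =>
      intro k hk
      have hlt : k < D.nroots := by omega
      rw [H52.Checked.upProd_step hlt a, H52.Checked.upProd_step hlt _,
        show H52.torus D c * (H52.rt D k (a k) * H52.upProd D (k + 1) a) * (H52.torus D c)⁻¹ =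
          H52.torus D c * H52.rt D k (a k) * (H52.torus D c)⁻¹ *
            (H52.torus D c * H52.upProd D (k + 1) a * (H52.torus D c)⁻¹) by group,
        ih (k + 1) (by omega), C.hC.torus_conj_rt c hlt, dif_pos hlt]
      rfl
  exact key (D.nroots - D.nroots / 2) _ (by omega)

include C in
/-- An element of `U` commuting with a regular set of torus elements is trivial. -/
theorem eq_one_of_regular {ι : Type*} (c : ι → Fin D.rank → Kˣ)
    (hreg : ∀ s : Fin D.nroots, ∃ i, chi C (c i) s ≠ 1) {u : GL D.Idx K}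
    (hu : u ∈ D.posUnipotent K)
    (h : ∀ i, H52.torus D (c i) * u * (H52.torus D (c i))⁻¹ = u) : u = 1 := by
  rw [C.hC.posUnipotent_eq] at hu
  obtain ⟨a, rfl⟩ := C.hC.exists_upProd le_rfl hu
  have ha : H52.upProd D (D.nroots / 2) a = H52.upProd D (D.nroots / 2) fun _ => (0 : K) := by
    refine H52.Checked.upProd_congr fun r hr hr' => ?_
    obtain ⟨i, hi⟩ := hreg ⟨r, hr'⟩
    have h1 := h i
    rw [torus_conj_upProd C] at h1
    have h2 := C.hC.upProd_injective le_rfl h1 r hr hr'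
    simp only [dif_pos hr', mul_left_eq_self₀] at h2
    exact h2.resolve_left fun e => hi (Units.ext e)
  rw [ha]
  simp only [H52.upProd, H52.wordRt, List.map_map]
  refine List.prod_eq_one fun x hx => ?_
  obtain ⟨k, -, rfl⟩ := List.mem_map.1 hx
  exact C.hC.rt_zero k

include C in
/-- An element carrying a regular set of torus elements into the torus is monomial. -/
theorem mono_of_regular {ι : Type*} (c c' : ι → Fin D.rank → Kˣ)
    (hreg : ∀ s : Fin D.nroots, ∃ i, chi C (c i) s ≠ 1)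
    (hreg' : ∀ s : Fin D.nroots, ∃ i, chi C (c' i) s ≠ 1) {g : GL D.Idx K} (hg : g ∈ D.group K)
    (h : ∀ i, g * H52.torus D (c i) * g⁻¹ = H52.torus D (c' i)) :
    ∃ h₀ ∈ D.diagonalSubgroup K, ∃ L : List (Fin D.rank), g = h₀ * Ctx.nw D K L := by
  obtain ⟨u, hu, t, ht, L, v, hv, rfl⟩ := C.exists_nf hg
  have key : ∀ i, u = H52.torus D (c' i) * u * (H52.torus D (c' i))⁻¹ ∧
      (H52.torus D (c i))⁻¹ * v * H52.torus D (c i) = v := by
    intro i
    have hy := C.hC.torus_mem_diag (F := K) (c i)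
    have hy' := C.hC.torus_mem_diag (F := K) (c' i)
    have hv' : (H52.torus D (c i))⁻¹ * v * H52.torus D (c i) ∈ Ctx.uinv D K (C.wperm L) := by
      simpa using C.diag_conj_uinv (inv_mem hy) hv
    have he : u * (t * (Ctx.nw D K L * H52.torus D (c i) * (Ctx.nw D K L)⁻¹)) * Ctx.nw D K L *
        ((H52.torus D (c i))⁻¹ * v * H52.torus D (c i)) =
        (H52.torus D (c' i) * u * (H52.torus D (c' i))⁻¹) * (H52.torus D (c' i) * t) *
          Ctx.nw D K L * v := by
      have := h i
      rw [mul_inv_eq_iff_eq_mul] at this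
      calc _ = u * t * Ctx.nw D K L * v * H52.torus D (c i) := by group
        _ = H52.torus D (c' i) * (u * t * Ctx.nw D K L * v) := this
        _ = _ := by group
    obtain ⟨h1, -, h3⟩ := (C.nf_unique hu (C.hC.diag_conj_pos hy' hu)
      (mul_mem ht (C.nw_conj_diag L hy)) (mul_mem hy' ht) hv' hv he).2 rfl
    exact ⟨h1, h3⟩
  have hu1 : u = 1 := eq_one_of_regular C c' hreg' hu fun i => (key i).1.symm
  have hv1 : v = 1 := eq_one_of_regular C c hreg (C.uinv_le _ hv) fun i => by
    conv_lhs => rw [← (key i).2]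
    group
  exact ⟨t, ht, L, by rw [hu1, hv1, one_mul, mul_one]⟩

end TorusLog

end H54
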