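import Cfsg.Agent.H54.F4PrimeWeyl
import Cfsg.Agent.H54.TorusLog
import Cfsg.Agent.H54.SylowTorusMain
import Cfsg.Agent.H54.ChevBaseChange
import Cfsg.Agent.H34.RegularTorusData

/-!
Commuting elements of prime orders `r`, `s` in groups of type F4 for orders of `q` modulo `r`, `s` in
`{3, 4, 6}`: they exist exactly when the two orders agree.
-/

set_option autoImplicit false
set_option linter.unusedSectionVars false
set_option maxRecDepth 8000

open Cfsg.Lie
open scoped MatrixGroups Matrix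
open Polynomial

namespace H54

namespace F4Prime

/-- The inverse of the Cartan matrix. -/
def cinv : List (List ℤ) := [[2, 3, 4, 2], [3, 6, 8, 4], [2, 4, 6, 3], [1, 2, 3, 2]]

theorem cinv_ok : Ctx.cartanInvOK chevF4 1 cinv = true := by decide +kernel

/-- A `p`-subgroup is conjugate into a subgroup of index prime to `p`. -/
theorem exists_conj_le {G : Type*} [Group G] [Finite G] {p : ℕ} [Fact p.Prime] (T : Subgroup G)
    (hT : ¬ p ∣ T.index) {P : Subgroup G} (hP : IsPGroup p ↥P) :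
    ∃ g : G, ∀ x ∈ P, g * x * g⁻¹ ∈ T := by
  obtain ⟨P0⟩ : Nonempty (Sylow p ↥T) := inferInstance
  set P1 : Subgroup G := (P0 : Subgroup ↥T).map T.subtype
  have hcard : Nat.card ↥P1 = p ^ (Nat.card G).factorization p := by
    rw [Subgroup.card_map_of_injective T.subtype_injective, P0.card_eq_multiplicity]
    congr 1
    rw [← T.card_mul_index, Nat.factorization_mul Nat.card_pos.ne' T.index_ne_zero_of_finite,
      Finsupp.add_apply, Nat.factorization_eq_zero_of_not_dvd hT, add_zero]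
  obtain ⟨P', hP'⟩ := hP.exists_le_sylow
  obtain ⟨g, hg⟩ := MulAction.exists_smul_eq G P' (Sylow.ofCard P1 hcard)
  refine ⟨g, fun x hx => ?_⟩
  have h1 : g * x * g⁻¹ ∈ ((g • P' : Sylow p G) : Subgroup G) := by
    rw [Sylow.coe_subgroup_smul]
    exact ⟨x, hP' hx, rfl⟩
  rw [hg] at h1
  exact Subgroup.map_subtype_le _ h1

/-- The order formula without divisors. -/
theorem card_group (K : Type*) [Field K] [Fintype K] : Nat.card ↥(chevF4.group K) =
    Fintype.card K ^ (chevF4.nroots / 2) *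
      (([2, 6, 8, 12] : List ℕ).map fun e => Fintype.card K ^ e - 1).prod := by
  simpa using H52.f4_card (F := K) H34.Tori.divisorsF4_ones

/-- The torus has index prime to the primes dividing `|K| - 1`, from 5 on. -/
theorem index_not_dvd (K : Type*) [Field K] [Fintype K] {l : ℕ} (hl : l.Prime) (hl5 : 5 ≤ l)
    (h : l ∣ Fintype.card K - 1) :
    ¬ l ∣ ((chevF4.diagonalSubgroup K).subgroupOf (chevF4.group K)).index := by
  intro hdiv
  set T := (chevF4.diagonalSubgroup K).subgroupOf (chevF4.group K)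
  have := Fact.mk hl
  set Q := Fintype.card K with hQdef
  have hQ2 : 1 < Q := Fintype.one_lt_card
  have hQ1 : (Q : ZMod l) = 1 := by
    have := (ZMod.natCast_eq_zero_iff _ _).2 h
    rw [Nat.cast_sub (by omega)] at this
    simpa [sub_eq_zero] using this
  have hTc : Nat.card ↥T = (Q - 1) ^ chevF4.rank := by
    rw [Nat.card_congr (Subgroup.subgroupOfEquivOfLe ctx.diag_le_group).toEquiv]
    simpa using ctx.hC.card_diagonal (F := K) H34.Tori.divisorsF4_ones
  have hprod : ∀ ds : List ℕ, (ds.map fun d => Q ^ d - 1).prod =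
      (ds.map fun d => ∑ i ∈ Finset.range d, Q ^ i).prod * (Q - 1) ^ ds.length := by
    intro ds
    induction ds with
    | nil => simp
    | cons a ds ih =>
      rw [List.map_cons, List.prod_cons, List.map_cons, List.prod_cons, List.length_cons, ih, pow_succ,
        ← geom_sum_mul_of_one_le (Fintype.card_pos (α := K)) a]
      ring
  have hidx : T.index = Q ^ (chevF4.nroots / 2) *
      (([2, 6, 8, 12] : List ℕ).map fun d => ∑ i ∈ Finset.range d, Q ^ i).prod := by
    have h := T.card_mul_index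
    rw [card_group K, hTc, hprod] at h
    refine Nat.eq_of_mul_eq_mul_left (pow_pos (show 0 < Q - 1 by omega) chevF4.rank) ?_
    rw [h, show ([2, 6, 8, 12] : List ℕ).length = chevF4.rank from rfl]
    ring
  rw [hidx, ← ZMod.natCast_eq_zero_iff, Nat.cast_mul, Nat.cast_pow, hQ1, one_pow, one_mul,
    Nat.cast_list_prod, List.prod_eq_zero_iff, List.map_map, List.mem_map] at hdiv
  obtain ⟨d, hd, hd'⟩ := hdiv
  rw [Function.comp_apply, H34.Tori.geom_prod_cast hQ1, ZMod.natCast_eq_zero_iff] at hd'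
  have hd0 : 0 < d ∧ d ≤ 12 := by
    simp only [List.mem_cons, List.not_mem_nil, or_false] at hd
    rcases hd with rfl | rfl | rfl | rfl <;> omega
  have hld := Nat.le_of_dvd hd0.1 hd'
  have hl12 : l ≤ 12 := hld.trans hd0.2
  simp only [List.mem_cons, List.not_mem_nil, or_false] at hd
  rcases hd with rfl | rfl | rfl | rfl <;> interval_cases l <;>
    simp_all (config := {decide := true})

/-- The quadratic cyclotomic polynomials. -/
def lin : ℕ → ℤ
  | 3 => 1
  | 6 => -1
  | _ => 0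

theorem cyclotomic_eq {d : ℕ} (hd : d ∈ [3, 4, 6]) :
    cyclotomic d ℤ = X ^ 2 + Polynomial.C (lin d) * X + 1 ∧ d.totient = 2 := by
  simp only [List.mem_cons, List.not_mem_nil, or_false] at hd
  rcases hd with rfl | rfl | rfl
  · exact ⟨by rw [cyclotomic_three]; simp [lin], by decide⟩
  · refine ⟨?_, by decide⟩
    rw [show 4 = 2 ^ (1 + 1) by rfl, cyclotomic_prime_pow_eq_geom_sum Nat.prime_two]
    simp [Finset.sum_range_succ, lin]
    ring
  · refine ⟨?_, by decide⟩
    have h := cyclotomic_expand_eq_cyclotomic_mul (p := 2) (n := 3) Nat.prime_two (by decide) ℤ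
    rw [show (3 : ℕ) * 2 = 6 from rfl, cyclotomic_three] at h
    refine mul_right_cancel₀ (b := (X ^ 2 + X + 1 : ℤ[X])) ?_ ?_
    · exact (cyclotomic_three ℤ) ▸ cyclotomic_ne_zero 3 ℤ
    · rw [← h]
      simp [lin]
      ring

theorem five_le {r d : ℕ} [hr : Fact r.Prime] {c : ZMod r} (hd : d ∈ [3, 4, 6])
    (hc : orderOf c = d) : 5 ≤ r := by
  have hd3 : 3 ≤ d := by
    simp only [List.mem_cons, List.not_mem_nil, or_false] at hd
    omega
  have hc0 : c ≠ 0 := by
    rintro rfl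
    rw [orderOf_zero] at hc
    omega
  have h1 := ZMod.orderOf_dvd_card_sub_one hc0
  rw [hc] at h1
  have h2 : r ≠ 4 := by rintro rfl; exact absurd hr.out (by decide)
  have := Nat.le_of_dvd (by have := hr.out.two_le; omega) h1
  omega

theorem order_of_quad {r d : ℕ} [hr : Fact r.Prime] (hd : d ∈ [3, 4, 6]) (hr5 : 5 ≤ r) {c : ZMod r}
    (h : c ^ 2 + (lin d : ZMod r) * c + 1 = 0) : orderOf c = d := by
  have hd6 : 3 ≤ d ∧ d ≤ 6 := by
    simp only [List.mem_cons, List.not_mem_nil, or_false] at hd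
    omega
  have : NeZero (d : ZMod r) := ⟨fun e => by
    have h0 := (ZMod.natCast_eq_zero_iff _ _).1 e
    have h1 := Nat.le_of_dvd (by omega) h0
    have h2 : r = 5 ∨ r = 6 := by omega
    simp only [List.mem_cons, List.not_mem_nil, or_false] at hd
    rcases h2 with rfl | rfl
    · rcases hd with rfl | rfl | rfl <;> norm_num at h0
    · exact absurd hr.out (by decide)⟩
  refine (isRoot_cyclotomic_iff.1 ?_).eq_orderOf.symm
  rw [← map_cyclotomic d (Int.castRingHom (ZMod r)), (cyclotomic_eq hd).1]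
  simpa [IsRoot] using h

theorem not_dvd_1152 {r : ℕ} (hr : r.Prime) (hr5 : 5 ≤ r) : ¬ r ∣ 1152 := fun h => by
  rw [show (1152 : ℕ) = 2 ^ 7 * 3 ^ 2 by norm_num] at h
  rcases hr.dvd_mul.1 h with h | h
  · have := Nat.le_of_dvd (by norm_num) (hr.dvd_of_dvd_pow h); omega
  · have := Nat.le_of_dvd (by norm_num) (hr.dvd_of_dvd_pow h); omega

theorem wmat_pow (L : List (Fin chevF4.rank)) : Ctx.wmat chevF4 L ^ 1152 = 1 :=
  ctx.wmat_pow_eq_one (ctx.wperm_pow_eq_one H52.f4_hasPoly (n := 1152) (by decide +kernel) L)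

/-- The twisted setting over the field with `q¹²` elements. -/
theorem exists_ext {F : Type*} [Field F] [Fintype F] :
    ∃ (K : Type) (_ : Field K) (_ : Fintype K) (ι : F →+* K) (σ : K ≃+* K),
      (∀ x, σ x = x ^ Fintype.card F) ∧ (∀ x, (∃ y, ι y = x) ↔ σ x = x) ∧
        Fintype.card K = Fintype.card F ^ 12 := by
  obtain ⟨p, hp⟩ := CharP.exists F
  have : Fact p.Prime := ⟨CharP.char_is_prime F p⟩
  let K := FiniteField.Extension F p 12
  let iK : Fintype K := Fintype.ofFinite K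
  refine ⟨K, inferInstance, iK, algebraMap F K, (FiniteField.Extension.frob F p 12).toRingEquiv,
    fun x => ?_, fun x => ?_, ?_⟩
  · show FiniteField.Extension.frob F p 12 x = _
    rw [FiniteField.Extension.frob_apply, Nat.card_eq_fintype_card]
  · refine ⟨fun ⟨y, hy⟩ => hy ▸ (FiniteField.Extension.frob F p 12).commutes y, fun h => ?_⟩
    have : x ∈ (algebraMap F K).range := by
      refine (IsGalois.mem_range_algebraMap_iff_fixed x).2 fun g => ?_
      obtain ⟨i, -, rfl⟩ := FiniteField.Extension.exists_frob_pow_eq F p 12 g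
      induction i with
      | zero => rfl
      | succ i ih =>
        rw [pow_succ, AlgEquiv.mul_apply]
        exact (congrArg _ h).trans ih
    exact RingHom.mem_range.1 this
  · rw [Fintype.card_eq_nat_card, FiniteField.natCard_extension, Nat.card_eq_fintype_card]

theorem dvd_card_sub_one {r d q : ℕ} [hr : Fact r.Prime] (hq : 1 ≤ q) (hd : d ∣ 12)
    (h : orderOf (q : ZMod r) = d) : r ∣ q ^ 12 - 1 := by
  rw [← ZMod.natCast_eq_zero_iff, Nat.cast_sub (Nat.one_le_pow _ _ (by omega)), Nat.cast_pow]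
  rw [← h] at hd
  simp [orderOf_dvd_iff_pow_eq_one.1 hd]

section

variable {K : Type} [Field K] {F : Type*} [Field F] (ι : F →+* K) (σ : K ≃+* K)
  (q : ℕ) (hσ : ∀ x, σ x = x ^ q) (hι : ∀ x, (∃ y, ι y = x) ↔ σ x = x)

include hσ hι in
/-- Conjugation by the Frobenius defect of a conjugating element. -/
theorem defect_conj {g : GL chevF4.Idx K} {z : GL chevF4.Idx F} {c : Fin chevF4.rank → Kˣ}
    (hz : g * glF chevF4 ι z * g⁻¹ = H52.torus chevF4 c) :
    glF chevF4 σ.toRingHom g * g⁻¹ * H52.torus chevF4 c * (glF chevF4 σ.toRingHom g * g⁻¹)⁻¹ =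
      H52.torus chevF4 c ^ q := by
  have hfix : glF chevF4 σ.toRingHom (glF chevF4 ι z) = glF chevF4 ι z := by
    rw [glF_comp]
    congr 1
    exact congrArg _ (RingHom.ext fun y => (hι (ι y)).1 ⟨y, rfl⟩)
  have hFr : glF chevF4 σ.toRingHom (H52.torus chevF4 c) = H52.torus chevF4 c ^ q := by
    rw [Ctx.glF_torus, ← map_pow]
    congr 1
    funext i
    exact Units.ext (by simp [hσ])
  rw [← hFr, ← hz, map_mul, map_mul, map_inv, hfix]
  group

/-- A word twisting a torus element to its power gives an eigenvector. -/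
theorem eigen_of_twist {r : ℕ} [hr : Fact r.Prime] (hrq : (q : ZMod r) ≠ 0)
    (θ : Multiplicative (ZMod r) →* Kˣ) (hθ : Function.Injective θ)
    (hsurj : ∀ u : Kˣ, u ^ r = 1 → ∃ z, θ z = u) {L : List (Fin chevF4.rank)}
    {c : Fin chevF4.rank → Kˣ} (hc : H52.torus chevF4 c ^ r = 1)
    (htw : Ctx.nw chevF4 K L * H52.torus chevF4 c * (Ctx.nw chevF4 K L)⁻¹ =
      H52.torus chevF4 c ^ q) :
    ∃ φ : Fin chevF4.rank → ZMod r,
      (∀ s, TorusLog.chi ctx c s = θ (Multiplicative.ofAdd (TorusLog.rval ctx φ s))) ∧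
      ((Ctx.wmat chevF4 L).map (Int.castRingHom (ZMod r))).vecMul φ = (q : ZMod r)⁻¹ • φ := by
  obtain ⟨φ, hφ⟩ := TorusLog.exists_log ctx θ hsurj c hc
  exact ⟨φ, hφ, (TorusLog.twist_log ctx θ hθ hrq hφ).1 htw⟩

end

theorem isRoot_of_eigen {r : ℕ} [Fact r.Prime] {l : ℕ} (A : Matrix (Fin l) (Fin l) (ZMod r))
    {v : Fin l → ZMod r} (hv : v ≠ 0) {x : ZMod r} (h : A.vecMul v = x • v) :
    A.charpoly.IsRoot x := by
  rw [IsRoot, Matrix.eval_charpoly, ← Matrix.exists_vecMul_eq_zero_iff]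
  refine ⟨v, hv, ?_⟩
  rw [Matrix.vecMul_sub, h, sub_eq_zero]
  funext i
  simp [Matrix.scalar_apply, Matrix.vecMul_diagonal, mul_comm]

theorem cyclotomic_dvd_charpoly {r : ℕ} [hr : Fact r.Prime] (hr5 : 5 ≤ r)
    (L : List (Fin chevF4.rank)) {d : ℕ} (hd : 0 < d) {x : ZMod r} (hx : orderOf x = d)
    {v : Fin chevF4.rank → ZMod r} (hv : v ≠ 0)
    (h : ((Ctx.wmat chevF4 L).map (Int.castRingHom (ZMod r))).vecMul v = x • v) :
    cyclotomic d ℤ ∣ (Ctx.wmat chevF4 L).charpoly := by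
  obtain ⟨R, -, -, -, -, hM, -⟩ := CycloMult.exists_split (Ctx.wmat chevF4 L)
    (not_dvd_1152 hr.out hr5) (wmat_pow L) x hd hx
  rw [hM]
  refine (dvd_pow_self _ ?_).mul_right R
  exact ((rootMultiplicity_pos (Matrix.charpoly_monic _).ne_zero).2 (isRoot_of_eigen _ hv h)).ne'

variable {F : Type*} [Field F] [Fintype F]

/-- Elements of prime orders with orders of `q` equal to `k ≠ l` in `{3, 4, 6}` do not commute. -/
theorem not_commute {r s k l : ℕ} [hr : Fact r.Prime] [hs : Fact s.Prime]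
    (hkl : (k, l) ∈ [(3, 4), (3, 6), (4, 6)])
    (hk : orderOf (Fintype.card F : ZMod r) = k) (hl : orderOf (Fintype.card F : ZMod s) = l)
    (x y : ↥(chevF4.group F)) (hx : orderOf x = r) (hy : orderOf y = s) : ¬ Commute x y := by
  classical
  intro hcomm
  have hk' : k ∈ [3, 4, 6] ∧ l ∈ [3, 4, 6] ∧ k ≠ l ∧ k ∣ 12 ∧ l ∣ 12 ∧
      (lin k + lin l, 2 + lin k * lin l, lin k, lin l) ∈
        [((1 : ℤ), (2 : ℤ), (1 : ℤ), (0 : ℤ)), (0, 1, 1, -1), (-1, 2, 0, -1)] := by
    simp only [List.mem_cons, List.not_mem_nil, or_false, Prod.mk.injEq] at hkl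
    rcases hkl with ⟨rfl, rfl⟩ | ⟨rfl, rfl⟩ | ⟨rfl, rfl⟩ <;> decide
  obtain ⟨hk3, hl3, hne, hk12, hl12, hexcl⟩ := hk'
  have hr5 := five_le hk3 hk
  have hs5 := five_le hl3 hl
  have hq2 : 1 < Fintype.card F := Fintype.one_lt_card
  obtain ⟨K, _, _, ι, σ, hσ, hι, hK⟩ := exists_ext (F := F)
  set q := Fintype.card F with hqdef
  have hrK : r ∣ Fintype.card K - 1 := hK ▸ dvd_card_sub_one (by omega) hk12 hk
  have hsK : s ∣ Fintype.card K - 1 := hK ▸ dvd_card_sub_one (by omega) hl12 hl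
  let ιG : ↥(chevF4.group F) →* ↥(chevF4.group K) :=
    ((glF chevF4 ι).comp (chevF4.group F).subtype).codRestrict _ fun z =>
      ctx.glF_group_le ι ⟨z, z.2, rfl⟩
  have hιG : Function.Injective ιG := fun a b h =>
    Subtype.ext (glF_injective ι (congrArg Subtype.val h))
  set T : Subgroup ↥(chevF4.group K) := (chevF4.diagonalSubgroup K).subgroupOf (chevF4.group K)
    with hTdef
  obtain ⟨g₁, hg₁⟩ := H34.Tori.exists_conj_diag T (index_not_dvd K hs.out hs5 hsK)
    (x := ιG y) (by rw [orderOf_injective ιG hιG, hy])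
  set y' := g₁ * ιG y * g₁⁻¹ with hy'
  set x' := g₁ * ιG x * g₁⁻¹ with hx'
  set Cy := Subgroup.centralizer ({y'} : Set ↥(chevF4.group K))
  have hTC : T ≤ Cy := fun t ht => by
    rw [Subgroup.mem_centralizer_singleton_iff]
    rw [hTdef, Subgroup.mem_subgroupOf] at ht
    rw [Subgroup.mem_subgroupOf] at hg₁
    exact Subtype.ext (ctx.diag_comm ht hg₁)
  have hxC : x' ∈ Cy := by
    rw [Subgroup.mem_centralizer_singleton_iff, hx', hy']
    simp only [mul_assoc, inv_mul_cancel_left]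
    rw [← mul_assoc (ιG x), ← mul_assoc (ιG y), (hcomm.map ιG).eq]
  have hTidx : ¬ r ∣ (T.subgroupOf Cy).index := fun h => by
    refine index_not_dvd K hr.out hr5 hrK (h.trans ?_)
    exact Dvd.intro _ (Subgroup.relIndex_mul_index hTC)
  obtain ⟨g₂, hg₂⟩ := H34.Tori.exists_conj_diag (T.subgroupOf Cy) hTidx (x := ⟨x', hxC⟩)
    (by rw [Subgroup.orderOf_mk, hx',
      show g₁ * ιG x * g₁⁻¹ = (MulAut.conj g₁).toMonoidHom (ιG x) from rfl,
      orderOf_injective _ (MulEquiv.injective _), orderOf_injective ιG hιG, hx])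
  rw [Subgroup.mem_subgroupOf, Subgroup.coe_mul, Subgroup.coe_mul, Subgroup.coe_inv] at hg₂
  have hg₂c : (g₂ : ↥(chevF4.group K)) * y' = y' * g₂ :=
    Subgroup.mem_centralizer_singleton_iff.1 g₂.2
  set g : GL chevF4.Idx K := ((g₂.1 * g₁ : ↥(chevF4.group K)) : GL chevF4.Idx K) with hg
  have hgx : g * glF chevF4 ι (x : GL chevF4.Idx F) * g⁻¹ ∈ chevF4.diagonalSubgroup K := by
    have : (((g₂ : ↥(chevF4.group K)) * x' * (g₂ : ↥(chevF4.group K))⁻¹ : ↥(chevF4.group K)) :
        GL chevF4.Idx K) ∈ chevF4.diagonalSubgroup K := hg₂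
    rw [hx', show (g₂ : ↥(chevF4.group K)) * (g₁ * ιG x * g₁⁻¹) * (g₂ : ↥(chevF4.group K))⁻¹ =
      (g₂.1 * g₁) * ιG x * (g₂.1 * g₁)⁻¹ by group, Subgroup.coe_mul, Subgroup.coe_mul,
      Subgroup.coe_inv] at this
    exact this
  have hgy : g * glF chevF4 ι (y : GL chevF4.Idx F) * g⁻¹ ∈ chevF4.diagonalSubgroup K := by
    have : (((g₂ : ↥(chevF4.group K)) * y' * (g₂ : ↥(chevF4.group K))⁻¹ : ↥(chevF4.group K)) :
        GL chevF4.Idx K) ∈ chevF4.diagonalSubgroup K := by
      rw [hg₂c, mul_inv_cancel_right]; exact hg₁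
    rw [hy', show (g₂ : ↥(chevF4.group K)) * (g₁ * ιG y * g₁⁻¹) * (g₂ : ↥(chevF4.group K))⁻¹ =
      (g₂.1 * g₁) * ιG y * (g₂.1 * g₁)⁻¹ by group, Subgroup.coe_mul, Subgroup.coe_mul,
      Subgroup.coe_inv] at this
    exact this
  have hgG : g ∈ chevF4.group K := Subtype.prop _
  obtain ⟨L, hL⟩ := ctx.exists_fusion_word
    (c := glF chevF4 σ.toRingHom g * g⁻¹)
    (mul_mem (ctx.glF_group_le σ.toRingHom ⟨_, hgG, rfl⟩) (inv_mem hgG))
  -- an eigenvector from an element of order `p`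
  have key : ∀ (p d : ℕ) [Fact p.Prime] (z : ↥(chevF4.group F)), d ∈ [3, 4, 6] →
      orderOf (q : ZMod p) = d → p ∣ Fintype.card K - 1 → orderOf z = p →
      g * glF chevF4 ι (z : GL chevF4.Idx F) * g⁻¹ ∈ chevF4.diagonalSubgroup K →
      ∃ v : Fin chevF4.rank → ZMod p, v ≠ 0 ∧
        ((Ctx.wmat chevF4 L).map (Int.castRingHom (ZMod p))).vecMul v = (q : ZMod p)⁻¹ • v := by
    intro p d _ z hd hdz hpK hz hmem
    obtain ⟨c, hc⟩ : ∃ c, H52.torus chevF4 c = g * glF chevF4 ι (z : GL chevF4.Idx F) * g⁻¹ := by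
      rw [ctx.hC.diagonalSubgroup_eq] at hmem; exact hmem
    obtain ⟨θ, hθ, hsurj⟩ := TorusLog.exists_theta K p (by rwa [Nat.card_eq_fintype_card])
    have hcp : H52.torus chevF4 c ^ p = 1 := by
      rw [hc, conj_pow, ← map_pow, ← SubgroupClass.coe_pow, ← hz, pow_orderOf_eq_one]
      simp
    have hqp : (q : ZMod p) ≠ 0 := fun e => by
      rw [e, orderOf_zero] at hdz; subst hdz; simp at hd
    have htw := defect_conj ι σ q hσ hι hc.symm
    have hnw := hL _ (ctx.hC.torus_mem_diag c) (by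
      rw [htw]; exact pow_mem (ctx.hC.torus_mem_diag c) _)
    rw [htw] at hnw
    obtain ⟨φ, hφ, he⟩ := eigen_of_twist q hqp θ hθ hsurj hcp hnw
    refine ⟨φ, fun h0 => ?_, he⟩
    have h1 : H52.torus chevF4 c = 1 := (TorusLog.torus_ext ctx (c' := 1) fun u => by
      rw [hφ, h0]; simp [TorusLog.rval, TorusLog.chi]).trans (map_one _)
    rw [hc, conj_eq_one_iff, ← map_one (glF chevF4 ι)] at h1
    have : z = 1 := Subtype.ext (glF_injective ι h1)
    rw [this, orderOf_one] at hz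
    exact (Fact.out : p.Prime).ne_one hz.symm
  obtain ⟨u, hu0, hu⟩ := key r k x hk3 hk hrK hx hgx
  obtain ⟨v, hv0, hv⟩ := key s l y hl3 hl hsK hy hgy
  have hik : orderOf ((q : ZMod r)⁻¹) = k := by
    rw [← hk]; exact (IsPrimitiveRoot.orderOf (q : ZMod r)).inv.eq_orderOf.symm
  have hil : orderOf ((q : ZMod s)⁻¹) = l := by
    rw [← hl]; exact (IsPrimitiveRoot.orderOf (q : ZMod s)).inv.eq_orderOf.symm
  obtain ⟨ck, hktot⟩ := cyclotomic_eq hk3
  obtain ⟨cl, hltot⟩ := cyclotomic_eq hl3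
  have h1 := cyclotomic_dvd_charpoly hr5 L (by rintro rfl; simp at hk3 : k ≠ 0).bot_lt hik hu0 hu
  obtain ⟨A, hA⟩ := h1
  have h2 := cyclotomic_dvd_charpoly hs5 L (by rintro rfl; simp at hl3 : l ≠ 0).bot_lt hil hv0 hv
  rw [hA] at h2
  have hkpos : 0 < k := (by rintro rfl; simp at hk3 : k ≠ 0).bot_lt
  have h3 : cyclotomic l ℤ ∣ A := by
    refine CycloMult.dvd_of_dvd_prime_mul (cyclotomic.irreducible hkpos).prime ?_ h2
    intro h
    exact hne (cyclotomic_injective (eq_of_monic_of_associated (cyclotomic.monic k ℤ)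
      (cyclotomic.monic l ℤ) ((cyclotomic.irreducible hkpos).associated_of_dvd
        (cyclotomic.irreducible (by rintro rfl; simp at hl3 : l ≠ 0).bot_lt) h)))
  have hdvd : cyclotomic k ℤ * cyclotomic l ℤ ∣ (Ctx.wmat chevF4 L).charpoly :=
    hA ▸ mul_dvd_mul_left _ h3
  have heq : cyclotomic k ℤ * cyclotomic l ℤ = (Ctx.wmat chevF4 L).charpoly := by
    refine (eq_of_monic_of_dvd_of_natDegree_le ((cyclotomic.monic k ℤ).mul (cyclotomic.monic l ℤ))
      (Matrix.charpoly_monic _) hdvd ?_).symm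
    rw [Matrix.charpoly_natDegree_eq_dim, (cyclotomic.monic k ℤ).natDegree_mul (cyclotomic.monic l ℤ),
      natDegree_cyclotomic, natDegree_cyclotomic, hktot, hltot]
    simp
    decide
  have h0 := Matrix.aeval_self_charpoly (Ctx.wmat chevF4 L)
  rw [← heq, ck, cl] at h0
  set M := Ctx.wmat chevF4 L with hM
  have hpol : (X ^ 2 + Polynomial.C (lin k) * X + 1) * (X ^ 2 + Polynomial.C (lin l) * X + 1) =
      X ^ 4 + Polynomial.C (lin k + lin l) * X ^ 3 + Polynomial.C (2 + lin k * lin l) * X ^ 2 +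
        Polynomial.C (lin k + lin l) * X + 1 := by
    simp only [map_add, map_mul, show Polynomial.C (2 : ℤ) = (2 : ℤ[X]) from rfl]
    ring
  rw [hpol] at h0
  have h0' : M ^ 4 + (lin k + lin l) • M ^ 3 + (2 + lin k * lin l) • M ^ 2 +
      (lin k + lin l) • M + 1 = 0 := by
    rw [← h0]
    simp only [map_mul, map_pow, aeval_X, map_one, aeval_C, map_add (Polynomial.aeval M),
      Algebra.algebraMap_eq_smul_one, smul_mul_assoc, one_mul]
  have quad : ∀ (p d e : ℕ) [Fact p.Prime] (w : Fin chevF4.rank → ZMod p), w ≠ 0 → 5 ≤ p →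
      d ∈ [3, 4, 6] → orderOf ((q : ZMod p)⁻¹) = e → e ≠ d →
      (M.map (Int.castRingHom (ZMod p))).vecMul w = (q : ZMod p)⁻¹ • w →
      M ^ 2 + lin d • M + 1 ≠ 0 := by
    intro p d e _ w hw hp hd he hed hwe h
    refine hed (he ▸ order_of_quad hd hp ?_)
    have h1 := congrArg (fun Z : Matrix (Fin chevF4.rank) (Fin chevF4.rank) ℤ =>
      (Z.map (Int.castRingHom (ZMod p))).vecMul w) h
    simp only [Matrix.map_zero _ (map_zero _), Matrix.vecMul_zero] at h1
    rw [Matrix.map_add _ (map_add _), Matrix.map_add _ (map_add _), Matrix.map_one _ (map_zero _) (map_one _),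
      Matrix.map_smul' _ _ _ (map_mul _), pow_two, Matrix.map_mul, Matrix.vecMul_add, Matrix.vecMul_add,
      ← Matrix.vecMul_vecMul, hwe, Matrix.smul_vecMul, hwe, Matrix.vecMul_smul, hwe, Matrix.vecMul_one,
      smul_smul, smul_smul, ← add_smul] at h1
    conv at h1 => lhs; arg 2; rw [← one_smul (ZMod p) w]
    rw [← add_smul, smul_eq_zero] at h1
    rw [pow_two]
    simpa using h1.resolve_right hw
  rcases wmat_poly hexcl L h0' with h | h
  · exact quad s k l v hv0 hs5 hk3 hil (Ne.symm hne) hv h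
  · exact quad r l k u hu0 hr5 hl3 hik hne hu h

set_option maxHeartbeats 800000 in
/-- Elements of prime orders `r ≠ s` with equal order of `q` in `{3, 4, 6}` can be chosen commuting. -/
theorem exists_commute {r s l : ℕ} [hr : Fact r.Prime] [hs : Fact s.Prime] (hl3 : l ∈ [3, 4, 6])
    (hrl : orderOf (Fintype.card F : ZMod r) = l) (hsl : orderOf (Fintype.card F : ZMod s) = l)
    (hsG : s ∣ Nat.card ↥(chevF4.group F)) :
    ∃ x y : ↥(chevF4.group F), orderOf x = r ∧ orderOf y = s ∧ Commute x y := by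
  classical
  have hl12 : l ∣ 12 ∧ 0 < l ∧ (([2, 6, 8, 12] : List ℕ).filter fun e => l ∣ e).length = 2 := by
    simp only [List.mem_cons, List.not_mem_nil, or_false] at hl3
    rcases hl3 with rfl | rfl | rfl <;> decide
  obtain ⟨hl12, hlpos, hlen⟩ := hl12
  have hr5 := five_le hl3 hrl
  have hs5 := five_le hl3 hsl
  have hq2 : 1 < Fintype.card F := Fintype.one_lt_card
  obtain ⟨K, _, _, ι, σ, hσ, hι, hK⟩ := exists_ext (F := F)
  set q := Fintype.card F with hqdef
  have hrK : r ∣ Fintype.card K - 1 := hK ▸ dvd_card_sub_one (by omega) hl12 hrl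
  have hsK : s ∣ Fintype.card K - 1 := hK ▸ dvd_card_sub_one (by omega) hl12 hsl
  have hsq : (q : ZMod s) ≠ 0 := fun e => by rw [e, orderOf_zero] at hsl; omega
  have hrq : (q : ZMod r) ≠ 0 := fun e => by rw [e, orderOf_zero] at hrl; omega
  have hsW : ¬ s ∣ ([2, 6, 8, 12] : List ℕ).prod := fun h =>
    not_dvd_1152 hs.out hs5 (h.trans (dvd_of_eq rfl))
  obtain ⟨P⟩ : Nonempty (Sylow s ↥(chevF4.group F)) := inferInstance
  obtain ⟨iso⟩ := SylowHom.concl_F4 hqdef.symm (fun h => hsq ((ZMod.natCast_eq_zero_iff _ _).2 h)) hsW hsG P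
  rw [hsl, hlen] at iso
  set e := H40.cycloExp q s with he
  have hPne : 1 < Nat.card ↥(P : Subgroup ↥(chevF4.group F)) := by
    rw [P.card_eq_multiplicity]
    exact Nat.one_lt_pow (hs.out.factorization_pos_of_dvd Nat.card_pos.ne' hsG).ne' hs.out.one_lt
  have hepos : 0 < e := Nat.pos_of_ne_zero fun h0 => by
    rw [Nat.card_congr iso.toEquiv, Nat.card_pi, Finset.prod_const, Nat.card_congr Multiplicative.toAdd,
      Nat.card_zmod, h0, pow_zero, one_pow] at hPne
    exact lt_irrefl _ hPne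
  let E := {x : ↥(P : Subgroup ↥(chevF4.group F)) // x ^ s = 1}
  have : NeZero (s ^ e) := ⟨pow_ne_zero _ hs.out.ne_zero⟩
  have hE : Nat.card E = s ^ 2 := by
    let f : E ≃ (Fin 2 → {z : Multiplicative (ZMod (s ^ e)) // z ^ s = 1}) :=
      { toFun := fun x i => ⟨iso x.1 i, by rw [← Pi.pow_apply, ← map_pow, x.2, map_one]; rfl⟩
        invFun := fun z => ⟨iso.symm fun i => (z i).1, by
          rw [← map_pow, show (fun i => (z i).1) ^ s = 1 from funext fun i => (z i).2, map_one]⟩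
        left_inv := fun x => Subtype.ext (iso.symm_apply_apply _)
        right_inv := fun z => funext fun i => Subtype.ext (by simp) }
    rw [Nat.card_congr f, Nat.card_pi, Finset.prod_const, Finset.card_univ, Fintype.card_fin]
    congr 1
    rw [show Nat.card {z : Multiplicative (ZMod (s ^ e)) // z ^ s = 1} =
      Nat.card (powMonoidHom s : Multiplicative (ZMod (s ^ e)) →* _).ker from rfl,
      IsCyclic.card_powMonoidHom_ker, Nat.card_congr Multiplicative.toAdd, Nat.card_zmod]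
    exact Nat.gcd_eq_right (dvd_pow_self s hepos.ne')
  let ιG : ↥(chevF4.group F) →* ↥(chevF4.group K) :=
    ((glF chevF4 ι).comp (chevF4.group F).subtype).codRestrict _ fun z =>
      ctx.glF_group_le ι ⟨z, z.2, rfl⟩
  obtain ⟨g₀, hg₀⟩ := exists_conj_le ((chevF4.diagonalSubgroup K).subgroupOf (chevF4.group K))
    (index_not_dvd K hs.out hs5 hsK) (P.isPGroup'.map ιG)
  set g : GL chevF4.Idx K := (g₀ : GL chevF4.Idx K) with hg
  have hgG : g ∈ chevF4.group K := g₀.2
  have hmem : ∀ x : E, ∃ c, H52.torus chevF4 c = g * glF chevF4 ι ((x.1.1 : ↥(chevF4.group F)) : GL chevF4.Idx F) * g⁻¹ := by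
    intro x
    have h := hg₀ _ ⟨x.1.1, x.1.2, rfl⟩
    rw [Subgroup.mem_subgroupOf, ctx.hC.diagonalSubgroup_eq] at h
    exact h
  choose c hc using hmem
  obtain ⟨θ, hθ, hsurj⟩ := TorusLog.exists_theta K s (by rwa [Nat.card_eq_fintype_card])
  set n := glF chevF4 σ.toRingHom g * g⁻¹ with hn
  have hnG : n ∈ chevF4.group K :=
    mul_mem (ctx.glF_group_le σ.toRingHom ⟨_, hgG, rfl⟩) (inv_mem hgG)
  have htw : ∀ x, n * H52.torus chevF4 (c x) * n⁻¹ = H52.torus chevF4 (c x) ^ q := fun x =>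
    defect_conj ι σ q hσ hι (hc x).symm
  have hcs : ∀ x, H52.torus chevF4 (c x) ^ s = 1 := fun x => by
    rw [hc, conj_pow, ← map_pow, ← SubgroupClass.coe_pow, ← SubgroupClass.coe_pow, x.2]
    simp
  have hcinj : ∀ x x', H52.torus chevF4 (c x) = H52.torus chevF4 (c x') → x = x' := fun x x' h => by
    rw [hc, hc] at h
    exact Subtype.ext (Subtype.ext (Subtype.ext (glF_injective ι (mul_left_cancel (mul_right_cancel h)))))
  -- consequences of a twisting word
  have hword : ∀ L : List (Fin chevF4.rank), (∀ x, Ctx.nw chevF4 K L * H52.torus chevF4 (c x) *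
      (Ctx.nw chevF4 K L)⁻¹ = H52.torus chevF4 (c x) ^ q) →
      (Ctx.wmat chevF4 L).charpoly = cyclotomic l ℤ ^ 2 ∧
      ∀ w : Fin chevF4.rank → ZMod s,
        ((Ctx.wmat chevF4 L).map (Int.castRingHom (ZMod s))).vecMul w = (q : ZMod s)⁻¹ • w →
        ∃ x, ∀ u, TorusLog.chi ctx (c x) u = θ (Multiplicative.ofAdd (TorusLog.rval ctx w u)) := by
    intro L hL
    choose φ hφ hev using fun x => eigen_of_twist q hsq θ hθ hsurj (hcs x) (hL x)
    set A := (Ctx.wmat chevF4 L).map (Int.castRingHom (ZMod s)) with hA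
    let f : E → {w : Fin chevF4.rank → ZMod s // A.vecMul w = (q : ZMod s)⁻¹ • w} := fun x => ⟨φ x, hev x⟩
    have hf : Function.Injective f := fun x x' h => by
      refine hcinj x x' (TorusLog.torus_ext ctx fun u => ?_)
      rw [hφ, hφ, show φ x = φ x' from congrArg Subtype.val h]
    have hord : orderOf ((q : ZMod s)⁻¹) = l := by
      rw [← hsl]; exact (IsPrimitiveRoot.orderOf (q : ZMod s)).inv.eq_orderOf.symm
    obtain ⟨R, hRm, -, -, -, hM, hdeg⟩ := CycloMult.exists_split (Ctx.wmat chevF4 L)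
      (not_dvd_1152 hs.out hs5) (wmat_pow L) _ hlpos hord
    rw [(cyclotomic_eq hl3).2] at hdeg
    have h4 : (4 : ℕ) = chevF4.rank := rfl
    have hcle := (Nat.card_le_card_of_injective f hf).trans (CycloMult.card_eigen_le A _)
    rw [hE, Nat.card_zmod, Nat.pow_le_pow_iff_right hs.out.one_lt] at hcle
    set b := A.charpoly.rootMultiplicity ((q : ZMod s)⁻¹) with hb
    have hb2 : b = 2 := by omega
    refine ⟨?_, fun w hw => ?_⟩
    · rw [hM, hb2, hRm.natDegree_eq_zero.1 (by omega), mul_one]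
    · have hle := CycloMult.card_eigen_le A ((q : ZMod s)⁻¹)
      rw [← hb, hb2, Nat.card_zmod, ← hE] at hle
      obtain ⟨x, hx⟩ := (hf.bijective_of_nat_card_le hle).2 ⟨w, hw⟩
      exact ⟨x, fun u => by rw [hφ, show φ x = w from congrArg Subtype.val hx]⟩
  obtain ⟨L₁, hL₁⟩ := ctx.exists_fusion_word hnG
  have hL₁' : ∀ x, Ctx.nw chevF4 K L₁ * H52.torus chevF4 (c x) * (Ctx.nw chevF4 K L₁)⁻¹ =
      H52.torus chevF4 (c x) ^ q := fun x => by
    rw [hL₁ _ (ctx.hC.torus_mem_diag _) (by rw [htw]; exact pow_mem (ctx.hC.torus_mem_diag _) _), htw]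
  obtain ⟨hcp₁, hfull⟩ := hword L₁ hL₁'
  -- regularity
  have hreg : ∀ u : Fin chevF4.nroots, ∃ x, TorusLog.chi ctx (c x) u ≠ 1 := by
    intro u
    by_contra hall
    push Not at hall
    obtain ⟨lam, hlam⟩ : ∃ lam, lam = (q : ZMod s)⁻¹ := ⟨_, rfl⟩
    obtain ⟨mu, hmu⟩ : ∃ mu, mu = (q : ZMod s) := ⟨_, rfl⟩
    have hlm : lam * mu = 1 := by rw [hlam, hmu]; exact inv_mul_cancel₀ hsq
    set A := (Ctx.wmat chevF4 L₁).map (Int.castRingHom (ZMod s)) with hA
    set α : Fin chevF4.rank → ZMod s := fun j => (ctx.cvec u j : ZMod s) with hα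
    have hquad : A * A - (lam + mu) • A + 1 = 0 := by
      have hdvd : A.charpoly ∣ (cyclotomic l (ZMod s)) ^ 2 := by
        rw [hA, Matrix.charpoly_map, hcp₁, Polynomial.map_pow, map_cyclotomic]
      have hA1 : A ^ 1152 = 1 := by
        rw [hA, ← RingHom.mapMatrix_apply, ← map_pow, wmat_pow, map_one]
      have h := CycloMult.aeval_eq_zero A
        (fun e => not_dvd_1152 hs.out hs5 ((ZMod.natCast_eq_zero_iff _ _).1 e)) hA1 hdvd
      have hroot : (cyclotomic l (ZMod s)).IsRoot mu := by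
        have : NeZero (l : ZMod s) := ⟨fun e => by
          have h1 : l ∣ s - 1 := hsl ▸ ZMod.orderOf_dvd_card_sub_one hsq
          have h2 := Nat.le_of_dvd (by omega) (((ZMod.natCast_eq_zero_iff _ _).1 e).trans h1)
          omega⟩
        refine isRoot_cyclotomic_iff.2 ?_
        rw [← hsl, hmu]
        exact IsPrimitiveRoot.orderOf _
      rw [← map_cyclotomic l (Int.castRingHom (ZMod s)), (cyclotomic_eq hl3).1] at h hroot
      simp only [Polynomial.map_add, Polynomial.map_mul, Polynomial.map_pow, Polynomial.map_X,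
        Polynomial.map_C, Polynomial.map_one] at h hroot
      simp only [IsRoot, eval_add, eval_mul, eval_pow, eval_X, eval_C, eval_one] at hroot
      have hu : (Int.castRingHom (ZMod s)) (lin l) = -(lam + mu) := by
        linear_combination lam * hroot - (mu + (Int.castRingHom (ZMod s)) (lin l)) * hlm
      rw [hu] at h
      simp only [map_add (Polynomial.aeval A), map_mul, map_pow, aeval_X, aeval_C, map_one,
        Algebra.algebraMap_eq_smul_one, Matrix.smul_mul, Matrix.neg_mul, Matrix.one_mul, neg_smul] at h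
      rw [sub_eq_add_neg, ← h, pow_two]
    have hker : A *ᵥ α = mu • α := by
      refine eq_of_sub_eq_zero (funext fun i => ?_)
      set v : Fin chevF4.rank → ZMod s := Pi.single i 1 with hv
      have hw : A.vecMul (A.vecMul v - mu • v) = lam • (A.vecMul v - mu • v) := by
        have h := congrArg (fun Z => Matrix.vecMul v Z) hquad
        simp only [Matrix.vecMul_add, Matrix.vecMul_sub, Matrix.vecMul_smul, ← Matrix.vecMul_vecMul,
          Matrix.vecMul_one, Matrix.vecMul_zero] at h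
        rw [Matrix.sub_vecMul, Matrix.smul_vecMul, smul_sub, smul_smul, hlm, one_smul]
        rw [← sub_eq_zero]
        rw [← h, add_smul]
        abel
      obtain ⟨x, hx⟩ := hfull _ (hlam ▸ hw)
      have h0 : (A.vecMul v - mu • v) ⬝ᵥ α = 0 := by
        have h1 := (hx u).symm.trans (hall x)
        rw [← map_one θ] at h1
        exact congrArg Multiplicative.toAdd (hθ h1)
      rw [sub_dotProduct, ← Matrix.dotProduct_mulVec, smul_dotProduct, hv, single_dotProduct,
        single_dotProduct, one_mul, one_mul, smul_eq_mul] at h0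
      simpa using h0
    set G := gram.map (Int.castRingHom (ZMod s)) with hG
    have hinv : Aᵀ * G * A = G := by
      rw [hA, hG, ← Matrix.transpose_map, ← Matrix.map_mul, ← Matrix.map_mul, gram_wmat]
    have hval : (α ⬝ᵥ G *ᵥ α) = mu * mu * (α ⬝ᵥ G *ᵥ α) := by
      conv_lhs => rw [← hinv]
      rw [Matrix.mul_assoc, ← Matrix.mulVec_mulVec, ← Matrix.mulVec_mulVec, Matrix.dotProduct_mulVec,
        Matrix.vecMul_transpose, hker, Matrix.mulVec_smul, smul_dotProduct, dotProduct_smul,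
        smul_eq_mul, smul_eq_mul, mul_assoc]
    have hcast : (α ⬝ᵥ G *ᵥ α) = ((ctx.cvec u ⬝ᵥ gram *ᵥ ctx.cvec u : ℤ) : ZMod s) := by
      simp [hα, hG, dotProduct, Matrix.mulVec]
    have hne : (α ⬝ᵥ G *ᵥ α) ≠ 0 := by
      rw [hcast, Ne, ZMod.intCast_zmod_eq_zero_iff_dvd]
      intro h
      rcases gram_val u with e | e <;> rw [e] at h
      · have := Nat.le_of_dvd (by norm_num) (Int.natCast_dvd_natCast.1 (by exact_mod_cast h : (s : ℤ) ∣ ((2 : ℕ) : ℤ)))
        omega
      · have := Nat.le_of_dvd (by norm_num) (Int.natCast_dvd_natCast.1 (by exact_mod_cast h : (s : ℤ) ∣ ((4 : ℕ) : ℤ)))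
        omega
    have h2 : mu ^ 2 = 1 := by
      rw [pow_two]
      exact mul_right_cancel₀ hne (by rw [← hval, one_mul])
    rw [hmu] at h2
    have := Nat.le_of_dvd two_pos (hsl ▸ orderOf_dvd_of_pow_eq_one h2)
    simp only [List.mem_cons, List.not_mem_nil, or_false] at hl3
    omega
  have hreg' : ∀ u : Fin chevF4.nroots, ∃ x, TorusLog.chi ctx (c x ^ q) u ≠ 1 := by
    intro u
    obtain ⟨x, hx⟩ := hreg u
    refine ⟨x, fun h1 => hx ?_⟩
    rw [TorusLog.chi_pow] at h1
    have h2 : TorusLog.chi ctx (c x) u ^ s = 1 := by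
      rw [← TorusLog.chi_pow]
      exact TorusLog.chi_of_torus_eq_one ctx (by rw [map_pow, hcs]) u
    have h3 := pow_gcd_eq_one.2 ⟨h1, h2⟩
    rwa [Nat.Coprime.gcd_eq_one (Nat.Coprime.symm (hs.out.coprime_iff_not_dvd.2 fun h =>
      hsq ((ZMod.natCast_eq_zero_iff _ _).2 h))), pow_one] at h3
  obtain ⟨h₀, hh₀, L, hnL⟩ := TorusLog.mono_of_regular ctx c (fun x => c x ^ q) hreg hreg' hnG
    fun x => by rw [htw, map_pow]
  have hconjd : ∀ t ∈ chevF4.diagonalSubgroup K,
      n * t * n⁻¹ = Ctx.nw chevF4 K L * t * (Ctx.nw chevF4 K L)⁻¹ := fun t ht => by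
    have h1 := ctx.nw_conj_diag L ht
    rw [hnL, show h₀ * Ctx.nw chevF4 K L * t * (h₀ * Ctx.nw chevF4 K L)⁻¹ =
      h₀ * (Ctx.nw chevF4 K L * t * (Ctx.nw chevF4 K L)⁻¹) * h₀⁻¹ by group,
      ctx.diag_comm hh₀ h1, mul_inv_cancel_right]
  obtain ⟨hcp, -⟩ := hword L fun x => by rw [← hconjd _ (ctx.hC.torus_mem_diag _), htw]
  -- the element of order `r`
  obtain ⟨θr, hθr, -⟩ := TorusLog.exists_theta K r (by rwa [Nat.card_eq_fintype_card])
  have hroot : ((Ctx.wmat chevF4 L).map (Int.castRingHom (ZMod r))).charpoly.IsRoot ((q : ZMod r)⁻¹) := by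
    rw [Matrix.charpoly_map, hcp, Polynomial.map_pow, map_cyclotomic, IsRoot, eval_pow]
    have : NeZero (l : ZMod r) := ⟨fun e => by
      have h1 : l ∣ r - 1 := hrl ▸ ZMod.orderOf_dvd_card_sub_one hrq
      have h2 := Nat.le_of_dvd (by omega) (((ZMod.natCast_eq_zero_iff _ _).1 e).trans h1)
      omega⟩
    have : (cyclotomic l (ZMod r)).IsRoot ((q : ZMod r)⁻¹) := by
      refine isRoot_cyclotomic_iff.2 ?_
      rw [← hrl]
      exact (IsPrimitiveRoot.orderOf (q : ZMod r)).inv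
    rw [this, zero_pow two_ne_zero]
  rw [IsRoot, Matrix.eval_charpoly, ← Matrix.exists_vecMul_eq_zero_iff] at hroot
  obtain ⟨w, hw0, hw⟩ := hroot
  have hwe : ((Ctx.wmat chevF4 L).map (Int.castRingHom (ZMod r))).vecMul w = (q : ZMod r)⁻¹ • w := by
    rw [Matrix.vecMul_sub, sub_eq_zero] at hw
    rw [← hw]
    funext i
    simp [Matrix.scalar_apply, Matrix.vecMul_diagonal, mul_comm]
  obtain ⟨d, hd⟩ := TorusLog.exists_of_log ctx θr cinv_ok w
  have hdtw := (TorusLog.twist_log ctx θr hθr hrq hd).2 hwe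
  rw [← hconjd _ (ctx.hC.torus_mem_diag _)] at hdtw
  set z : GL chevF4.Idx K := g⁻¹ * H52.torus chevF4 d * g with hz
  have hzfix : glF chevF4 σ.toRingHom z = z := by
    have hFr : glF chevF4 σ.toRingHom (H52.torus chevF4 d) = H52.torus chevF4 d ^ q := by
      rw [Ctx.glF_torus, ← map_pow]
      congr 1
      funext i
      exact Units.ext (by simp [hσ])
    rw [hz, map_mul, map_mul, map_inv, hFr, ← hdtw, hn]
    group
  have hzG : z ∈ chevF4.group K :=
    mul_mem (mul_mem (inv_mem hgG) (ctx.diag_le_group (ctx.hC.torus_mem_diag d))) hgG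
  obtain ⟨x, hxG, hxz⟩ := (ctx.fixed_eq_range σ ι hι
    (Ctx.torus_faithful ctx cinv_ok fun v hv => by simpa using hv) hzG).1 hzfix
  have hdr : H52.torus chevF4 d ^ r = 1 := by
    rw [← map_pow]
    refine (TorusLog.torus_ext ctx fun u => ?_).trans (map_one _)
    rw [TorusLog.chi_pow, hd, ← map_pow, ← ofAdd_nsmul, nsmul_eq_mul, ZMod.natCast_self, zero_mul,
      ofAdd_zero, map_one]
    simp [TorusLog.chi]
  have hd1 : H52.torus chevF4 d ≠ 1 := fun h => hw0 (funext fun b => by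
    have h1 := TorusLog.chi_of_torus_eq_one ctx h (ctx.simpleF b)
    rw [hd, TorusLog.rval_simple, ← map_one θr] at h1
    exact congrArg Multiplicative.toAdd (hθr h1))
  have hxord : orderOf (⟨x, hxG⟩ : ↥(chevF4.group F)) = r := by
    rw [Subgroup.orderOf_mk, ← orderOf_injective (glF chevF4 ι) (glF_injective ι), hxz, hz]
    refine orderOf_eq_prime ?_ fun h => hd1 ?_
    · rw [show g⁻¹ * H52.torus chevF4 d * g = g⁻¹ * H52.torus chevF4 d * g⁻¹⁻¹ by rw [inv_inv],
        conj_pow, hdr]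
      simp
    · calc H52.torus chevF4 d = g * (g⁻¹ * H52.torus chevF4 d * g) * g⁻¹ := by group
        _ = 1 := by rw [h]; simp
  obtain ⟨y, hy⟩ : ∃ y : E, y.1 ≠ 1 := by
    by_contra hall
    push Not at hall
    have : Subsingleton E := ⟨fun a b => Subtype.ext ((hall a).trans (hall b).symm)⟩
    have h1 : Nat.card E ≤ 1 := Finite.card_le_one_iff_subsingleton.2 inferInstance
    rw [hE] at h1
    have := Nat.pow_le_pow_left hs.out.two_le 2
    omega
  refine ⟨⟨x, hxG⟩, y.1.1, hxord, ?_, ?_⟩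
  · rw [Subgroup.orderOf_coe]
    exact orderOf_eq_prime y.2 hy
  · have hι' := glF_injective (D := chevF4) ι
    refine Subtype.ext (hι' ?_)
    rw [Subgroup.coe_mul, Subgroup.coe_mul, map_mul, map_mul, hxz, hz,
      show glF chevF4 ι ((y.1.1 : ↥(chevF4.group F)) : GL chevF4.Idx F) =
        g⁻¹ * H52.torus chevF4 (c y) * g by rw [hc]; group]
    calc g⁻¹ * H52.torus chevF4 d * g * (g⁻¹ * H52.torus chevF4 (c y) * g)
        = g⁻¹ * (H52.torus chevF4 d * H52.torus chevF4 (c y)) * g := by group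
      _ = g⁻¹ * (H52.torus chevF4 (c y) * H52.torus chevF4 d) * g := by
        rw [ctx.diag_comm (ctx.hC.torus_mem_diag _) (ctx.hC.torus_mem_diag _)]
      _ = _ := by group

end F4Prime

end H54
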