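import Cfsg.Agent.H54.E7Lattice
import Cfsg.Agent.H54.F4PrimeTorus
import Cfsg.Agent.H54.WeylExceptions
import Cfsg.Agent.H52.OrderE7

/-!
In the group of type E7 over the field with two elements no element of order 5 commutes with an element of
order 13.
-/

set_option autoImplicit false
set_option linter.unusedSectionVars false
set_option maxRecDepth 8000

open Cfsg.Lie
open scoped MatrixGroups Matrix
open Polynomial

namespace H54

namespace E7No65

instance fact13 : Fact (Nat.Prime 13) := ⟨by norm_num⟩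

/-- The data of type E7. -/
abbrev C : Ctx chevE7 := EigExc.ctxE7

/-- The order of the Weyl group. -/
abbrev W : ℕ := 2903040

theorem wmat_pow (L : List (Fin chevE7.rank)) : Ctx.wmat chevE7 L ^ W = 1 :=
  C.wmat_pow_eq_one (EigExc.e7_pow L)

/-- The form. -/
def gram : Matrix (Fin chevE7.rank) (Fin chevE7.rank) ℤ := E7Lat.egram

theorem gram_wmat (L : List (Fin chevE7.rank)) :
    (Ctx.wmat chevE7 L)ᵀ * gram * Ctx.wmat chevE7 L = gram := by
  have key : ((List.finRange chevE7.rank).all fun i => (List.finRange chevE7.rank).all fun a =>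
      (List.finRange chevE7.rank).all fun b =>
        ((Ctx.rmat chevE7 i)ᵀ * gram * Ctx.rmat chevE7 i) a b == gram a b) = true := by
    decide +kernel
  simp only [List.all_eq_true, beq_iff_eq] at key
  have hr : ∀ i, (Ctx.rmat chevE7 i)ᵀ * gram * Ctx.rmat chevE7 i = gram := fun i =>
    Matrix.ext fun a b => key i (List.mem_finRange _) a (List.mem_finRange _) b (List.mem_finRange _)
  induction L with
  | nil => simp [Ctx.wmat]
  | cons i L ih =>
    rw [Ctx.wmat, List.map_cons, List.prod_cons, ← Ctx.wmat, Matrix.transpose_mul]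
    calc _ = (Ctx.wmat chevE7 L)ᵀ * ((Ctx.rmat chevE7 i)ᵀ * gram * Ctx.rmat chevE7 i) *
          Ctx.wmat chevE7 L := by simp only [Matrix.mul_assoc]
      _ = _ := by rw [hr, ih]

theorem cyclotomic_twelve : cyclotomic 12 ℤ = X ^ 4 - X ^ 2 + 1 := by
  rw [show (12 : ℕ) = 6 * 2 from rfl,
    ← cyclotomic_expand_eq_cyclotomic Nat.prime_two (by norm_num : (2 : ℕ) ∣ 6) ℤ,
    (F4Prime.cyclotomic_eq (d := 6) (by decide)).1]
  simp [F4Prime.lin]
  ring

/-- An orbit space of dimension four. -/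
theorem four_indep {M : Matrix (Fin chevE7.rank) (Fin chevE7.rank) ℤ} {d : ℕ} (hd : 0 < d)
    (htot : d.totient = 4) {v : Fin chevE7.rank → ℤ} (hv : v ≠ 0)
    (hk : aeval M (cyclotomic d ℤ) *ᵥ v = 0) (S : Submodule ℚ (Fin chevE7.rank → ℚ))
    (hmem : ∀ i : ℕ, (H34.Tori.toQ M ^ i) *ᵥ (fun j => (v j : ℚ)) ∈ S) : 4 ≤ Module.finrank ℚ S := by
  set w : Fin chevE7.rank → ℚ := fun j => (v j : ℚ) with hw
  have hw0 : w ≠ 0 := fun e => hv (funext fun i => by
    have := congrFun e i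
    simpa [hw] using this)
  have hPw : (aeval (H34.Tori.toQ M) (cyclotomic d ℚ)) *ᵥ w = 0 := by
    rw [← map_cyclotomic d (Int.castRingHom ℚ), H34.Tori.aeval_toQ]
    funext i
    have h := congrFun hk i
    have e := RingHom.map_mulVec (Int.castRingHom ℚ) (aeval M (cyclotomic d ℤ)) v i
    rw [h, Pi.zero_apply, map_zero] at e
    exact e.symm
  have hli := H34.Tori.indep_of_irreducible (cyclotomic.irreducible_rat hd) hw0 hPw
  let u : Fin (cyclotomic d ℚ).natDegree → S := fun i => ⟨_, hmem i⟩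
  have hu : LinearIndependent ℚ u := LinearIndependent.of_comp S.subtype hli
  have := hu.fintype_card_le_finrank
  simpa [natDegree_cyclotomic, htot] using this

section

variable {r : ℕ} [hr : Fact r.Prime]

/-- The reduction modulo `r`. -/
abbrev red (r : ℕ) (M : Matrix (Fin chevE7.rank) (Fin chevE7.rank) ℤ) :
    Matrix (Fin chevE7.rank) (Fin chevE7.rank) (ZMod r) :=
  M.map (Int.castRingHom (ZMod r))

theorem red_mul (M N : Matrix (Fin chevE7.rank) (Fin chevE7.rank) ℤ) :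
    red r (M * N) = red r M * red r N := map_mul (Int.castRingHom (ZMod r)).mapMatrix M N

theorem red_pow_vecMul {M : Matrix (Fin chevE7.rank) (Fin chevE7.rank) ℤ}
    {φ : Fin chevE7.rank → ZMod r} {x : ZMod r} (h : (red r M).vecMul φ = x • φ) :
    ∀ n : ℕ, (red r (M ^ n)).vecMul φ = x ^ n • φ
  | 0 => by simp [red, Matrix.map_one]
  | n + 1 => by
    rw [pow_succ, red_mul, ← Matrix.vecMul_vecMul, red_pow_vecMul h n, Matrix.smul_vecMul, h,
      smul_smul, pow_succ]

theorem vecMul_aeval {M : Matrix (Fin chevE7.rank) (Fin chevE7.rank) ℤ}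
    {φ : Fin chevE7.rank → ZMod r} {x : ZMod r} (h : (red r M).vecMul φ = x • φ) (P : ℤ[X]) :
    (red r (aeval M P)).vecMul φ = (P.map (Int.castRingHom (ZMod r))).eval x • φ := by
  induction P using Polynomial.induction_on' with
  | add p q hp hq =>
    rw [map_add, red, Matrix.map_add _ (map_add _), Matrix.vecMul_add, ← red, ← red, hp, hq,
      Polynomial.map_add, eval_add, add_smul]
  | monomial n a =>
    rw [aeval_monomial, ← C_mul_X_pow_eq_monomial, Polynomial.map_mul, Polynomial.map_pow, map_C,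
      map_X, eval_mul, eval_C, eval_pow, eval_X, ← smul_smul, red_mul, ← Matrix.vecMul_vecMul,
      Algebra.algebraMap_eq_smul_one]
    have e : red r (a • (1 : Matrix (Fin chevE7.rank) (Fin chevE7.rank) ℤ)) =
        (Int.castRingHom (ZMod r) a) • 1 := by
      ext i j
      simp only [red, Matrix.map_apply, Matrix.smul_apply, Matrix.one_apply]
      split_ifs <;> simp
    rw [e, Matrix.vecMul_smul, Matrix.vecMul_one, Matrix.smul_vecMul, red_pow_vecMul h]

end

/-- The matrices fixing a functional modulo 13, as units. -/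
def stab (φ : Fin chevE7.rank → ZMod 13) :
    Subgroup (Matrix (Fin chevE7.rank) (Fin chevE7.rank) ℤ)ˣ where
  carrier := {u | (∃ L, (u : Matrix _ _ ℤ) = Ctx.wmat chevE7 L) ∧ (red 13 u.val).vecMul φ = φ}
  one_mem' := ⟨⟨[], by simp [Ctx.wmat]⟩, by simp [red, Matrix.map_one]⟩
  mul_mem' := by
    rintro a b ⟨⟨L, hL⟩, ha⟩ ⟨⟨L', hL'⟩, hb⟩
    refine ⟨⟨L ++ L', by rw [Units.val_mul, hL, hL', Ctx.wmat_append]⟩, ?_⟩
    rw [Units.val_mul, red_mul, ← Matrix.vecMul_vecMul, ha, hb]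
  inv_mem' := by
    rintro a ⟨⟨L, hL⟩, ha⟩
    obtain ⟨W', hW'⟩ : ∃ m, m + 1 = W := ⟨W - 1, rfl⟩
    obtain ⟨L', -, hL'⟩ := C.exists_pow L W'
    have hinv : ((a⁻¹ : (Matrix (Fin chevE7.rank) (Fin chevE7.rank) ℤ)ˣ) : Matrix _ _ ℤ) =
        Ctx.wmat chevE7 L' := by
      refine Units.inv_eq_of_mul_eq_one_right ?_
      rw [hL', hL, ← pow_succ', hW', wmat_pow]
    refine ⟨⟨L', hinv⟩, ?_⟩
    conv_lhs => rw [← ha]
    rw [Matrix.vecMul_vecMul, ← red_mul, ← Units.val_mul, mul_inv_cancel]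
    simp [red, Matrix.map_one]

theorem stab_finite (φ : Fin chevE7.rank → ZMod 13) : Finite ↥(stab φ) := by
  have hfin : (Set.range (Ctx.wmat chevE7)).Finite := by
    classical
    let f : Equiv.Perm (Fin chevE7.nroots) → Matrix (Fin chevE7.rank) (Fin chevE7.rank) ℤ := fun π =>
      if h : ∃ L, C.wperm L = π then Ctx.wmat chevE7 h.choose else 0
    refine (Set.finite_range f).subset ?_
    rintro _ ⟨L, rfl⟩
    have h : ∃ L', C.wperm L' = C.wperm L := ⟨L, rfl⟩
    exact ⟨C.wperm L, by rw [show f (C.wperm L) = _ from dif_pos h, C.wmat_congr h.choose_spec]⟩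
  have := hfin.to_subtype
  refine Finite.of_injective (fun u : ↥(stab φ) =>
    (⟨(u.1 : Matrix _ _ ℤ), u.2.1.imp fun L h => h.symm⟩ : Set.range (Ctx.wmat chevE7))) fun u v h => ?_
  exact Subtype.ext (Units.ext (congrArg Subtype.val h))

/-- The cofactor of the twelfth cyclotomic polynomial in `X ^ n - 1`. -/
theorem exists_cofactor {n : ℕ} (hn : 0 < n) (h12 : 12 ∣ n) (h13 : ¬ 13 ∣ n) {x : ZMod 13}
    (hx : orderOf x = 12) :
    ∃ R : ℤ[X], (X ^ n - 1 : ℤ[X]) = cyclotomic 12 ℤ * R ∧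
      (R.map (Int.castRingHom (ZMod 13))).eval x ≠ 0 := by
  refine ⟨∏ k ∈ n.divisors.erase 12, cyclotomic k ℤ, ?_, ?_⟩
  · rw [← prod_cyclotomic_eq_X_pow_sub_one hn ℤ]
    exact (Finset.mul_prod_erase n.divisors (fun k => cyclotomic k ℤ)
      (Nat.mem_divisors.2 ⟨h12, hn.ne'⟩)).symm
  · rw [Polynomial.map_prod, eval_prod, Finset.prod_ne_zero_iff]
    intro k hk h0
    obtain ⟨hk12, hk⟩ := Finset.mem_erase.1 hk
    rw [map_cyclotomic] at h0
    have : NeZero (k : ZMod 13) :=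
      ⟨fun h => h13 (((ZMod.natCast_eq_zero_iff _ _).1 h).trans (Nat.dvd_of_mem_divisors hk))⟩
    exact hk12 ((isRoot_cyclotomic_iff.1 h0).eq_orderOf.trans hx)

set_option maxHeartbeats 400000 in
/-- A Weyl element of order dividing 5 fixing an eigenvector of eigenvalue of order 12 is trivial. -/
theorem stab_five {φ : Fin chevE7.rank → ZMod 13} (hφ : φ ≠ 0) {L₀ : List (Fin chevE7.rank)}
    {x : ZMod 13} (hx : orderOf x = 12) (h₀ : (red 13 (Ctx.wmat chevE7 L₀)).vecMul φ = x • φ)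
    {L₁ : List (Fin chevE7.rank)} (h5 : C.wperm L₁ ^ 5 = 1)
    (h₁ : (red 13 (Ctx.wmat chevE7 L₁)).vecMul φ = φ) : C.wperm L₁ = 1 := by
  classical
  have : Fact (Nat.Prime 13) := ⟨by norm_num⟩
  obtain ⟨W', hW'⟩ : ∃ m, m + 1 = W := ⟨W - 1, rfl⟩
  set M := Ctx.wmat chevE7 L₀ with hMd
  set N := Ctx.wmat chevE7 L₁ with hNd
  have := stab_finite φ
  let : Fintype ↥(stab φ) := Fintype.ofFinite _
  set P : Matrix (Fin chevE7.rank) (Fin chevE7.rank) ℤ :=
    ∑ u : ↥(stab φ), ((u.1 : (Matrix (Fin chevE7.rank) (Fin chevE7.rank) ℤ)ˣ) : Matrix _ _ ℤ) with hP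
  let N' : ↥(stab φ) := ⟨⟨N, N ^ 4, by rw [← pow_succ', C.wmat_pow_eq_one h5],
    by rw [← pow_succ, C.wmat_pow_eq_one h5]⟩, ⟨L₁, rfl⟩, h₁⟩
  have hNP : N * P = P := by
    rw [hP, Finset.mul_sum]
    exact Fintype.sum_equiv (Equiv.mulLeft N') _ _ fun u => rfl
  let M' : (Matrix (Fin chevE7.rank) (Fin chevE7.rank) ℤ)ˣ := ⟨M, M ^ W',
    by rw [← pow_succ', hW', wmat_pow],
    by rw [← pow_succ, hW', wmat_pow]⟩
  have hxW : x ^ W = 1 := by
    rw [← orderOf_dvd_iff_pow_eq_one, hx]; decide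
  have hconj : ∀ u : ↥(stab φ), M' * u.1 * M'⁻¹ ∈ stab φ := by
    rintro ⟨u, ⟨L, hL⟩, hu⟩
    obtain ⟨L', -, hL'⟩ := C.exists_pow L₀ W'
    have e : (((M' * u * M'⁻¹ : (Matrix (Fin chevE7.rank) (Fin chevE7.rank) ℤ)ˣ)) :
        Matrix _ _ ℤ) = M * (u : Matrix _ _ ℤ) * M ^ W' := by
      rw [Units.val_mul, Units.val_mul]
      exact rfl
    refine ⟨⟨L₀ ++ L ++ L', ?_⟩, ?_⟩
    · rw [e, Ctx.wmat_append, Ctx.wmat_append, ← hL, hL']
    · rw [e, red_mul, red_mul, ← Matrix.vecMul_vecMul, ← Matrix.vecMul_vecMul, h₀, Matrix.smul_vecMul,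
        hu, Matrix.smul_vecMul, red_pow_vecMul h₀, smul_smul, ← pow_succ', hW',
        hxW, one_smul]
  have hinj : Function.Injective fun u : ↥(stab φ) => (⟨_, hconj u⟩ : ↥(stab φ)) := fun u v h => by
    have := congrArg Subtype.val h
    exact Subtype.ext (mul_left_cancel (mul_right_cancel this))
  have hMP : M * P = P * M := by
    rw [hP, Finset.mul_sum, Finset.sum_mul]
    refine Fintype.sum_bijective _ (Finite.injective_iff_bijective.1 hinj) _ _ fun u => ?_
    show M * _ = (((M' * u.1 * M'⁻¹ : (Matrix (Fin chevE7.rank) (Fin chevE7.rank) ℤ)ˣ) :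
      Matrix _ _ ℤ)) * M
    have e : (((M' * u.1 * M'⁻¹ : (Matrix (Fin chevE7.rank) (Fin chevE7.rank) ℤ)ˣ)) :
        Matrix _ _ ℤ) = M * ((u.1 : (Matrix (Fin chevE7.rank) (Fin chevE7.rank) ℤ)ˣ) : Matrix _ _ ℤ) *
          M ^ W' := by
      rw [Units.val_mul, Units.val_mul]
      exact rfl
    rw [e, mul_assoc (M * _) (M ^ W') M, ← pow_succ, hW', wmat_pow, mul_one]
  have hcard : (Fintype.card ↥(stab φ) : ZMod 13) ≠ 0 := by
    rw [Ne, ZMod.natCast_eq_zero_iff]
    intro h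
    rw [← Nat.card_eq_fintype_card] at h
    obtain ⟨u, hu⟩ := exists_prime_orderOf_dvd_card' 13 h
    obtain ⟨L, hL⟩ := u.2.1
    have h1 : u ^ W = 1 := Subtype.ext (Units.ext (by
      rw [SubgroupClass.coe_pow, Units.val_pow_eq_pow_val, hL, wmat_pow]; rfl))
    have h2 := orderOf_dvd_of_pow_eq_one h1
    rw [hu] at h2
    exact absurd h2 (by decide)
  have hφP : (red 13 P).vecMul φ = (Fintype.card ↥(stab φ) : ZMod 13) • φ := by
    have e : red 13 P = ∑ u : ↥(stab φ), red 13 (u.1 : (Matrix (Fin chevE7.rank) (Fin chevE7.rank) ℤ)ˣ).val := by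
      rw [hP]
      exact map_sum (Int.castRingHom (ZMod 13)).mapMatrix _ _
    rw [e, Matrix.vecMul_sum, Finset.sum_congr rfl fun u _ => u.2.2, Finset.sum_const, Finset.card_univ,
      ← Nat.cast_smul_eq_nsmul (ZMod 13)]
  -- the cofactor of the twelfth cyclotomic polynomial
  obtain ⟨R, hfac, hRx⟩ := exists_cofactor (n := W) (by norm_num [W]) (by norm_num [W])
    (by norm_num [W]) hx
  set Q := aeval M R * P with hQ
  have hQ0 : Q ≠ 0 := by
    intro h
    have h1 : (red 13 Q).vecMul φ = 0 := by rw [h]; simp [red]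
    rw [hQ, red_mul, ← Matrix.vecMul_vecMul, vecMul_aeval h₀, Matrix.smul_vecMul, hφP, smul_smul,
      smul_eq_zero] at h1
    exact h1.elim (mul_ne_zero hRx hcard) hφ
  obtain ⟨j, hj⟩ : ∃ j, Q *ᵥ Pi.single j 1 ≠ 0 := by
    by_contra hall
    push Not at hall
    refine hQ0 (Matrix.ext fun a b => ?_)
    simpa using congrFun (hall b) a
  set v := Q *ᵥ Pi.single j 1 with hv
  have hMv : aeval M (cyclotomic 12 ℤ) *ᵥ v = 0 := by
    rw [hv, Matrix.mulVec_mulVec, hQ, ← Matrix.mul_assoc, ← map_mul, ← hfac, map_sub, map_pow,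
      aeval_X, map_one, wmat_pow, sub_self, Matrix.zero_mul, Matrix.zero_mulVec]
  have hPM : Commute P M := hMP.symm
  have hNv : ∀ i : ℕ, N *ᵥ (M ^ i *ᵥ v) = M ^ i *ᵥ v := by
    intro i
    have hc : ∀ R' : ℤ[X], Commute P (aeval M R') := fun R' => by
      induction R' using Polynomial.induction_on' with
      | add p q hp hq => rw [map_add]; exact hp.add_right hq
      | monomial n a =>
        rw [aeval_monomial]
        exact (Algebra.commute_algebraMap_right a P).mul_right (hPM.pow_right n)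
    have e1 : M ^ i * (aeval M R * P) = P * (M ^ i * aeval M R) := by
      rw [← mul_assoc, ((hPM.pow_right i).mul_right (hc R)).eq]
    rw [hv, hQ, Matrix.mulVec_mulVec _ (M ^ i), Matrix.mulVec_mulVec _ N, e1, ← mul_assoc N, hNP]
  suffices hN1 : N = 1 by
    refine Equiv.ext fun s => C.cvec_injective ?_
    rw [← C.wmat_mulVec, ← hNd, hN1, Matrix.one_mulVec]
    rfl
  by_contra hN1
  set f : (Fin chevE7.rank → ℚ) →ₗ[ℚ] (Fin chevE7.rank → ℚ) :=
    Matrix.toLin' (H34.Tori.toQ N - 1) with hf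
  have hQv : ∀ (A : Matrix (Fin chevE7.rank) (Fin chevE7.rank) ℤ) (w : Fin chevE7.rank → ℤ),
      H34.Tori.toQ A *ᵥ (fun i => (w i : ℚ)) = fun i => ((A *ᵥ w) i : ℚ) := fun A w => funext fun i =>
    (RingHom.map_mulVec (Int.castRingHom ℚ) A w i).symm
  have hpowQ : ∀ (A : Matrix (Fin chevE7.rank) (Fin chevE7.rank) ℤ) (i : ℕ),
      H34.Tori.toQ A ^ i = H34.Tori.toQ (A ^ i) := fun A i =>
    (map_pow (Int.castRingHom ℚ).mapMatrix A i).symm
  have hker : 4 ≤ Module.finrank ℚ (LinearMap.ker f) := by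
    refine four_indep (M := M) (d := 12) (by norm_num) (by decide) hj hMv _ fun i => ?_
    rw [hpowQ, hQv, LinearMap.mem_ker, hf, Matrix.toLin'_apply, Matrix.sub_mulVec, Matrix.one_mulVec,
      hQv, hNv, sub_self]
  obtain ⟨j', hj'⟩ : ∃ j', (N - 1) *ᵥ Pi.single j' 1 ≠ 0 := by
    by_contra hall
    push Not at hall
    refine hN1 (sub_eq_zero.1 (Matrix.ext fun a b => ?_))
    simpa using congrFun (hall b) a
  have hk5 : aeval N (cyclotomic 5 ℤ) *ᵥ ((N - 1) *ᵥ Pi.single j' 1) = 0 := by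
    have h := congrArg (aeval N) (cyclotomic_prime_mul_X_sub_one ℤ 5 (hn := ⟨Nat.prime_five⟩))
    rw [map_mul, map_sub, map_sub, map_pow, aeval_X, map_one, C.wmat_pow_eq_one h5, sub_self] at h
    rw [Matrix.mulVec_mulVec, h, Matrix.zero_mulVec]
  have hrange : 4 ≤ Module.finrank ℚ (LinearMap.range f) := by
    refine four_indep (M := N) (d := 5) (by norm_num) (by decide) hj' hk5 _ fun i => ?_
    refine ⟨fun k => ((N ^ i *ᵥ Pi.single j' 1) k : ℚ), ?_⟩
    rw [hf, Matrix.toLin'_apply, Matrix.sub_mulVec, Matrix.one_mulVec, hpowQ, hQv, hQv]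
    funext k
    have hcomm : (N - 1) * N ^ i = N ^ i * (N - 1) :=
      ((Commute.refl N).pow_right i).sub_left (Commute.one_left _)
    rw [Matrix.mulVec_mulVec (Pi.single j' (1 : ℤ)) (N ^ i) (N - 1), ← hcomm,
      ← Matrix.mulVec_mulVec, Matrix.sub_mulVec, Matrix.one_mulVec]
    simp [Pi.sub_apply]
  have := LinearMap.finrank_range_add_finrank_ker f
  rw [Module.finrank_fin_fun] at this
  have h7 : chevE7.rank = 7 := rfl
  exact Nat.not_succ_le_self 7 ((le_of_le_of_eq (Nat.add_le_add hrange hker) this).trans h7.le)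

theorem stab_five_pow {φ : Fin chevE7.rank → ZMod 13} (hφ : φ ≠ 0) {L₀ : List (Fin chevE7.rank)}
    {x : ZMod 13} (hx : orderOf x = 12) (h₀ : (red 13 (Ctx.wmat chevE7 L₀)).vecMul φ = x • φ) :
    ∀ (k : ℕ) (L₁ : List (Fin chevE7.rank)), C.wperm L₁ ^ 5 ^ k = 1 →
      (red 13 (Ctx.wmat chevE7 L₁)).vecMul φ = φ → C.wperm L₁ = 1
  | 0, L₁, h, _ => by simpa using h
  | k + 1, L₁, h, hfix => by
    obtain ⟨L', h1, h2⟩ := C.exists_pow L₁ (5 ^ k)
    refine stab_five_pow hφ hx h₀ k L₁ ?_ hfix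
    rw [← h1]
    refine stab_five hφ hx h₀ (by rw [h1, ← pow_mul, ← pow_succ]; exact h) ?_
    have hfix' : (red 13 (Ctx.wmat chevE7 L₁)).vecMul φ = (1 : ZMod 13) • φ := by rw [hfix, one_smul]
    have : Fact (Nat.Prime 13) := ⟨by norm_num⟩
    rw [h2, red_pow_vecMul hfix', one_pow, one_smul]

end E7No65

end H54
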