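import Cfsg.Agent.H54.E7SixtyFiveWeyl

/-!
No element of order 65 in the group of type E7 over the field with two elements.
-/

set_option autoImplicit false
set_option linter.unusedSectionVars false
set_option maxRecDepth 8000

open Cfsg.Lie
open scoped MatrixGroups Matrix
open Polynomial

namespace H54

namespace E7No65

theorem gcd_one {Q n : ℕ} (h2 : Odd Q) (hn : n = 1 ∨ n = 2) : Q.gcd n = 1 := by
  rcases hn with rfl | rfl
  · exact Nat.gcd_one_right _
  · exact Nat.coprime_two_right.2 h2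

theorem dd_cases : ∀ j : Fin 7, (![1, 1, 1, 1, 1, 1, 2] : Fin 7 → ℕ) j = 1 ∨
    (![1, 1, 1, 1, 1, 1, 2] : Fin 7 → ℕ) j = 2 := by decide

/-- The torus has index prime to 13. -/
theorem index_not_dvd (K : Type*) [Field K] [Fintype K] (h2 : Odd (Fintype.card K - 1))
    (h : 13 ∣ Fintype.card K - 1) :
    ¬ 13 ∣ ((chevE7.diagonalSubgroup K).subgroupOf (chevE7.group K)).index := by
  intro hdiv
  set T := (chevE7.diagonalSubgroup K).subgroupOf (chevE7.group K)
  set Q := Fintype.card K with hQdef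
  have hQ2 : 1 < Q := Fintype.one_lt_card
  have hQ1 : (Q : ZMod 13) = 1 := by
    have := (ZMod.natCast_eq_zero_iff _ _).2 h
    rw [Nat.cast_sub (by omega)] at this
    simpa [sub_eq_zero] using this
  have hTc : Nat.card ↥T = (Q - 1) ^ chevE7.rank := by
    rw [Nat.card_congr (Subgroup.subgroupOfEquivOfLe C.diag_le_group).toEquiv]
    have := C.hC.card_diagonal (F := K) H52.divisorsE7
    rw [Finset.prod_eq_one, one_mul] at this
    · exact this
    · intro i _; exact gcd_one h2 (dd_cases i)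
  have hprod : ∀ ds : List ℕ, (ds.map fun d => Q ^ d - 1).prod =
      (ds.map fun d => ∑ i ∈ Finset.range d, Q ^ i).prod * (Q - 1) ^ ds.length := by
    intro ds
    induction ds with
    | nil => simp
    | cons a ds ih =>
      rw [List.map_cons, List.prod_cons, List.map_cons, List.prod_cons, List.length_cons, ih, pow_succ,
        ← geom_sum_mul_of_one_le (Fintype.card_pos (α := K)) a]
      ring
  have hidx : T.index = Q ^ (chevE7.nroots / 2) *
      (([2, 6, 8, 10, 12, 14, 18] : List ℕ).map fun d => ∑ i ∈ Finset.range d, Q ^ i).prod := by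
    have h := T.card_mul_index
    have hc := H52.e7_card (F := K) H52.divisorsE7
    rw [Finset.prod_eq_one, one_mul] at hc
    swap
    · intro i _; exact gcd_one h2 (dd_cases i)
    rw [hc, hTc, hprod] at h
    refine Nat.eq_of_mul_eq_mul_left (pow_pos (show 0 < Q - 1 by omega) chevE7.rank) ?_
    rw [h, show ([2, 6, 8, 10, 12, 14, 18] : List ℕ).length = chevE7.rank from rfl]
    ring
  rw [hidx, ← ZMod.natCast_eq_zero_iff, Nat.cast_mul, Nat.cast_pow, hQ1, one_pow, one_mul,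
    Nat.cast_list_prod, List.prod_eq_zero_iff, List.map_map, List.mem_map] at hdiv
  obtain ⟨d, hd, hd'⟩ := hdiv
  rw [Function.comp_apply, H34.Tori.geom_prod_cast hQ1, ZMod.natCast_eq_zero_iff] at hd'
  simp only [List.mem_cons, List.not_mem_nil, or_false] at hd
  rcases hd with rfl | rfl | rfl | rfl | rfl | rfl | rfl <;> omega

theorem regular_table : ∀ s : Fin chevE7.nroots, ∃ i : Fin chevE7.rank,
    chevE7.cartan i.val s.val % 5 ≠ 0 := by decide +kernel

section

variable {K : Type} [Field K]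

theorem chi_congr {c c' : Fin chevE7.rank → Kˣ} (h : H52.torus chevE7 c = H52.torus chevE7 c')
    (s : Fin chevE7.nroots) : TorusLog.chi C c s = TorusLog.chi C c' s := by
  have h1 : H52.torus chevE7 (c / c') = 1 := by rw [_root_.map_div, h, div_self']
  have h2 := TorusLog.chi_of_torus_eq_one C h1 s
  rw [show TorusLog.chi C (c / c') s = TorusLog.chi C c s / TorusLog.chi C c' s by
    simp only [TorusLog.chi]
    rw [← Finset.prod_div_distrib]
    exact Finset.prod_congr rfl fun i _ => by rw [Pi.div_apply, div_zpow]] at h2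
  exact div_eq_one.1 h2

theorem nw_append (L L' : List (Fin chevE7.rank)) :
    Ctx.nw chevE7 K (L ++ L') = Ctx.nw chevE7 K L * Ctx.nw chevE7 K L' := by
  simp [Ctx.nw]

/-- Powers of a monomial element. -/
theorem mono_pow {h : GL chevE7.Idx K} (hh : h ∈ chevE7.diagonalSubgroup K)
    (L : List (Fin chevE7.rank)) : ∀ m : ℕ, ∃ h' ∈ chevE7.diagonalSubgroup K, ∃ L',
      C.wperm L' = C.wperm L ^ m ∧ (h * Ctx.nw chevE7 K L) ^ m = h' * Ctx.nw chevE7 K L'
  | 0 => ⟨1, one_mem _, [], by simp [Ctx.wperm], by simp [Ctx.nw]⟩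
  | m + 1 => by
    obtain ⟨h', hh', L', hL', e⟩ := mono_pow hh L m
    refine ⟨h' * (Ctx.nw chevE7 K L' * h * (Ctx.nw chevE7 K L')⁻¹),
      mul_mem hh' (C.nw_conj_diag L' hh), L' ++ L, ?_, ?_⟩
    · rw [C.wperm_append, hL', pow_succ]
    · rw [pow_succ, e, nw_append]
      group

/-- A monomial element of finite order has a Weyl word of that order. -/
theorem wperm_pow_of_pow {h : GL chevE7.Idx K} (hh : h ∈ chevE7.diagonalSubgroup K)
    {L : List (Fin chevE7.rank)} {m : ℕ} (he : (h * Ctx.nw chevE7 K L) ^ m = 1) :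
    C.wperm L ^ m = 1 := by
  obtain ⟨h', hh', L', hL', e⟩ := mono_pow hh L m
  rw [he] at e
  have h1 := (C.nf_unique (u := 1) (u' := 1) (h := 1) (h' := h') (v := 1) (v' := 1) (L := [])
    (L' := L') (one_mem _) (one_mem _) (one_mem _) hh' (one_mem _) (one_mem _)
    (by rw [← e.trans (by group : h' * Ctx.nw chevE7 K L' = 1 * h' * Ctx.nw chevE7 K L' * 1)]; simp [Ctx.nw])).1
  rw [← hL', ← h1, Ctx.wperm_nil]

variable {F : Type} [Field F] [Fintype F] (ι : F →+* K) (σ : K ≃+* K)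
  (hσ : ∀ x, σ x = x ^ Fintype.card F) (hι : ∀ x, (∃ y, ι y = x) ↔ σ x = x)

include hσ hι in
/-- The functional of a fixed element inside the torus. -/
theorem eigen_of_fixed {p : ℕ} [hp : Fact p.Prime] (hpF : (Fintype.card F : ZMod p) ≠ 0)
    (θ : Multiplicative (ZMod p) →* Kˣ) (hθ : Function.Injective θ)
    (hsurj : ∀ u : Kˣ, u ^ p = 1 → ∃ z, θ z = u) {g : GL chevE7.Idx K}
    {z : GL chevE7.Idx F} (hz : orderOf z = p) {c : Fin chevE7.rank → Kˣ}
    (hc : H52.torus chevE7 c = g * glF chevE7 ι z * g⁻¹) {L : List (Fin chevE7.rank)}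
    (hL : ∀ y ∈ chevE7.diagonalSubgroup K,
      glF chevE7 σ.toRingHom g * g⁻¹ * y * (glF chevE7 σ.toRingHom g * g⁻¹)⁻¹ ∈ chevE7.diagonalSubgroup K →
        Ctx.nw chevE7 K L * y * (Ctx.nw chevE7 K L)⁻¹ =
          glF chevE7 σ.toRingHom g * g⁻¹ * y * (glF chevE7 σ.toRingHom g * g⁻¹)⁻¹) :
    ∃ φ : Fin chevE7.rank → ZMod p, φ ≠ 0 ∧
      (∀ s, TorusLog.chi C c s = θ (Multiplicative.ofAdd (TorusLog.rval C φ s))) ∧
      (red p (Ctx.wmat chevE7 L)).vecMul φ = (Fintype.card F : ZMod p)⁻¹ • φ := by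
  have hfix : glF chevE7 σ.toRingHom (glF chevE7 ι z) = glF chevE7 ι z := by
    rw [glF_comp]
    congr 1
    exact congrArg _ (RingHom.ext fun y => (hι (ι y)).1 ⟨y, rfl⟩)
  have htw : glF chevE7 σ.toRingHom g * g⁻¹ * H52.torus chevE7 c *
      (glF chevE7 σ.toRingHom g * g⁻¹)⁻¹ = H52.torus chevE7 c ^ Fintype.card F := by
    have hFr : glF chevE7 σ.toRingHom (H52.torus chevE7 c) =
        H52.torus chevE7 c ^ Fintype.card F := by
      rw [Ctx.glF_torus, ← map_pow]
      congr 1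
      funext i
      exact Units.ext (by simp [hσ])
    rw [← hFr, hc, map_mul, map_mul, map_inv, hfix]
    group
  have hcp : H52.torus chevE7 c ^ p = 1 := by
    rw [hc, conj_pow, ← map_pow, ← hz, pow_orderOf_eq_one]
    simp
  have hnw := hL _ (C.hC.torus_mem_diag c) (by rw [htw]; exact pow_mem (C.hC.torus_mem_diag c) _)
  rw [htw] at hnw
  obtain ⟨φ, hφ⟩ := TorusLog.exists_log C θ hsurj c hcp
  refine ⟨φ, fun h0 => ?_, hφ, (TorusLog.twist_log C θ hθ hpF hφ).1 hnw⟩
  have h1 : H52.torus chevE7 c = 1 := (TorusLog.torus_ext C (c' := 1) fun u => by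
    rw [hφ, h0]; simp [TorusLog.rval, TorusLog.chi]).trans (map_one _)
  rw [hc, conj_eq_one_iff, ← map_one (glF chevE7 ι)] at h1
  rw [glF_injective ι h1, orderOf_one] at hz
  exact hp.out.ne_one hz.symm

end

set_option maxHeartbeats 800000 in
/-- Over a field with two elements no elements of orders 13 and 5 commute. -/
theorem no_commute {F : Type} [Field F] [Fintype F] (hF : Fintype.card F = 2)
    (x y : ↥(chevE7.group F)) (hx : orderOf x = 13) (hy : orderOf y = 5) : ¬ Commute x y := by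
  classical
  intro hcomm
  obtain ⟨K, _, _, ι, σ, hσ, hι, hK⟩ := F4Prime.exists_ext (F := F)
  rw [hF] at hK
  have hodd : Odd (Fintype.card K - 1) := by rw [hK]; decide
  have h13K : 13 ∣ Fintype.card K - 1 := by rw [hK]; decide
  have h5K : 5 ∣ Fintype.card K - 1 := by rw [hK]; decide
  let ιG : ↥(chevE7.group F) →* ↥(chevE7.group K) :=
    ((glF chevE7 ι).comp (chevE7.group F).subtype).codRestrict _ fun z =>
      C.glF_group_le ι ⟨z, z.2, rfl⟩
  have hιG : Function.Injective ιG := fun a b h =>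
    Subtype.ext (glF_injective ι (congrArg Subtype.val h))
  obtain ⟨g₁, hg₁⟩ := H34.Tori.exists_conj_diag
    ((chevE7.diagonalSubgroup K).subgroupOf (chevE7.group K)) (index_not_dvd K hodd h13K)
    (x := ιG x) (by rw [orderOf_injective ιG hιG, hx])
  rw [Subgroup.mem_subgroupOf] at hg₁
  set t := g₁ * ιG x * g₁⁻¹ with ht
  set y' := g₁ * ιG y * g₁⁻¹ with hy'
  -- the functional of `t`
  obtain ⟨c₀, hc₀⟩ : ∃ c, H52.torus chevE7 c = (t : GL chevE7.Idx K) := by
    have h := hg₁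
    rw [C.hC.diagonalSubgroup_eq] at h; exact h
  obtain ⟨θ, hθ, hsurj⟩ := TorusLog.exists_theta K 13 (by rwa [Nat.card_eq_fintype_card])
  obtain ⟨L₀, hL₀⟩ := C.exists_fusion_word
    (c := glF chevE7 σ.toRingHom (g₁ : GL chevE7.Idx K) * (g₁ : GL chevE7.Idx K)⁻¹)
    (mul_mem (C.glF_group_le σ.toRingHom ⟨_, g₁.2, rfl⟩) (inv_mem g₁.2))
  have hx' : orderOf (x : GL chevE7.Idx F) = 13 := by rw [Subgroup.orderOf_coe]; exact hx
  have hy5 : orderOf (y : GL chevE7.Idx F) = 5 := by rw [Subgroup.orderOf_coe]; exact hy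
  have h13ne : (Fintype.card F : ZMod 13) ≠ 0 := by rw [hF]; decide
  obtain ⟨φ, hφ0, hφ, hφe⟩ := eigen_of_fixed ι σ hσ hι h13ne θ hθ hsurj hx'
    (g := (g₁ : GL chevE7.Idx K)) (c := c₀) (by rw [hc₀]; rfl) hL₀
  rw [hF, Nat.cast_ofNat] at hφe
  -- the 5-part of the torus in the centralizer
  set Cy : Subgroup ↥(chevE7.group K) := Subgroup.centralizer {t} with hCy
  let A : Subgroup ↥Cy :=
    { carrier := {a | (((a : ↥(chevE7.group K)) : GL chevE7.Idx K)) ∈ chevE7.diagonalSubgroup K ∧ a ^ 5 = 1}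
      one_mem' := ⟨one_mem _, one_pow _⟩
      mul_mem' := fun {a b} ha hb => ⟨mul_mem ha.1 hb.1, by
        have hab : Commute a b := Subtype.ext (Subtype.ext (C.diag_comm ha.1 hb.1))
        rw [hab.mul_pow, ha.2, hb.2, one_mul]⟩
      inv_mem' := fun {a} ha => ⟨inv_mem ha.1, by rw [inv_pow, ha.2, inv_one]⟩ }
  have hA : IsPGroup 5 ↥A := fun a => ⟨1, Subtype.ext (by simpa using a.2.2)⟩
  obtain ⟨P, hAP⟩ := hA.exists_le_sylow
  have hPA : (P : Subgroup ↥Cy) ≤ A := by
    by_contra hle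
    set A' : Subgroup ↥(P : Subgroup ↥Cy) := A.subgroupOf (P : Subgroup ↥Cy) with hA'
    have hlt : A' < ⊤ := lt_top_iff_ne_top.2 fun h => hle fun b hb => by
      have : (⟨b, hb⟩ : ↥(P : Subgroup ↥Cy)) ∈ A' := h ▸ Subgroup.mem_top _
      exact this
    have hPfin : Group.IsNilpotent ↥(P : Subgroup ↥Cy) := P.isPGroup'.isNilpotent
    obtain ⟨-, ⟨n₀, hn₀N, hn₀⟩⟩ :=
      SetLike.lt_iff_le_and_exists.1 (normalizerCondition_of_isNilpotent A' hlt)
    set n : ↥Cy := n₀.1 with hn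
    have hnA : n ∉ A := hn₀
    have hconj : ∀ a ∈ A, n * a * n⁻¹ ∈ A ∧ n⁻¹ * a * n ∈ A := by
      intro a ha
      have hN := Subgroup.mem_normalizer_iff.1 hn₀N ⟨a, hAP ha⟩
      have hN' := Subgroup.mem_normalizer_iff''.1 hn₀N ⟨a, hAP ha⟩
      exact ⟨hN.1 ha, hN'.1 ha⟩
    -- the regular family
    let J := {c : Fin chevE7.rank → Kˣ // H52.torus chevE7 c ^ 5 = 1}
    have hmemJ : ∀ j : J, ∃ a ∈ A, (((a : ↥Cy) : ↥(chevE7.group K)) : GL chevE7.Idx K) =
        H52.torus chevE7 j.1 := by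
      intro j
      have hd := C.hC.torus_mem_diag (F := K) j.1
      have hin : (⟨H52.torus chevE7 j.1, C.diag_le_group hd⟩ : ↥(chevE7.group K)) ∈ Cy := by
        rw [hCy, Subgroup.mem_centralizer_singleton_iff]
        exact Subtype.ext (C.diag_comm hd hg₁)
      exact ⟨⟨_, hin⟩, ⟨hd, Subtype.ext (Subtype.ext (by simpa using j.2))⟩, rfl⟩
    choose a haA ha using hmemJ
    have himg : ∀ j : J, ∃ c' : Fin chevE7.rank → Kˣ,
        H52.torus chevE7 c' = (((n * a j * n⁻¹ : ↥Cy) : ↥(chevE7.group K)) : GL chevE7.Idx K) := by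
      intro j
      have h := (hconj _ (haA j)).1.1
      rw [C.hC.diagonalSubgroup_eq] at h
      exact h
    choose c' hc' using himg
    obtain ⟨ζ, hζ⟩ : ∃ ζ : Kˣ, orderOf ζ = 5 :=
      exists_prime_orderOf_dvd_card' 5 (by rw [Nat.card_units, Nat.card_eq_fintype_card]; exact h5K)
    have hreg : ∀ s : Fin chevE7.nroots, ∃ j : J, TorusLog.chi C j.1 s ≠ 1 := by
      intro s
      obtain ⟨i, hi⟩ := regular_table s
      refine ⟨⟨Pi.mulSingle i ζ, by rw [← map_pow, ← Pi.mulSingle_pow, ← hζ, pow_orderOf_eq_one]; simp⟩, ?_⟩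
      intro h
      simp only [TorusLog.chi] at h
      rw [Finset.prod_eq_single i (fun k _ hk => by rw [Pi.mulSingle_eq_of_ne hk, one_zpow])
        (fun hk => absurd (Finset.mem_univ _) hk), Pi.mulSingle_eq_same] at h
      rw [← orderOf_dvd_iff_zpow_eq_one, hζ] at h
      exact hi (Int.emod_eq_zero_of_dvd h)
    have hreg' : ∀ s : Fin chevE7.nroots, ∃ j : J, TorusLog.chi C (c' j) s ≠ 1 := by
      intro s
      obtain ⟨j, hj⟩ := hreg s
      obtain ⟨h1, h2⟩ := (hconj _ (haA j)).2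
      rw [C.hC.diagonalSubgroup_eq] at h1
      obtain ⟨d, hd⟩ := h1
      have hd5 : H52.torus chevE7 d ^ 5 = 1 := by
        rw [hd]
        have h3 := congrArg (fun b : ↥Cy => ((b : ↥(chevE7.group K)) : GL chevE7.Idx K)) h2
        simpa using h3
      refine ⟨⟨d, hd5⟩, fun h => hj ?_⟩
      rw [← h]
      refine chi_congr ?_ s
      rw [hc', Subgroup.coe_mul, Subgroup.coe_mul, Subgroup.coe_mul, Subgroup.coe_mul, ha, hd, ← ha j]
      simp only [Subgroup.coe_mul, Subgroup.coe_inv]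
      group
    obtain ⟨h₀, hh₀, L, hnL⟩ := TorusLog.mono_of_regular C (fun j : J => j.1) c' hreg hreg'
      (g := ((n : ↥(chevE7.group K)) : GL chevE7.Idx K)) (n : ↥(chevE7.group K)).2 fun j => by
        rw [hc', ← ha]; simp only [Subgroup.coe_mul, Subgroup.coe_inv]
    have hnt : Ctx.nw chevE7 K L * H52.torus chevE7 c₀ * (Ctx.nw chevE7 K L)⁻¹ =
        H52.torus chevE7 c₀ ^ 1 := by
      have hd : Ctx.nw chevE7 K L * H52.torus chevE7 c₀ * (Ctx.nw chevE7 K L)⁻¹ ∈
          chevE7.diagonalSubgroup K := C.nw_conj_diag L (C.hC.torus_mem_diag _)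
      have h1 : ((n : ↥(chevE7.group K)) : GL chevE7.Idx K) * t =
          t * ((n : ↥(chevE7.group K)) : GL chevE7.Idx K) :=
        congrArg Subtype.val (Subgroup.mem_centralizer_singleton_iff.1 n.2)
      rw [hnL, ← hc₀] at h1
      rw [pow_one]
      calc _ = h₀⁻¹ * (h₀ * Ctx.nw chevE7 K L * H52.torus chevE7 c₀) * (Ctx.nw chevE7 K L)⁻¹ := by group
        _ = h₀⁻¹ * (H52.torus chevE7 c₀ * h₀) := by rw [h1]; group
        _ = h₀⁻¹ * (h₀ * H52.torus chevE7 c₀) := by rw [C.diag_comm hh₀ (C.hC.torus_mem_diag _)]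
        _ = _ := by group
    have hfix := (TorusLog.twist_log C θ hθ (q := 1) (by simp) hφ).1 hnt
    rw [Nat.cast_one, inv_one, one_smul] at hfix
    obtain ⟨k, hk⟩ := P.isPGroup' n₀
    have hk' : (h₀ * Ctx.nw chevE7 K L) ^ 5 ^ k = 1 := by
      rw [← hnL]
      have h3 := congrArg
        (fun b : ↥(P : Subgroup ↥Cy) => ((b.1 : ↥(chevE7.group K)) : GL chevE7.Idx K)) hk
      simpa using h3
    have hw := stab_five_pow hφ0 orderOf_inv_two hφe k L (wperm_pow_of_pow hh₀ hk') hfix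
    have hnd : ((n : ↥(chevE7.group K)) : GL chevE7.Idx K) ∈ chevE7.diagonalSubgroup K :=
      hnL ▸ mul_mem hh₀ (C.nw_mem_diag hw)
    refine hnA ⟨hnd, ?_⟩
    obtain ⟨d, hd⟩ : ∃ d, H52.torus chevE7 d = ((n : ↥(chevE7.group K)) : GL chevE7.Idx K) := by
      have h := hnd
      rw [C.hC.diagonalSubgroup_eq] at h; exact h
    have h819 : (((n : ↥(chevE7.group K)) : GL chevE7.Idx K) ^ 5) ^ 819 = 1 := by
      rw [← hd, ← pow_mul, ← map_pow, show d ^ (5 * 819) = 1 from funext fun i => by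
        rw [Pi.pow_apply, show 5 * 819 = Fintype.card Kˣ by rw [Fintype.card_units, hK]; rfl, pow_card_eq_one]
        rfl, map_one]
    have hpk : (((n : ↥(chevE7.group K)) : GL chevE7.Idx K) ^ 5) ^ 5 ^ k = 1 := by
      rw [← pow_mul, mul_comm, pow_mul, hnL, hk', one_pow]
    have h5 := pow_gcd_eq_one.2 ⟨h819, hpk⟩
    rw [show Nat.gcd 819 (5 ^ k) = 1 from Nat.Coprime.pow_right k (by norm_num), pow_one] at h5
    exact Subtype.ext (Subtype.ext (by simpa using h5))
  -- bring `y` into the torus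
  have hyC : y' ∈ Cy := by
    rw [hCy, Subgroup.mem_centralizer_singleton_iff, hy', ht]
    simp only [mul_assoc, inv_mul_cancel_left]
    rw [← mul_assoc (ιG x), ← mul_assoc (ιG y), (hcomm.map ιG).eq]
  have hZ : IsPGroup 5 ↥(Subgroup.zpowers (⟨y', hyC⟩ : ↥Cy)) := by
    refine IsPGroup.of_card (n := 1) ?_
    rw [Nat.card_zpowers, Subgroup.orderOf_mk, hy',
      show g₁ * ιG y * g₁⁻¹ = (MulAut.conj g₁).toMonoidHom (ιG y) from rfl,
      orderOf_injective _ (MulEquiv.injective _), orderOf_injective ιG hιG, hy, pow_one]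
  obtain ⟨P', hP'⟩ := hZ.exists_le_sylow
  obtain ⟨h, hh⟩ := MulAction.exists_smul_eq ↥Cy P' P
  have hyA : h * ⟨y', hyC⟩ * h⁻¹ ∈ A := by
    refine hPA ?_
    rw [← hh, Sylow.coe_subgroup_smul]
    exact ⟨_, hP' (Subgroup.mem_zpowers _), rfl⟩
  -- the common word
  set g₂ : ↥(chevE7.group K) := (h : ↥(chevE7.group K)) * g₁ with hg₂
  set g : GL chevE7.Idx K := (g₂ : GL chevE7.Idx K) with hg
  have hgx : g * glF chevE7 ι (x : GL chevE7.Idx F) * g⁻¹ = (t : GL chevE7.Idx K) := by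
    have e : g₂ * ιG x * g₂⁻¹ = t := by
      rw [hg₂, show (h : ↥(chevE7.group K)) * g₁ * ιG x * ((h : ↥(chevE7.group K)) * g₁)⁻¹ =
        (h : ↥(chevE7.group K)) * t * (h : ↥(chevE7.group K))⁻¹ by rw [ht]; group,
        Subgroup.mem_centralizer_singleton_iff.1 h.2, mul_inv_cancel_right]
    exact congrArg Subtype.val e
  obtain ⟨c₁, hc₁⟩ : ∃ c, H52.torus chevE7 c =
      g * glF chevE7 ι (y : GL chevE7.Idx F) * g⁻¹ := by
    have h1 := hyA.1
    rw [C.hC.diagonalSubgroup_eq] at h1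
    obtain ⟨c, hc⟩ := h1
    refine ⟨c, hc.trans ?_⟩
    rw [hg, hg₂]
    show ((h : ↥(chevE7.group K)) : GL chevE7.Idx K) *
        ((g₁ : GL chevE7.Idx K) * glF chevE7 ι (y : GL chevE7.Idx F) * (g₁ : GL chevE7.Idx K)⁻¹) *
          ((h : ↥(chevE7.group K)) : GL chevE7.Idx K)⁻¹ = _
    simp only [Subgroup.coe_mul]
    group
  obtain ⟨L, hL⟩ := C.exists_fusion_word
    (c := glF chevE7 σ.toRingHom g * g⁻¹)
    (mul_mem (C.glF_group_le σ.toRingHom ⟨_, g₂.2, rfl⟩) (inv_mem g₂.2))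
  obtain ⟨θ5, hθ5, hsurj5⟩ := TorusLog.exists_theta K 5 (by rwa [Nat.card_eq_fintype_card])
  obtain ⟨φ', hφ'0, -, hφ'e⟩ := eigen_of_fixed ι σ hσ hι h13ne θ hθ hsurj hx'
    (g := g) (c := c₀) (by rw [hc₀, hgx]) hL
  obtain ⟨ψ, hψ0, -, hψe⟩ := eigen_of_fixed ι σ hσ hι (by rw [hF]; decide) θ5 hθ5 hsurj5 hy5
    (g := g) (c := c₁) hc₁ hL
  rw [hF, Nat.cast_ofNat] at hφ'e hψe
  exact no_word L hφ'0 hφ'e hψ0 hψe

/-- There is no element of order 65. -/
theorem no_order {F : Type} [Field F] [Fintype F] (hF : Fintype.card F = 2)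
    (g : ↥(chevE7.group F)) : orderOf g ≠ 65 := by
  intro hg
  refine no_commute hF (g ^ 5) (g ^ 13) ?_ ?_ ((Commute.refl g).pow_pow 5 13)
  · rw [orderOf_pow' g (by norm_num), hg]; rfl
  · rw [orderOf_pow' g (by norm_num), hg]; rfl

end E7No65

end H54
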