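import Cfsg.Agent.H54.E7SixtyFive

/-!
A Weyl element of type E7 has no eigenvalue of order 12 modulo 13 together with one of order 4
modulo 5, at the inverse of 2.
-/

set_option autoImplicit false
set_option linter.unusedSectionVars false
set_option maxRecDepth 8000

open Cfsg.Lie
open scoped MatrixGroups Matrix
open Polynomial

namespace H54

namespace E7No65

instance fact5 : Fact (Nat.Prime 5) := ⟨Nat.prime_five⟩

theorem dvd_twelve_of_totient {k : ℕ} (hk : k ∣ 2 ^ 10 * 3 ^ 4 * (5 * 7)) (h : k.totient ≤ 3) :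
    k ∣ 12 := by
  have hk0 : 0 < k := Nat.pos_of_dvd_of_pos hk (by norm_num)
  have hbad : ∀ d, d ∣ k → d.totient ≤ 3 := fun d hd =>
    (Nat.le_of_dvd (Nat.totient_pos.2 hk0) (Nat.totient_dvd_of_dvd hd)).trans h
  have hcop : Nat.Coprime k (5 * 7) := by
    refine Nat.Coprime.mul_right ?_ ?_
    · exact ((Nat.prime_five.coprime_iff_not_dvd).2 fun hd => absurd (hbad 5 hd) (by decide)).symm
    · exact (((show Nat.Prime 7 by norm_num).coprime_iff_not_dvd).2
        fun hd => absurd (hbad 7 hd) (by decide)).symm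
  obtain ⟨a, b, ha, hb, rfl⟩ := Nat.dvd_mul.1 (hcop.dvd_of_dvd_mul_right hk)
  obtain ⟨i, hi, rfl⟩ := (Nat.dvd_prime_pow Nat.prime_two).1 ha
  obtain ⟨j, hj, rfl⟩ := (Nat.dvd_prime_pow Nat.prime_three).1 hb
  have hi2 : i ≤ 2 := by
    by_contra hlt
    exact absurd (hbad _ ((pow_dvd_pow 2 (show 3 ≤ i by omega)).trans (Dvd.intro _ rfl))) (by decide)
  have hj1 : j ≤ 1 := by
    by_contra hlt
    exact absurd (hbad _ ((pow_dvd_pow 3 (show 2 ≤ j by omega)).trans (Dvd.intro_left _ rfl))) (by decide)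
  exact (mul_dvd_mul (pow_dvd_pow 2 hi2) (pow_dvd_pow 3 hj1))

theorem orderOf_inv_two : orderOf ((2 : ZMod 13)⁻¹) = 12 :=
  (orderOf_eq_iff (by norm_num)).2 ⟨by decide +kernel, by decide +kernel⟩

/-- A monic cubic dividing a power of `X ^ W - 1` with root 3 modulo 5 is `Φ₄` times a linear factor. -/
theorem cubic_eq {R : ℤ[X]} (hRm : R.Monic) (hdeg : R.natDegree = 3) {n : ℕ} (hn : 0 < n)
    (hn' : n ∣ 2 ^ 10 * 3 ^ 4 * (5 * 7)) {m : ℕ} (hR : R ∣ (X ^ n - 1) ^ m)
    (h0 : (R.map (Int.castRingHom (ZMod 5))).eval 3 = 0) :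
    ∃ t : ℤ, (t = 1 ∨ t = -1) ∧ R = (X ^ 2 + 1) * (X - Polynomial.C t) := by
  obtain ⟨f, hf, hassoc⟩ := UniqueFactorizationMonoid.exists_prime_factors R hRm.ne_zero
  obtain ⟨u, hu⟩ := hassoc
  obtain ⟨p, hp, hp0⟩ : ∃ p ∈ f, (p.map (Int.castRingHom (ZMod 5))).eval 3 = 0 := by
    have h1 := h0
    rw [← hu, Polynomial.map_mul, eval_mul, mul_eq_zero] at h1
    rcases h1 with h1 | h1
    · rw [Polynomial.map_multiset_prod, eval_multiset_prod, Multiset.prod_eq_zero_iff,
        Multiset.map_map] at h1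
      obtain ⟨p, hp, hp'⟩ := Multiset.mem_map.1 h1
      exact ⟨p, hp, hp'⟩
    · exact absurd h1 ((u.isUnit.map (mapRingHom (Int.castRingHom (ZMod 5)))).map (evalRingHom 3)).ne_zero
  have hpR : p ∣ R := hu ▸ (Multiset.dvd_prod hp).mul_right _
  have hpX : p ∣ X ^ n - 1 := (hf p hp).dvd_of_dvd_pow (hpR.trans hR)
  rw [← prod_cyclotomic_eq_X_pow_sub_one hn ℤ] at hpX
  obtain ⟨k, hk, hpk⟩ := (hf p hp).exists_mem_finset_dvd hpX
  have hk0 : 0 < k := Nat.pos_of_mem_divisors hk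
  have ha : Associated p (cyclotomic k ℤ) :=
    (hf p hp).irreducible.associated_of_dvd (cyclotomic.irreducible hk0) hpk
  have hΦR : cyclotomic k ℤ ∣ R := ha.dvd'.trans hpR
  have hΦ0 : ((cyclotomic k ℤ).map (Int.castRingHom (ZMod 5))).eval 3 = 0 := by
    obtain ⟨v, hv⟩ := ha
    rw [← hv, Polynomial.map_mul, eval_mul, hp0, zero_mul]
  have htot : k.totient ≤ 3 := by
    have h1 := natDegree_le_of_dvd hΦR hRm.ne_zero
    rwa [natDegree_cyclotomic, hdeg] at h1
  have hk12 := dvd_twelve_of_totient ((Nat.dvd_of_mem_divisors hk).trans hn') htot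
  have hk4 : k = 4 := by
    have := Nat.le_of_dvd (by norm_num) hk12
    interval_cases k
    all_goals first
      | rfl
      | (exfalso; revert hk12; decide)
      | skip
    · rw [cyclotomic_one] at hΦ0; simp at hΦ0; exact absurd hΦ0 (by decide)
    · rw [cyclotomic_two] at hΦ0; simp at hΦ0; exact absurd hΦ0 (by decide)
    · rw [cyclotomic_three] at hΦ0; simp at hΦ0; exact absurd hΦ0 (by decide)
    · rw [EigExc.cyclotomic_six] at hΦ0; simp at hΦ0; exact absurd hΦ0 (by decide)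
    · exact absurd htot (by decide)
  subst hk4
  obtain ⟨S, hS⟩ := hΦR
  rw [EigExc.cyclotomic_four] at hS
  have hq : (X ^ 2 + 1 : ℤ[X]).Monic := by monicity!
  have hSm : S.Monic := hq.of_mul_monic_left (hS ▸ hRm)
  have hS1 : S.natDegree = 1 := by
    have h1 := congrArg natDegree hS
    rw [hdeg, hq.natDegree_mul hSm, show (X ^ 2 + 1 : ℤ[X]).natDegree = 2 by compute_degree!] at h1
    omega
  have hSe : S = X - Polynomial.C (-S.coeff 0) := by
    conv_lhs => rw [hSm.eq_X_add_C hS1]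
    rw [map_neg, sub_neg_eq_add]
  refine ⟨-S.coeff 0, ?_, hS.trans (by rw [← hSe])⟩
  have hroot : ((X ^ n - 1 : ℤ[X]) ^ m).eval (-S.coeff 0) = 0 := by
    refine eval_eq_zero_of_dvd_of_eval_eq_zero hR ?_
    rw [hS, hSe]; simp
  simp only [eval_pow, eval_sub, eval_X, eval_one] at hroot
  have h1 : (-S.coeff 0) ^ n = 1 := sub_eq_zero.1 (eq_zero_of_pow_eq_zero hroot)
  exact Int.isUnit_iff.1 (IsUnit.of_pow_eq_one h1 hn.ne')

set_option maxHeartbeats 400000 in
/-- No Weyl element has both eigenvalues. -/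
theorem no_word (L : List (Fin chevE7.rank)) {φ : Fin chevE7.rank → ZMod 13} (hφ : φ ≠ 0)
    (hφe : (red 13 (Ctx.wmat chevE7 L)).vecMul φ = (2 : ZMod 13)⁻¹ • φ)
    {ψ : Fin chevE7.rank → ZMod 5} (hψ : ψ ≠ 0)
    (hψe : (red 5 (Ctx.wmat chevE7 L)).vecMul ψ = (2 : ZMod 5)⁻¹ • ψ) : False := by
  obtain ⟨R, hRm, hRX, -, -, hM, hdeg⟩ := CycloMult.exists_split (Ctx.wmat chevE7 L) (r := 13)
    (by norm_num [W]) (wmat_pow L) _ (by norm_num : 0 < 12) orderOf_inv_two
  set b := ((Ctx.wmat chevE7 L).map (Int.castRingHom (ZMod 13))).charpoly.rootMultiplicity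
    ((2 : ZMod 13)⁻¹) with hb
  have hb0 : 0 < b := (rootMultiplicity_pos (Matrix.charpoly_monic _).ne_zero).2
    (F4Prime.isRoot_of_eigen _ hφ hφe)
  have h12 : Nat.totient 12 = 4 := by decide
  have h7 : chevE7.rank = 7 := rfl
  rw [h12] at hdeg
  have hb1 : b = 1 := by omega
  rw [hb1, pow_one, cyclotomic_twelve] at hM
  have h5 := F4Prime.isRoot_of_eigen _ hψ hψe
  rw [Matrix.charpoly_map, hM, Polynomial.map_mul, IsRoot, eval_mul,
    show ((2 : ZMod 5)⁻¹) = 3 by decide +kernel] at h5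
  have hne : ((X ^ 4 - X ^ 2 + 1 : ℤ[X]).map (Int.castRingHom (ZMod 5))).eval (3 : ZMod 5) ≠ 0 := by
    simp; decide +kernel
  obtain ⟨t, ht, hR⟩ := cubic_eq hRm (by omega) (n := W) (by norm_num [W]) (by norm_num [W]) hRX
    ((mul_eq_zero.1 h5).resolve_left hne)
  have htt : t * t = 1 := by rcases ht with rfl | rfl <;> norm_num
  rw [hR] at hM
  set M : Matrix (Fin 7) (Fin 7) ℤ := Ctx.wmat chevE7 L with hMd
  have hgram : Mᵀ * E7Lat.egram * M = E7Lat.egram := gram_wmat L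
  have hM' : M.charpoly = (X ^ 4 - X ^ 2 + 1) * ((X ^ 2 + 1) * (X - Polynomial.C t)) := hM
  refine E7Lat.no_isometry (t • M) ?_ ?_ ?_ ?_
  · rw [Matrix.transpose_smul, Matrix.smul_mul, Matrix.smul_mul, Matrix.mul_smul, smul_smul, htt,
      one_smul, hgram]
  · have h0 := Matrix.aeval_self_charpoly M
    rw [hM'] at h0
    simp only [map_mul, map_add, map_sub, map_pow, aeval_X, map_one, aeval_C] at h0
    have h2 : ∀ k : ℕ, (t • M) ^ (2 * k) = M ^ (2 * k) := fun k => by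
      rw [_root_.smul_pow, pow_mul t, pow_two, htt, one_pow, one_smul]
    rw [show (4 : ℕ) = 2 * 2 from rfl, h2 2, show (2 : ℕ) = 2 * 1 from rfl, h2 1]
    have h3 : t • M - 1 = t • (M - algebraMap ℤ (Matrix (Fin 7) (Fin 7) ℤ) t) := by
      rw [Algebra.algebraMap_eq_smul_one, smul_sub, smul_smul, htt, one_smul]
    rw [h3, mul_smul_comm]
    rw [← mul_assoc] at h0
    show t • ((M ^ 4 - M ^ 2 + 1) * (M ^ 2 + 1) * _) = 0
    rw [h0, smul_zero]
  · have hdet : (Matrix.scalar (Fin 7) t - M).det = 0 := by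
      rw [← Matrix.eval_charpoly, hM']; simp
    obtain ⟨v, hv0, hv⟩ := Matrix.exists_mulVec_eq_zero_iff.2 hdet
    refine ⟨v, hv0, ?_⟩
    rw [Matrix.sub_mulVec, sub_eq_zero] at hv
    rw [Matrix.smul_mulVec, ← hv]
    funext i
    simp [Matrix.scalar_apply, Matrix.mulVec_diagonal, ← mul_assoc, htt]
  · intro f g hf hg hg0
    set Mq : Matrix (Fin 7) (Fin 7) ℚ := M.map (Int.castRingHom ℚ) with hMq
    have hmult : (Matrix.toLin' Mq).charpoly.rootMultiplicity (t : ℚ) = 1 := by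
      rw [Matrix.charpoly_toLin', hMq, Matrix.charpoly_map, hM', Polynomial.map_mul, Polynomial.map_mul]
      have hl : ((X - Polynomial.C t : ℤ[X]).map (Int.castRingHom ℚ)) = X - Polynomial.C (t : ℚ) := by simp
      have hA : ¬ IsRoot (((X ^ 4 - X ^ 2 + 1 : ℤ[X]).map (Int.castRingHom ℚ))) (t : ℚ) := by
        rcases ht with rfl | rfl <;> simp [IsRoot] <;> norm_num
      have hB : ¬ IsRoot (((X ^ 2 + 1 : ℤ[X]).map (Int.castRingHom ℚ))) (t : ℚ) := by
        rcases ht with rfl | rfl <;> simp [IsRoot] <;> norm_num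
      have hA0 : ((X ^ 4 - X ^ 2 + 1 : ℤ[X]).map (Int.castRingHom ℚ)) ≠ 0 := fun e => hA (by simp [e])
      have hB0 : ((X ^ 2 + 1 : ℤ[X]).map (Int.castRingHom ℚ)) ≠ 0 := fun e => hB (by simp [e])
      rw [hl, rootMultiplicity_mul (mul_ne_zero hA0 (mul_ne_zero hB0 (Polynomial.X_sub_C_ne_zero _))),
        rootMultiplicity_mul (mul_ne_zero hB0 (Polynomial.X_sub_C_ne_zero _)), rootMultiplicity_eq_zero hA,
        rootMultiplicity_eq_zero hB, rootMultiplicity_X_sub_C_self]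
    have hle := LinearMap.finrank_eigenspace_le (Matrix.toLin' Mq) (t : ℚ)
    rw [hmult] at hle
    have hmem : ∀ w : Fin 7 → ℤ, (t • M) *ᵥ w = w →
        (fun i => (w i : ℚ)) ∈ Module.End.eigenspace (Matrix.toLin' Mq) (t : ℚ) := fun w hw => by
      rw [Module.End.mem_eigenspace_iff, Matrix.toLin'_apply]
      have h1 : M *ᵥ w = t • w := by
        conv_rhs => rw [← hw]
        rw [Matrix.smul_mulVec, smul_smul, htt, one_smul]
      funext i
      refine (RingHom.map_mulVec (Int.castRingHom ℚ) M w i).symm.trans ?_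
      rw [h1]; simp
    obtain ⟨v, hv⟩ := (finrank_le_one_iff (K := ℚ)).1 hle
    obtain ⟨a, ha⟩ := hv ⟨_, hmem f hf⟩
    obtain ⟨c, hc⟩ := hv ⟨_, hmem g hg⟩
    have hc0 : c ≠ 0 := by
      rintro rfl
      refine hg0 (funext fun i => ?_)
      have := congrFun (congrArg Subtype.val hc) i
      simpa using this.symm
    refine ⟨a / c, fun i => ?_⟩
    have h1 := congrFun (congrArg Subtype.val ha) i
    have h2 := congrFun (congrArg Subtype.val hc) i
    simp only [SetLike.val_smul, Pi.smul_apply, smul_eq_mul] at h1 h2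
    rw [← h1, ← h2]
    field_simp

end E7No65

end H54
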