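import Cfsg.Agent.H54.F4PrimeWeyl
import Cfsg.Agent.H54.ChevCentral
import Cfsg.Agent.H54.TorusLog
import Cfsg.Agent.H52.Parabolic
import Cfsg.Agent.H52.RankOne
import Cfsg.Agent.H21.F4Invol
import Cfsg.Agent.H37.Card

/-!
In the groups of type F4 in characteristic 2 the subgroup of a short root and its negative commutes with
elements of every prime order dividing `(q² - 1)(q⁴ - 1)(q⁶ - 1)`.
-/

set_option autoImplicit false
set_option linter.unusedSectionVars false
set_option maxRecDepth 8000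

open Cfsg.Lie
open scoped MatrixGroups Pointwise

namespace H54

namespace F4Prime

theorem dvd_of_sup {G : Type*} [Group G] [Finite G] {H N : Subgroup G}
    (h : H ≤ Subgroup.normalizer (N : Set G)) :
    Nat.card ↥(H ⊔ N) ∣ Nat.card ↥H * Nat.card ↥N := by
  have hsub : H ⊔ N ≤ Subgroup.normalizer (N : Set G) := sup_le h Subgroup.le_normalizer
  have hn : (N.subgroupOf (H ⊔ N)).Normal :=
    (Subgroup.normal_subgroupOf_iff_le_normalizer (le_sup_right : N ≤ H ⊔ N)).2 hsub
  let f : ↥H →* ↥(H ⊔ N) ⧸ N.subgroupOf (H ⊔ N) :=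
    (QuotientGroup.mk' _).comp (Subgroup.inclusion le_sup_left)
  have hf : Function.Surjective f := by
    intro z
    induction z using QuotientGroup.induction_on with
    | H z =>
      have hz : (z : G) ∈ ((H : Set G) * (N : Set G)) := by
        rw [← Subgroup.coe_mul_of_left_le_normalizer_right H N h]; exact z.2
      obtain ⟨a, ha, b, hb, he⟩ := hz
      refine ⟨⟨a, ha⟩, (QuotientGroup.eq).2 ?_⟩
      rw [Subgroup.mem_subgroupOf]
      show a⁻¹ * (z : G) ∈ N
      rw [← he]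
      simpa using hb
  rw [Subgroup.card_eq_card_quotient_mul_card_subgroup (N.subgroupOf (H ⊔ N)),
    Nat.card_congr (Subgroup.subgroupOfEquivOfLe (le_sup_right : N ≤ H ⊔ N)).toEquiv]
  exact Nat.mul_dvd_mul_right (Subgroup.card_dvd_of_surjective f hf) _

/-- The highest short root. -/
def hs : ℕ := 44

/-- Its negative. -/
def nhs : ℕ := 3

theorem neg_hs : chevF4.neg hs = nhs := by decide +kernel

theorem hs_lt : hs < chevF4.nroots := by decide +kernel

theorem nhs_lt : nhs < chevF4.nroots := by decide +kernel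

/-- The fundamental roots orthogonal to the highest short root. -/
def jJ : Set ℕ := {j | j ∈ [1, 2, 3]}

/-- The words of the Weyl group of the three orthogonal fundamental roots. -/
def words : List (List (Fin chevF4.rank)) :=
  ([
    [],
    [1],
    [2],
    [3],
    [2, 1],
    [3, 1],
    [1, 2],
    [3, 2],
    [2, 3],
    [1, 2, 1],
    [3, 2, 1],
    [2, 3, 1],
    [2, 1, 2],
    [3, 1, 2],
    [2, 3, 2],
    [1, 2, 3],
    [2, 1, 2, 1],
    [3, 1, 2, 1],
    [2, 3, 2, 1],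
    [1, 2, 3, 1],
    [3, 2, 1, 2],
    [2, 3, 1, 2],
    [1, 2, 3, 2],
    [2, 1, 2, 3],
    [3, 2, 1, 2, 1],
    [2, 3, 1, 2, 1],
    [1, 2, 3, 2, 1],
    [2, 1, 2, 3, 1],
    [2, 3, 2, 1, 2],
    [1, 2, 3, 1, 2],
    [2, 1, 2, 3, 2],
    [3, 2, 1, 2, 3],
    [2, 3, 2, 1, 2, 1],
    [1, 2, 3, 1, 2, 1],
    [2, 1, 2, 3, 2, 1],
    [3, 2, 1, 2, 3, 1],
    [1, 2, 3, 2, 1, 2],
    [2, 1, 2, 3, 1, 2],
    [3, 2, 1, 2, 3, 2],
    [1, 2, 3, 2, 1, 2, 1],
    [2, 1, 2, 3, 1, 2, 1],
    [3, 2, 1, 2, 3, 2, 1],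
    [2, 1, 2, 3, 2, 1, 2],
    [3, 2, 1, 2, 3, 1, 2],
    [2, 1, 2, 3, 2, 1, 2, 1],
    [3, 2, 1, 2, 3, 1, 2, 1],
    [3, 2, 1, 2, 3, 2, 1, 2],
    [3, 2, 1, 2, 3, 2, 1, 2, 1]] : List (List (Fin 4)))

theorem words_closed : ∀ i ∈ ([1, 2, 3] : List (Fin 4)), ∀ w ∈ words, ∃ w' ∈ words,
    ∀ b : Fin 4, H21.F4Inv.wact w' (ctx.simpleF b) =
      H53.weylForF4.data.act i (H21.F4Inv.wact w (ctx.simpleF b)) := by
  decide +kernel

theorem words_nodup : (words.map fun w => (List.finRange 4).map fun b : Fin 4 =>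
    (H21.F4Inv.wact w (ctx.simpleF b)).val).Nodup := by
  decide +kernel

theorem words_len : ∀ w ∈ words, Fintype.card {r : Fin chevF4.nroots //
    chevF4.nroots / 2 ≤ r.val ∧ ¬ chevF4.nroots / 2 ≤ (H21.F4Inv.wact w r).val} = w.length := by
  decide +kernel

theorem words_sub : ∀ w ∈ words, ∀ i ∈ w, i.val ∈ [1, 2, 3] := by decide +kernel

theorem sigma_eq_wact (w : List (Fin chevF4.rank)) (r : Fin chevF4.nroots) :
    ctx.wperm w r = H21.F4Inv.wact w r := H21.F4Inv.wact_eq w r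

theorem wperm_ext {w w' : List (Fin chevF4.rank)}
    (h : ∀ b, ctx.wperm w (ctx.simpleF b) = ctx.wperm w' (ctx.simpleF b)) :
    ctx.wperm w = ctx.wperm w' := by
  refine Equiv.ext fun r => ctx.cvec_injective ?_
  have hM : Ctx.wmat chevF4 w = Ctx.wmat chevF4 w' := ctx.mat_ext fun b => by
    rw [ctx.wmat_mulVec, ctx.wmat_mulVec, h b]
  rw [← ctx.wmat_mulVec, ← ctx.wmat_mulVec, hM]

section

variable {F : Type*} [Field F]

/-- Commuting with both root subgroups. -/
def cent (F : Type*) [Field F] : Subgroup (GL chevF4.Idx F) :=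
  Subgroup.centralizer (Set.range (fun t : F => H52.rt chevF4 hs t) ∪
    Set.range (fun t : F => H52.rt chevF4 nhs t))

theorem mem_cent {g : GL chevF4.Idx F} :
    g ∈ cent F ↔ ∀ t : F, Commute (H52.rt chevF4 hs t) g ∧ Commute (H52.rt chevF4 nhs t) g := by
  rw [cent, Subgroup.mem_centralizer_iff]
  constructor
  · exact fun h t => ⟨h _ (Or.inl ⟨t, rfl⟩), h _ (Or.inr ⟨t, rfl⟩)⟩
  · rintro h x (⟨t, rfl⟩ | ⟨t, rfl⟩)
    exacts [(h t).1, (h t).2]

/-- The two root subgroups. -/
def pair (F : Type*) [Field F] : Subgroup (GL chevF4.Idx F) :=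
  chevF4.rootSubgroup F hs ⊔ chevF4.rootSubgroup F nhs

theorem pair_commute {g z : GL chevF4.Idx F} (hg : g ∈ cent F) (hz : z ∈ pair F) :
    Commute z g := by
  have hle : pair F ≤ Subgroup.centralizer {g} := by
    rw [pair, H52.Checked.rootSubgroup_eq H52.checkedF4, H52.Checked.rootSubgroup_eq H52.checkedF4,
      sup_le_iff, Subgroup.closure_le, Subgroup.closure_le]
    constructor
    · rintro _ ⟨t, rfl⟩
      exact Subgroup.mem_centralizer_singleton_iff.2 ((mem_cent.1 hg t).1)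
    · rintro _ ⟨t, rfl⟩
      exact Subgroup.mem_centralizer_singleton_iff.2 ((mem_cent.1 hg t).2)
  exact Subgroup.mem_centralizer_singleton_iff.1 (hle hz)

theorem pair_le_group : pair F ≤ chevF4.group F := by
  rw [pair, H52.Checked.rootSubgroup_eq H52.checkedF4, H52.Checked.rootSubgroup_eq H52.checkedF4,
    sup_le_iff, Subgroup.closure_le, Subgroup.closure_le]
  constructor <;> rintro _ ⟨t, rfl⟩ <;> exact H52.checkedF4.rt_mem_group _ _

theorem evenComm_table : ∀ r : Fin chevF4.nroots, H52.crt chevF4 r.val 0 = 0 →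
    evenComm chevF4 hs r.val = true ∧ evenComm chevF4 nhs r.val = true := by
  decide +kernel

variable [CharP F 2]

/-- An upper transvection. -/
def upM (t : F) : Matrix.SpecialLinearGroup (Fin 2) F :=
  ⟨!![1, t; 0, 1], by simp [Matrix.det_fin_two]⟩

/-- A lower transvection. -/
def loM (t : F) : Matrix.SpecialLinearGroup (Fin 2) F :=
  ⟨!![1, 0; t, 1], by simp [Matrix.det_fin_two]⟩

theorem coe_upM (t : F) : (upM t : Matrix (Fin 2) (Fin 2) F) = !![1, t; 0, 1] := rfl

theorem coe_loM (t : F) : (loM t : Matrix (Fin 2) (Fin 2) F) = !![1, 0; t, 1] := rfl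

theorem sl2_injective {φ : Matrix.SpecialLinearGroup (Fin 2) F →* GL chevF4.Idx F}
    (hφ : ∀ (g : Matrix.SpecialLinearGroup (Fin 2) F) (t : F),
      ((g : Matrix (Fin 2) (Fin 2) F) = !![1, t; 0, 1] → φ g = H52.rt chevF4 hs t) ∧
      ((g : Matrix (Fin 2) (Fin 2) F) = !![1, 0; t, 1] → φ g = H52.rt chevF4 nhs t)) :
    Function.Injective φ := by
  have hup : ∀ t, φ (upM t) = H52.rt chevF4 hs t := fun t => (hφ (upM t) t).1 rfl
  have hlo : ∀ t, φ (loM t) = H52.rt chevF4 nhs t := fun t => (hφ (loM t) t).2 rfl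
  refine (injective_iff_map_eq_one φ).2 fun g hg => ?_
  have hinv : ∀ (t : F) (k : Matrix.SpecialLinearGroup (Fin 2) F),
      k * g = g * upM t → φ k = H52.rt chevF4 hs t := fun t k h => by
    have := congrArg φ h
    rwa [map_mul, map_mul, hg, one_mul, mul_one, hup] at this
  have hdet : g 0 0 * g 1 1 - g 0 1 * g 1 0 = 1 := by
    rw [← Matrix.det_fin_two]; exact g.2
  by_cases hc : g 1 0 = 0
  · rw [hc, mul_zero, sub_zero] at hdet
    have hd : g 1 1 ≠ 0 := right_ne_zero_of_mul_eq_one hdet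
    have h1 : g 0 0 * g 0 0 = 1 := by
      have h := hinv 1 (upM (g 0 0 * g 0 0)) (by
        ext i j
        fin_cases i <;> fin_cases j <;> simp [coe_upM, Matrix.SpecialLinearGroup.coe_mul, Matrix.mul_apply, Fin.sum_univ_two, hc]
        linear_combination (g 0 0) * hdet)
      rw [hup] at h
      exact H52.checkedF4.rt_injective hs_lt h
    have ha : g 0 0 = 1 := by
      have : (g 0 0 + 1) * (g 0 0 + 1) = 0 := by
        have h2 : (2 : F) = 0 := CharTwo.two_eq_zero
        linear_combination h1 + (g 0 0 + 1) * h2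
      rcases mul_self_eq_zero.1 this with h
      rw [CharTwo.add_eq_zero] at h
      exact h
    have hd1 : g 1 1 = 1 := by rwa [ha, one_mul] at hdet
    have hg' : g = upM (g 0 1) := by
      ext i j
      fin_cases i <;> fin_cases j <;> simp [coe_upM, hc, ha, hd1]
    have hb := hg
    rw [hg', hup, ← H52.checkedF4.rt_zero (F := F) hs] at hb
    rw [hg', H52.checkedF4.rt_injective hs_lt hb]
    ext i j
    fin_cases i <;> fin_cases j <;> simp [coe_upM]
  · exfalso
    obtain ⟨x, hx⟩ : ∃ x : F, g 0 0 + x * g 1 0 = 0 :=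
      ⟨-(g 0 0) / g 1 0, by rw [div_mul_cancel₀ _ hc, add_neg_cancel]⟩
    have hg2 : φ (upM x * g * (upM x)⁻¹) = 1 := by rw [map_mul, map_mul, hg, mul_one, map_inv, mul_inv_cancel]
    have hinv2 : ∀ (t : F) (k : Matrix.SpecialLinearGroup (Fin 2) F),
        k * (upM x * g) = (upM x * g) * upM t → φ k = H52.rt chevF4 hs t := fun t k h => by
      have := congrArg φ h
      rw [map_mul, map_mul, map_mul, map_mul, hg, mul_one, hup, hup] at this
      rw [H52.checkedF4.rt_mul, add_comm, ← H52.checkedF4.rt_mul] at this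
      exact mul_right_cancel this
    have h := hinv2 1 (loM (-(g 1 0) * g 1 0)) (by
      ext i j
      fin_cases i <;> fin_cases j <;> simp [coe_upM, coe_loM, Matrix.SpecialLinearGroup.coe_mul, Matrix.mul_apply, Matrix.vecMul,
        dotProduct, Fin.sum_univ_two]
      · linear_combination hx
      · exact Or.inr hx
      · linear_combination (-(g 1 0)) * hdet + (g 1 0 * g 1 1) * hx -
          (g 1 0 + g 1 0 ^ 2 * g 0 1 + g 1 0 ^ 2 * x * g 1 1) * (CharTwo.two_eq_zero : (2 : F) = 0))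
    rw [hlo] at h
    exact absurd (ctx.rt_eq_rt hs_lt nhs_lt one_ne_zero h.symm).1 (by decide)

variable [Fintype F]

theorem card_sl : Nat.card (Matrix.SpecialLinearGroup (Fin 2) F) =
    Fintype.card F * (Fintype.card F ^ 2 - 1) := by
  have h := H37.card_SL_fin (F := F) 2 (by omega)
  rw [Nat.card_eq_fintype_card (α := F)] at h
  have h1 := Fintype.one_lt_card (α := F)
  set q := Fintype.card F
  simp [Fin.prod_univ_two] at h
  obtain ⟨k, hk⟩ : ∃ k, q = k + 2 := ⟨q - 2, by omega⟩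
  rw [hk] at h ⊢
  have e1 : (k + 2) ^ 2 - (k + 2) = (k + 1) * (k + 2) := by
    rw [Nat.sub_eq_iff_eq_add (by nlinarith)]; ring
  rw [e1, show k + 2 - 1 = k + 1 by omega] at h
  exact Nat.eq_of_mul_eq_mul_left (by omega : 0 < k + 1) (by rw [h]; ring)

/-- An element of prime order `r` in the subgroup of the short root. -/
theorem exists_pair_elem {r : ℕ} (hr : r.Prime)
    (hdiv : r = 2 ∨ r ∣ Fintype.card F ^ 2 - 1) :
    ∃ z ∈ pair F, orderOf z = r := by
  rcases hdiv with rfl | hdiv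
  · refine ⟨H52.rt chevF4 hs 1, Subgroup.mem_sup_left ?_, ?_⟩
    · rw [H52.Checked.rootSubgroup_eq H52.checkedF4]; exact Subgroup.subset_closure ⟨1, rfl⟩
    · have := Fact.mk Nat.prime_two
      refine orderOf_eq_prime ?_ fun h => ?_
      · rw [pow_two, H52.checkedF4.rt_mul, CharTwo.add_self_eq_zero, H52.checkedF4.rt_zero]
      · rw [← H52.checkedF4.rt_zero (F := F) hs] at h
        exact one_ne_zero (H52.checkedF4.rt_injective hs_lt h)
  · obtain ⟨φ, hrange, hφ⟩ := H52.checkedF4.exists_sl2_hom (F := F) hs_lt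
    rw [neg_hs] at hrange hφ
    have hinj := sl2_injective (φ := φ) fun g t =>
      ⟨fun h => Units.ext (by rw [(hφ g t).1 h, H52.checkedF4.coe_rt]),
        fun h => Units.ext (by rw [(hφ g t).2 h, H52.checkedF4.coe_rt])⟩
    have hcard : r ∣ Nat.card (Matrix.SpecialLinearGroup (Fin 2) F) := by
      rw [card_sl]
      exact hdiv.mul_left _
    have := Fact.mk hr
    obtain ⟨g, hg⟩ := exists_prime_orderOf_dvd_card' r hcard
    have hmem : φ g ∈ φ.range := ⟨g, rfl⟩
    rw [hrange] at hmem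
    exact ⟨φ g, hmem, by rw [orderOf_injective φ hinj, hg]⟩

/-- A functional vanishing on the highest short root. -/
def phi0 (s : ℕ) : Fin chevF4.rank → ZMod s := (![1, 0, 0, -2] : Fin 4 → ZMod s)

set_option maxHeartbeats 1000000 in
/-- An element of prime order `s` commuting with the subgroup of the short root. -/
theorem exists_cent_elem {s : ℕ} (hs' : s.Prime) (hs2 : s ≠ 2)
    (hdiv : s ∣ (Fintype.card F ^ 2 - 1) * ((Fintype.card F ^ 4 - 1) * (Fintype.card F ^ 6 - 1))) :
    ∃ y ∈ chevF4.group F, y ∈ cent F ∧ orderOf y = s := by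
  classical
  have := Fact.mk hs'
  set q := Fintype.card F with hq
  have hq2 : 2 ≤ q := Fintype.one_lt_card
  by_cases hq1 : s ∣ q - 1
  · obtain ⟨θ, hθ, -⟩ := TorusLog.exists_theta F s (by rwa [Nat.card_eq_fintype_card])
    obtain ⟨c, hc⟩ := TorusLog.exists_of_log ctx θ
      (M := [[2, 3, 4, 2], [3, 6, 8, 4], [2, 4, 6, 3], [1, 2, 3, 2]]) (by decide +kernel)
      (phi0 s)
    refine ⟨H52.torus chevF4 c, ctx.diag_le_group (ctx.hC.torus_mem_diag c), mem_cent.2 fun t => ?_, ?_⟩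
    · have hchi : ∀ (u : ℕ) (hu : u < chevF4.nroots),
          2 * H52.tablesF4.co u 3 = H52.tablesF4.co u 0 → TorusLog.chi ctx c ⟨u, hu⟩ = 1 := by
        intro u hu he
        rw [hc, ← map_one θ]
        congr 1
        rw [← ofAdd_zero]
        congr 1
        show (![1, 0, 0, -2] : Fin 4 → ZMod s) ⬝ᵥ
          (fun j : Fin 4 => ((H52.tablesF4.co u j.val : ℤ) : ZMod s)) = 0
        simp [dotProduct, Fin.sum_univ_four, ← he]
      constructor <;> refine Commute.symm (mul_inv_eq_iff_eq_mul.1 ?_)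
      · rw [ctx.hC.torus_conj_rt c hs_lt, show (∏ i : Fin chevF4.rank, c i ^ chevF4.cartan i.val hs) =
          (1 : Fˣ) from hchi hs hs_lt (by decide +kernel), Units.val_one, one_mul]
      · rw [ctx.hC.torus_conj_rt c nhs_lt, show (∏ i : Fin chevF4.rank, c i ^ chevF4.cartan i.val nhs) =
          (1 : Fˣ) from hchi nhs nhs_lt (by decide +kernel), Units.val_one, one_mul]
    · refine orderOf_eq_prime ?_ fun h => ?_
      · rw [← map_pow]
        refine (TorusLog.torus_ext ctx fun u => ?_).trans (map_one _)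
        rw [TorusLog.chi_pow, hc, ← map_pow, ← ofAdd_nsmul, nsmul_eq_mul, ZMod.natCast_self, zero_mul,
          ofAdd_zero, map_one]
        simp [TorusLog.chi]
      · have h1 := TorusLog.chi_of_torus_eq_one ctx h (ctx.simpleF ⟨0, by decide⟩)
        rw [hc, TorusLog.rval_simple, ← map_one θ] at h1
        have h2 : phi0 s ⟨0, by decide⟩ = 0 := congrArg Multiplicative.toAdd (hθ h1)
        exact one_ne_zero (α := ZMod s) h2
  -- the Levi subgroup
  have hS : ∀ r < chevF4.nroots, ∀ j < chevF4.rank,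
      (H52.crt chevF4 r j = 0 ↔ H52.tablesF4.co r j = 0) := fun r hr j hj =>
    H52.supportCheck_iff H52.supportF4 hr hj
  obtain ⟨hnorm, hsup, -⟩ := H52.checkedF4.levi_decomposition (F := F) hS jJ
  set Λ := H52.genBy chevF4 F (fun r => chevF4.InRootSub jJ r) with hΛ
  have hlevi : chevF4.leviSubgroup F jJ = chevF4.diagonalSubgroup F ⊔ Λ := by
    rw [hΛ, ← H52.checkedF4.closure_eq_genBy]; rfl
  have hΛc : Λ ≤ cent F := by
    rw [hΛ, H52.genBy, Subgroup.closure_le]
    rintro _ ⟨r, t, hr, rfl⟩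
    obtain ⟨e1, e2⟩ := evenComm_table ⟨r, hr.1⟩ (hr.2 0 (by decide) (by simp [jJ]))
    exact mem_cent.2 fun u => ⟨ctx.commute_of_evenComm hs_lt hr.1 e1 u t,
      ctx.commute_of_evenComm nhs_lt hr.1 e2 u t⟩
  have hΛG : Λ ≤ chevF4.group F := by
    rw [hΛ, H52.genBy, Subgroup.closure_le]
    rintro _ ⟨r, t, -, rfl⟩
    exact H52.checkedF4.rt_mem_group _ _
  suffices hdvd : s ∣ Nat.card ↥Λ by
    obtain ⟨y, hy⟩ := exists_prime_orderOf_dvd_card' s hdvd
    exact ⟨y, hΛG y.2, hΛc y.2, by rw [Subgroup.orderOf_coe, hy]⟩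
  have hsq : ¬ s ∣ q := fun h => by
    obtain ⟨n, -, hn⟩ := FiniteField.card F 2
    rw [← hq] at hn
    exact hs2 ((Nat.prime_dvd_prime_iff_eq hs' Nat.prime_two).1 (hs'.dvd_of_dvd_pow (hn ▸ h)))
  have hdiag : ¬ s ∣ Nat.card ↥(chevF4.diagonalSubgroup F) := fun h => hq1 (by
    refine hs'.dvd_of_dvd_pow (n := chevF4.rank) (h.trans ?_)
    rw [← H52.checkedF4.card_diagonal H52.divisorsF4]
    exact dvd_mul_left _ _)
  have hH : chevF4.diagonalSubgroup F ≤ Subgroup.normalizer (Λ : Set (GL chevF4.Idx F)) := by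
    intro h hh
    rw [H52.checkedF4.diagonalSubgroup_eq] at hh
    obtain ⟨c, rfl⟩ := hh
    have hle : ∀ c : Fin chevF4.rank → Fˣ, ∀ z ∈ Λ, H52.torus chevF4 c * z * (H52.torus chevF4 c)⁻¹ ∈ Λ := by
      intro c z hz
      have : Λ.map (MulAut.conj (H52.torus chevF4 c)).toMonoidHom ≤ Λ := by
        rw [hΛ, H52.genBy, MonoidHom.map_closure, Subgroup.closure_le]
        rintro _ ⟨_, ⟨r, t, hr, rfl⟩, rfl⟩
        show H52.torus chevF4 c * H52.rt chevF4 r t * (H52.torus chevF4 c)⁻¹ ∈ _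
        rw [H52.checkedF4.torus_conj_rt c hr.1]
        exact H52.rt_mem_genBy hr _
      exact this ⟨z, hz, rfl⟩
    refine Subgroup.mem_normalizer_iff.2 fun z => ⟨hle c z, fun hz => ?_⟩
    have := hle c⁻¹ _ hz
    rw [map_inv] at this
    simpa [mul_assoc] using this
  have hU : ¬ s ∣ Nat.card ↥(chevF4.unipotentRadical F jJ) := fun h => hsq (by
    refine hs'.dvd_of_dvd_pow (n := chevF4.nroots / 2) (h.trans ?_)
    rw [hq, ← H52.checkedF4.card_posUnipotent (F := F)]
    refine Subgroup.card_dvd_of_le ?_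
    refine (Subgroup.closure_le _).2 ?_
    rintro g ⟨r, t, h1, -, hg⟩
    obtain ⟨a, b⟩ := (H52.checkedF4.isPosRoot_iff r).1 h1
    rw [H52.checkedF4.eq_rt hg]
    exact H52.checkedF4.rt_mem_pos a b t)
  suffices hpar : s ∣ Nat.card ↥(chevF4.parabolicSubgroup F jJ) by
    have hlp : chevF4.leviSubgroup F jJ ≤
        Subgroup.normalizer (chevF4.unipotentRadical F jJ : Set (GL chevF4.Idx F)) :=
      le_trans (hsup ▸ le_sup_right) hnorm
    rw [← hsup, sup_comm] at hpar
    have h1 := (hs'.dvd_mul.1 (hpar.trans (dvd_of_sup hlp))).resolve_right hU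
    rw [hlevi] at h1
    exact (hs'.dvd_mul.1 (h1.trans (dvd_of_sup hH))).resolve_left hdiag
  -- the order of the parabolic subgroup
  let S := H53.grpSys H53.weylForF4 F
  let J : Set (Fin chevF4.rank) := {i | i.val ∈ [1, 2, 3]}
  have hA := H53.grp_axioms (F := F) H52.checkedF4 H53.weylForF4 ctx.hok
  have hsep := H53.grp_sep (F := F) H52.checkedF4 H53.weylForF4 ctx.hok
  have := Fintype.ofFinite (Subgroup.closure (S.σ '' J))
  have hlist : ∀ π ∈ Subgroup.closure (S.σ '' J), ∃ w ∈ words, ctx.wperm w = π := by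
    intro π hπ
    have hstep : ∀ i ∈ J, ∀ τ, (∃ w ∈ words, ctx.wperm w = τ) →
        ∃ w ∈ words, ctx.wperm w = S.σ i * τ := by
      rintro i hi _ ⟨w, hw, rfl⟩
      have hmem : ∀ i : Fin 4, i.val ∈ [1, 2, 3] → i ∈ ([1, 2, 3] : List (Fin 4)) := by decide
      obtain ⟨w', hw', he⟩ := words_closed i (hmem i hi) w hw
      refine ⟨w', hw', (wperm_ext (w' := i :: w) fun b => ?_).trans (ctx.wperm_cons i w)⟩
      rw [sigma_eq_wact, sigma_eq_wact, he b]
      rfl
    refine Subgroup.closure_induction_left (p := fun x _ => ∃ w ∈ words, ctx.wperm w = x) ?_ ?_ ?_ hπ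
    · exact ⟨[], List.mem_cons_self, rfl⟩
    · rintro _ ⟨i, hi, rfl⟩ y _ hy
      exact hstep i hi y hy
    · rintro _ ⟨i, hi, rfl⟩ y _ hy
      rw [H53.RootGroupSys.sigma_inv hA i]
      exact hstep i hi y hy
  have hsum : (∑ π : Subgroup.closure (S.σ '' J), Nat.card (S.Uinv π.1)) =
      (words.map fun w => q ^ w.length).sum := by
    have hnd : words.Nodup := List.Nodup.of_map _ words_nodup
    rw [← List.sum_toFinset _ hnd]
    symm
    refine Finset.sum_bij (fun w hw => ⟨ctx.wperm w, list_prod_mem fun x hx => by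
        obtain ⟨i, hi, rfl⟩ := List.mem_map.1 hx
        exact Subgroup.subset_closure ⟨i, words_sub w (List.mem_toFinset.1 hw) i hi, rfl⟩⟩)
      (fun w hw => Finset.mem_univ _) ?_ ?_ ?_
    · intro w hw w' hw' he
      refine List.inj_on_of_nodup_map words_nodup (List.mem_toFinset.1 hw) (List.mem_toFinset.1 hw') ?_
      refine List.map_congr_left fun b _ => ?_
      rw [← sigma_eq_wact, ← sigma_eq_wact]
      exact congrArg Fin.val (congrArg (fun x : Equiv.Perm _ => x (ctx.simpleF b)) (congrArg Subtype.val he))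
    · rintro ⟨π, hπ⟩ -
      obtain ⟨w, hw, he⟩ := hlist π hπ
      exact ⟨w, List.mem_toFinset.2 hw, Subtype.ext he⟩
    · intro w hw
      refine (H52.card_Uinv hA hsep H21.F4Inv.card_root w.length (ctx.nwG w) _ (ctx.nwG_acts w) ?_).symm
      rw [← words_len w (List.mem_toFinset.1 hw), ← Nat.card_eq_fintype_card, H52.invCard]
      refine Nat.card_congr (Equiv.subtypeEquivRight fun r => ?_)
      show _ ∧ ¬ chevF4.nroots / 2 ≤ (ctx.wperm w r).val ↔ _
      rw [sigma_eq_wact]
      rfl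
  have hpoly : s ∣ (words.map fun w => q ^ w.length).sum := by
    have hid : ((q : ℤ) - 1) ^ 3 * ((words.map fun w => q ^ w.length).sum : ℕ) =
        ((q : ℤ) ^ 2 - 1) * (((q : ℤ) ^ 4 - 1) * ((q : ℤ) ^ 6 - 1)) := by
      have hlens : words.map List.length =
          [0, 1, 1, 1, 2, 2, 2, 2, 2, 3, 3, 3, 3, 3, 3, 3, 4, 4, 4, 4, 4, 4, 4, 4, 5, 5, 5, 5, 5, 5, 5, 5, 6, 6, 6, 6, 6, 6, 6, 7, 7, 7, 7, 7, 8, 8, 8, 9] := by
        decide +kernel
      rw [show (words.map fun w => q ^ w.length) = (words.map List.length).map fun k => q ^ k by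
        rw [List.map_map]; rfl, hlens]
      simp only [List.map_cons, List.map_nil, List.sum_cons, List.sum_nil]
      push_cast
      ring
    have hcast : (((q ^ 2 - 1) * ((q ^ 4 - 1) * (q ^ 6 - 1)) : ℕ) : ℤ) =
        ((q : ℤ) ^ 2 - 1) * (((q : ℤ) ^ 4 - 1) * ((q : ℤ) ^ 6 - 1)) := by
      have h : ∀ k, 1 ≤ q ^ k := fun k => Nat.one_le_pow _ _ (by omega)
      push_cast [Nat.cast_sub (h 2), Nat.cast_sub (h 4), Nat.cast_sub (h 6)]
      ring
    have h1 := Int.natCast_dvd_natCast.2 hdiv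
    rw [hcast, ← hid] at h1
    rcases (Nat.prime_iff_prime_int.1 hs').dvd_or_dvd h1 with h | h
    · exact absurd (Int.natCast_dvd_natCast.1 (by
        rw [Nat.cast_sub (show 1 ≤ q by omega)]
        exact (Nat.prime_iff_prime_int.1 hs').dvd_of_dvd_pow h)) hq1
    · exact Int.natCast_dvd_natCast.1 h
  have hcard := H21.TwBT.card_parJ hA hsep J
  refine (dvd_trans (hpoly.trans (hsum ▸ Dvd.intro_left _ hcard.symm)) ?_)
  rw [← Subgroup.card_map_of_injective (chevF4.group F).subtype_injective]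
  refine Subgroup.card_dvd_of_le ?_
  rw [Subgroup.map_le_iff_le_comap]
  refine sup_le (fun b hb => ?_) ((Subgroup.closure_le _).2 ?_)
  · exact (le_sup_left : chevF4.borelSubgroup F ≤ chevF4.parabolicSubgroup F jJ)
      ((H53.mem_borel_iff H52.checkedF4 H53.weylForF4 b).2 hb)
  · rintro _ ⟨i, hi, rfl⟩
    rw [SetLike.mem_coe, Subgroup.mem_comap]
    obtain ⟨a, b⟩ := H52.checkedF4.inRootSub_simple hS i.isLt (J := jJ) hi
    have hn : ((S.n i : ↥(chevF4.group F)) : GL chevF4.Idx F) = H53.nGL chevF4 (chevF4.simple i.val) 1 := by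
      have := ctx.coe_nwG (F := F) [i]
      simp [Ctx.nwG, Ctx.nw] at this
      exact this
    show ((S.n i : ↥(chevF4.group F)) : GL chevF4.Idx F) ∈ _
    rw [hn, H52.checkedF4.parabolic_eq hS]
    refine Subgroup.mem_sup_right ?_
    exact mul_mem (mul_mem (H52.rt_mem_genBy (Or.inr a) _) (H52.rt_mem_genBy (Or.inr b) _))
      (H52.rt_mem_genBy (Or.inr a) _)

end

end F4Prime

end H54
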