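import Cfsg.Agent.H34.RegularTorusMain

/-!
The centraliser of a given element of prime order with a cyclotomic condition of full degree.
-/

set_option autoImplicit false
set_option linter.unusedSectionVars false

open Cfsg.Lie
open scoped MatrixGroups
open Polynomial Matrix

namespace H34.Tori



variable {D : ChevalleyDatum}

/-- The centraliser of an element of prime order `ℓ` dividing `Φ_m(q)` has order `Φ_m(q)`. -/
theorem card_centralizer (C : H54.Ctx D) (hd : H52.HasDivisors D fun _ => 1) {F : Type*} [Field F]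
    [Fintype F] (m : ℕ) (hm : 3 ≤ m) (hr : m.totient = D.rank) (ds : List ℕ)
    (hlen : ds.length = D.rank)
    (hds : ∀ d ∈ ds, ∀ l : ℕ, l.Prime → m ∣ l - 1 → ¬ l ∣ d)
    (hcard : ∀ (E : Type) [Field E] [Fintype E], Nat.card ↥(D.group E) = Fintype.card E ^ (D.nroots / 2) *
      (ds.map fun d => Fintype.card E ^ d - 1).prod)
    (hp2 : ∀ p : ℕ, p.Prime → p ∣ m →
      ¬ p ^ 2 ∣ ((cyclotomic m ℤ).eval (Fintype.card F : ℤ)).natAbs)
    (x : ↥(D.group F)) {ℓ : ℕ} (hl : ℓ.Prime) (hx : orderOf x = ℓ)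
    (hlq : (ℓ : ℤ) ∣ (cyclotomic m ℤ).eval (Fintype.card F : ℤ)) (hlm : ¬ ℓ ∣ m) :
    Nat.card ↥(Subgroup.centralizer {x} : Subgroup ↥(D.group F)) =
      ((cyclotomic m ℤ).eval (Fintype.card F : ℤ)).natAbs := by
  classical
  set q := Fintype.card F with hqdef
  have hq2 : 1 < q := Fintype.one_lt_card
  have := Fact.mk hl
  obtain ⟨p, hpF⟩ := CharP.exists F
  have := Fact.mk (CharP.char_is_prime F p)
  have : NeZero m := ⟨by omega⟩
  let E := FiniteField.Extension F p m
  let : Fintype E := Fintype.ofFinite E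
  have hQ : Fintype.card E = q ^ m := by
    rw [← Nat.card_eq_fintype_card, FiniteField.natCard_extension, Nat.card_eq_fintype_card]
  obtain ⟨B, hBA⟩ := exists_left_inverse hd
  -- facts on `ℓ`
  have hne : (q : ℤ) ^ m - 1 ≠ 0 := by
    have : (1 : ℤ) < (q : ℤ) ^ m := one_lt_pow₀ (by exact_mod_cast hq2) (by omega)
    omega
  have hdvd : (cyclotomic m ℤ).eval (q : ℤ) ∣ (q : ℤ) ^ m - 1 := by
    have h := Polynomial.eval_dvd (x := (q : ℤ)) (cyclotomic.dvd_X_pow_sub_one m ℤ)
    simpa using h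
  have hd0 : (cyclotomic m ℤ).eval (q : ℤ) ≠ 0 := fun h => hne (zero_dvd_iff.1 (h ▸ hdvd))
  have hprim : IsPrimitiveRoot ((q : ℤ) : ZMod ℓ) m := by
    have : NeZero (m : ZMod ℓ) := ⟨fun e => hlm ((ZMod.natCast_eq_zero_iff _ _).1 e)⟩
    refine isRoot_cyclotomic_iff.1 ?_
    rw [IsRoot, ← map_cyclotomic m (Int.castRingHom (ZMod ℓ)), Polynomial.eval_intCast_map]
    exact (ZMod.intCast_zmod_eq_zero_iff_dvd _ _).2 hlq
  have hlqn : ¬ (ℓ : ℤ) ∣ (q : ℤ) := fun h => hprim.ne_zero (by omega)
    ((ZMod.intCast_zmod_eq_zero_iff_dvd _ _).2 h)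
  have hml : m ∣ ℓ - 1 := by
    rw [hprim.eq_orderOf]
    exact ZMod.orderOf_dvd_card_sub_one (hprim.ne_zero (by omega))
  have hlm' : m < ℓ := by
    have := Nat.le_of_dvd (by have := hl.two_le; omega) hml
    omega
  have hlr : D.rank + 1 < ℓ := by
    have := Nat.totient_lt m (by omega)
    omega
  -- the unit group of `E`
  set N := Nat.card Eˣ with hN
  have : NeZero N := ⟨Nat.card_pos.ne'⟩
  have hNq : (N : ℤ) = (q : ℤ) ^ m - 1 := by
    rw [hN, Nat.card_units, Nat.card_eq_fintype_card, hQ, Nat.cast_sub (Nat.one_le_pow _ _ (by omega))]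
    push_cast
    rfl
  let e : Multiplicative (ZMod N) ≃* Eˣ := zmodCyclicMulEquiv inferInstance
  have htor : ∀ c : Fin D.rank → Eˣ, H52.torus D c = 1 → c = 1 := by
    intro c hc
    let f : Fin D.rank → ZMod N := (fun i => Multiplicative.toAdd (e.symm (c i))) ᵥ* toZ N (cmat D)
    have h1 : f ᵥ* toZ N B = fun i => Multiplicative.toAdd (e.symm (c i)) := by
      rw [Matrix.vecMul_vecMul, toZ, toZ, ← Matrix.map_mul, mul_eq_one_comm.1 hBA,
        Matrix.map_one _ (map_zero _) (map_one _), Matrix.vecMul_one]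
    have h2 : tor C e f = tor C e 0 := by
      rw [show f = (fun i => Multiplicative.toAdd (e.symm (c i))) ᵥ* toZ N (cmat D) from rfl,
        ← torus_eq_tor C e, tor_zero, ← hc]
      congr 1
      funext i
      simp [uval]
    have h3 := tor_injective C e h2
    funext i
    have h4 := congrFun h1 i
    rw [h3, Matrix.zero_vecMul, Pi.zero_apply] at h4
    exact e.symm.injective (by rw [Pi.one_apply, map_one]; exact h4.symm)
  have hInT : ∀ f : Fin D.rank → ZMod N, InT f := fun f => inT_of_inverse hBA f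
  -- base change
  set ι := algebraMap F E with hι'
  let σ : E ≃+* E := (FiniteField.Extension.frob F p m).toRingEquiv
  have hσ : ∀ x : E, σ x = x ^ q := fun x => by
    show FiniteField.Extension.frob F p m x = _
    rw [FiniteField.Extension.frob_apply, Nat.card_eq_fintype_card]
  have hfix : ∀ x : E, (∃ y, ι y = x) ↔ σ x = x := by
    intro x
    have hsub : Finset.univ.image ι ⊆ ((X ^ q - X : E[X]).roots).toFinset := by
      intro z hz
      obtain ⟨y, -, rfl⟩ := Finset.mem_image.1 hz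
      rw [Multiset.mem_toFinset, mem_roots (FiniteField.X_pow_card_sub_X_ne_zero E hq2)]
      simp [← map_pow, hqdef, FiniteField.pow_card]
    have heq := Finset.eq_of_subset_of_card_le hsub (by
      rw [Finset.card_image_of_injective _ ι.injective, Finset.card_univ]
      refine (Multiset.toFinset_card_le _).trans ((card_roots' _).trans ?_)
      rw [FiniteField.X_pow_card_sub_X_natDegree_eq E hq2])
    rw [hσ]
    have hmem : x ^ q = x ↔ x ∈ ((X ^ q - X : E[X]).roots).toFinset := by
      rw [Multiset.mem_toFinset, mem_roots (FiniteField.X_pow_card_sub_X_ne_zero E hq2)]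
      simp [sub_eq_zero]
    rw [hmem, ← heq, Finset.mem_image]
    simp
  let ιG : ↥(D.group F) →* ↥(D.group E) :=
    ((H54.glF D ι).comp (D.group F).subtype).codRestrict (D.group E) fun z =>
      C.glF_group_le ι ⟨(z : GL D.Idx F), z.2, rfl⟩
  have hιG : Function.Injective ιG := fun a b h =>
    Subtype.ext (H54.glF_injective ι (congrArg Subtype.val h))
  set T : Subgroup ↥(D.group E) := (D.diagonalSubgroup E).subgroupOf (D.group E)
  have hT : ¬ ℓ ∣ T.index := by
    intro hdiv
    have hTc : Nat.card ↥T = (Fintype.card E - 1) ^ D.rank := by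
      rw [Nat.card_congr (Subgroup.subgroupOfEquivOfLe C.diag_le_group).toEquiv]
      simpa using C.hC.card_diagonal (F := E) hd
    set Q := Fintype.card E with hQdef
    have hQ1 : (Q : ZMod ℓ) = 1 := by
      have h := hprim.pow_eq_one
      rw [Int.cast_natCast] at h
      rw [hQ, Nat.cast_pow, h]
    have hprod : (ds.map fun d => Q ^ d - 1).prod =
        (ds.map fun d => ∑ i ∈ Finset.range d, Q ^ i).prod * (Q - 1) ^ ds.length := by
      clear hds hlen hcard
      induction ds with
      | nil => simp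
      | cons a l ih =>
        rw [List.map_cons, List.prod_cons, List.map_cons, List.prod_cons, List.length_cons, ih, pow_succ,
          ← geom_sum_mul_of_one_le (Fintype.card_pos (α := E)) a]
        ring
    have hidx : T.index = Q ^ (D.nroots / 2) * (ds.map fun d => ∑ i ∈ Finset.range d, Q ^ i).prod := by
      have h := T.card_mul_index
      rw [hcard E, hTc, hprod, hlen] at h
      have hQ0 : 0 < (Q - 1) ^ D.rank := by
        have := Fintype.one_lt_card (α := E)
        exact pow_pos (by omega) _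
      refine Nat.eq_of_mul_eq_mul_left hQ0 ?_
      rw [h]
      ring
    rw [hidx, ← ZMod.natCast_eq_zero_iff, Nat.cast_mul, Nat.cast_pow, hQ1, one_pow, one_mul,
      Nat.cast_list_prod, List.prod_eq_zero_iff, List.map_map, List.mem_map] at hdiv
    obtain ⟨d, hdmem, hd'⟩ := hdiv
    rw [Function.comp_apply, geom_prod_cast hQ1, ZMod.natCast_eq_zero_iff] at hd'
    exact hds d hdmem ℓ hl hml hd'
  obtain ⟨g, hg⟩ := exists_conj_diag T hT (x := ιG x) (by rw [orderOf_injective ιG hιG, hx])
  rw [Subgroup.mem_subgroupOf, Subgroup.coe_mul, Subgroup.coe_mul, Subgroup.coe_inv] at hg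
  obtain ⟨f₀, -, hf₀⟩ := exists_tor C e hg
  set gE : GL D.Idx E := (g : GL D.Idx E) with hgE
  set xE : GL D.Idx E := H54.glF D ι (x : GL D.Idx F) with hxE
  have hf₀' : tor C e f₀ = gE * xE * gE⁻¹ := hf₀
  have hpow : ∀ (n : ℕ) (f : Fin D.rank → ZMod N), tor C e (n • f) = tor C e f ^ n := by
    intro n f
    induction n with
    | zero => rw [zero_smul, tor_zero, pow_zero]
    | succ n ih => rw [succ_nsmul, tor_add, ih, pow_succ]
  have hlf : ℓ • f₀ = 0 := by
    refine tor_injective C e ?_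
    rw [hpow, hf₀', conj_pow, tor_zero, hxE, ← map_pow, ← SubgroupClass.coe_pow, ← hx, pow_orderOf_eq_one]
    simp
  have hf0 : f₀ ≠ 0 := by
    intro h0
    rw [h0, tor_zero, eq_comm, conj_eq_one_iff, hxE, ← map_one (H54.glF D ι)] at hf₀'
    have : x = 1 := Subtype.ext (H54.glF_injective ι hf₀')
    rw [this, orderOf_one] at hx
    exact hl.ne_one hx.symm
  set s := H54.glF D σ.toRingHom with hs
  have hsι : ∀ z : GL D.Idx F, s (H54.glF D ι z) = H54.glF D ι z := fun z => by
    rw [hs, H54.glF_comp]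
    congr 1
    exact congrArg _ (RingHom.ext fun y => (hfix (ι y)).1 ⟨y, rfl⟩)
  have hgE_mem : gE ∈ D.group E := g.2
  set n := s gE * gE⁻¹ with hn
  have hn_mem : n ∈ D.group E :=
    mul_mem (C.glF_group_le σ.toRingHom ⟨gE, hgE_mem, rfl⟩) (inv_mem hgE_mem)
  have hglF : ∀ f : Fin D.rank → ZMod N, s (tor C e f) = tor C e (((q : ℤ) : ZMod N) • f) := fun f => by
    rw [hs, glF_tor C e σ q hσ, Int.cast_natCast]
  have hconj : n * tor C e f₀ = tor C e (((q : ℤ) : ZMod N) • f₀) * n := by
    rw [← hglF, hf₀', map_mul, map_mul, map_inv, hxE, hsι, hn]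
    group
  obtain ⟨u, v, a, L, hu, hv, -, hnEq, hw, hu1, hv1⟩ := nf_of_conj C e (hInT _) (hInT _) hn_mem hconj
  set π₀ := (C.wperm L)⁻¹
  have hπ₀ : π₀ ∈ wgrp C := inv_mem (wperm_mem_wgrp C L)
  obtain ⟨hM, hreg, hstab⟩ := regular_of_eigen C hm hr hl hlr hlm hlq hπ₀ hf0 hlf hw.symm
  have hregq : ∀ r, rval C (((q : ℤ) : ZMod N) • f₀) r ≠ 0 := fun r =>
    rval_smul_ne C hl hlf hlqn (hreg r)
  rw [eq_one_of_commute C e hregq hu hu1, eq_one_of_commute C e hreg hv hv1, one_mul,
    mul_one] at hnEq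
  have hnconj : ∀ f : Fin D.rank → ZMod N, n * tor C e f * n⁻¹ = tor C e (f ᵥ* toZ N (lmat C π₀)) := by
    intro f
    rw [hnEq, show tor C e a * H54.Ctx.nw D E L * tor C e f * (tor C e a * H54.Ctx.nw D E L)⁻¹ =
      tor C e a * (H54.Ctx.nw D E L * tor C e f * (H54.Ctx.nw D E L)⁻¹) * (tor C e a)⁻¹ by group,
      nw_conj_tor C e L (hInT _), ← tor_add, mul_inv_eq_iff_eq_mul, ← tor_add, add_comm]
  have hfixed : ∀ f : Fin D.rank → ZMod N, f ∈ solutions N (lmat C π₀) (q : ℤ) ↔
      s (gE⁻¹ * tor C e f * gE) = gE⁻¹ * tor C e f * gE := by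
    intro f
    rw [mem_solutions, map_mul, map_mul, map_inv, hglF, show s gE = n * gE by rw [hn]; group]
    constructor
    · intro hf
      rw [← hf, ← hnconj]
      group
    · intro h
      refine tor_injective C e ?_
      rw [← hnconj]
      calc n * tor C e f * n⁻¹ = n * gE * (gE⁻¹ * tor C e f * gE) * (n * gE)⁻¹ := by group
        _ = _ := by rw [← h]; group
  obtain ⟨hcyc, hK⟩ := solutions_cyclic (by omega) hr hM hd0 (hNq ▸ hdvd) hp2
  set K := solutions N (lmat C π₀) (q : ℤ) with hKdef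
  -- the subgroup
  let ψ : Multiplicative ↥K →* GL D.Idx E :=
    { toFun := fun f => gE⁻¹ * tor C e ((Multiplicative.toAdd f : ↥K) : Fin D.rank → ZMod N) * gE
      map_one' := by simp [tor_zero]
      map_mul' := fun a b => by rw [toAdd_mul, AddSubgroup.coe_add, tor_add]; group }
  have hψ : Function.Injective ψ := fun a b h =>
    Multiplicative.toAdd.injective (Subtype.ext (tor_injective C e
      (mul_left_cancel (mul_right_cancel h))))
  let j : ↥(D.group F) →* GL D.Idx E := (H54.glF D ι).comp (D.group F).subtype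
  have hj : Function.Injective j := fun a b h => Subtype.ext (H54.glF_injective ι h)
  have hrange : ψ.range ≤ j.range := by
    rintro _ ⟨f, rfl⟩
    have hmem : ψ f ∈ D.group E :=
      mul_mem (mul_mem (inv_mem hgE_mem) (C.diag_le_group (tor_mem C e (hInT _)))) hgE_mem
    obtain ⟨z, hz, hze⟩ := (C.fixed_eq_range σ ι hfix htor hmem).1
      ((hfixed _).1 (Multiplicative.toAdd f).2)
    exact ⟨⟨z, hz⟩, hze⟩
  let H : Subgroup ↥(D.group F) := ψ.range.comap j
  have hcardH : Nat.card ↥H = ((cyclotomic m ℤ).eval (q : ℤ)).natAbs := by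
    rw [← Subgroup.card_map_of_injective hj, Subgroup.map_comap_eq_self hrange,
      ← Nat.card_congr (MonoidHom.ofInjective hψ).toEquiv, Nat.card_congr Multiplicative.toAdd, hK]
  have : IsCyclic ↥ψ.range := by
    have : IsCyclic (Multiplicative ↥K) := isCyclic_multiplicative
    exact isCyclic_of_surjective ψ.rangeRestrict ψ.rangeRestrict_surjective
  have hxH : x ∈ H := by
    refine ⟨Multiplicative.ofAdd ⟨f₀, mem_solutions.2 hw.symm⟩, ?_⟩
    show gE⁻¹ * tor C e f₀ * gE = xE
    rw [hf₀']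
    group
  suffices hcent : (Subgroup.centralizer {x} : Subgroup ↥(D.group F)) = H by rw [hcent, hcardH]
  refine le_antisymm (fun y hy => ?_) (fun y hy => ?_)
  · have hyx := congrArg j (Subgroup.mem_centralizer_iff.1 hy x rfl)
    rw [map_mul, map_mul] at hyx
    set yE := j y with hyE
    have hyG : gE * yE * gE⁻¹ ∈ D.group E :=
      mul_mem (mul_mem hgE_mem (C.glF_group_le ι ⟨_, y.2, rfl⟩)) (inv_mem hgE_mem)
    have hcomm : gE * yE * gE⁻¹ * tor C e f₀ = tor C e f₀ * (gE * yE * gE⁻¹) := by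
      rw [hf₀']
      calc _ = gE * (yE * xE) * gE⁻¹ := by group
        _ = gE * (xE * yE) * gE⁻¹ := by rw [show xE * yE = yE * xE from hyx]
        _ = _ := by group
    obtain ⟨b, L', -, hyb, hb⟩ := mono_of_conj C e (hInT _) (hInT _) hreg hreg hyG hcomm
    have hL' : C.wperm L' = 1 := inv_eq_one.1 (hstab _ (inv_mem (wperm_mem_wgrp C L')) fun r => by
      rw [← rval_vecMul C (inv_mem (wperm_mem_wgrp C L')), ← hb])
    obtain ⟨c, -, hc⟩ := exists_tor C e (C.nw_mem_diag (F := E) hL')
    rw [← hc, ← tor_add] at hyb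
    have hback : gE⁻¹ * tor C e (b + c) * gE = yE := by rw [← hyb]; group
    refine ⟨Multiplicative.ofAdd ⟨b + c, (hfixed _).2 ?_⟩, hback⟩
    rw [hback]
    exact hsι _
  · rw [Subgroup.mem_centralizer_iff]
    intro z hz
    obtain rfl : z = x := hz
    obtain ⟨a, ha⟩ := hy
    obtain ⟨b, hb⟩ := hxH
    refine hj ?_
    rw [map_mul, map_mul, ← ha, ← hb, ← map_mul, ← map_mul, mul_comm]

end H34.Tori
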