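import Cfsg.Agent.H54.F4PrimeAdj
import Cfsg.Agent.H54.F4PrimeTorus
import Cfsg.Agent.H54.TorusCent

/-!
The prime graph of the groups of type F4 over fields of characteristic 2.
-/

set_option autoImplicit false
set_option linter.unusedSectionVars false

open Cfsg.Lie
open scoped MatrixGroups
open Polynomial

namespace H54

namespace F4Prime

/-- Two primes are adjacent. -/
def Adj (G : Type*) [Group G] (r s : ℕ) : Prop := ∃ x : G, orderOf x = r * s

theorem adj_iff {G : Type*} [Group G] [Finite G] {r s : ℕ} (hr : r.Prime) (hs : s.Prime) (hne : r ≠ s) :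
    Adj G r s ↔ ∃ x y : G, orderOf x = r ∧ orderOf y = s ∧ Commute x y := by
  constructor
  · rintro ⟨x, hx⟩
    refine ⟨x ^ s, x ^ r, ?_, ?_, (Commute.refl x).pow_pow s r⟩
    · rw [orderOf_pow, hx, Nat.gcd_eq_right (dvd_mul_left s r), Nat.mul_div_cancel _ hs.pos]
    · rw [orderOf_pow, hx, Nat.gcd_eq_right (dvd_mul_right r s), Nat.mul_div_cancel_left _ hr.pos]
  · rintro ⟨x, y, hx, hy, h⟩
    exact ⟨x * y, by
      rw [h.orderOf_mul_eq_mul_orderOf_of_coprime (by rw [hx, hy]; exact (Nat.coprime_primes hr hs).2 hne),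
        hx, hy]⟩

theorem adj_comm {G : Type*} [Group G] {r s : ℕ} : Adj G r s ↔ Adj G s r := by
  rw [Adj, Adj, mul_comm]

theorem cyclotomic_eight_twelve {m : ℕ} (hm : m ∈ [8, 12]) (q : ℤ) :
    (cyclotomic m ℤ).eval q = q ^ 4 - (if m = 8 then 0 else q ^ 2) + 1 := by
  simp only [List.mem_cons, List.not_mem_nil, or_false] at hm
  rcases hm with rfl | rfl
  · rw [H34.Tori.cyclo8_eval]; simp
  · rw [show (12 : ℕ) = 6 * 2 from rfl,
      ← cyclotomic_expand_eq_cyclotomic Nat.prime_two (by norm_num : (2 : ℕ) ∣ 6) ℤ,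
      Polynomial.expand_eval, (cyclotomic_eq (d := 6) (by decide)).1]
    simp [lin]
    ring

variable {F : Type*} [Field F] [Fintype F]

/-- An odd prime divisor of the order has one of seven orders of `q`. -/
theorem order_mem [CharP F 2] {r : ℕ} [hr : Fact r.Prime] (hr2 : r ≠ 2)
    (hrG : r ∣ Nat.card ↥(chevF4.group F)) :
    orderOf (Fintype.card F : ZMod r) ∈ [1, 2, 3, 4, 6, 8, 12] := by
  obtain ⟨n, -, hn⟩ := FiniteField.card F 2
  set q := Fintype.card F with hq
  have hrq : ¬ r ∣ q := fun h =>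
    hr2 ((Nat.prime_dvd_prime_iff_eq hr.out Nat.prime_two).1 (hr.out.dvd_of_dvd_pow (hn ▸ h)))
  rw [card_group F, hr.out.dvd_mul] at hrG
  obtain ⟨a, ha, hra⟩ := (hr.out.prime.dvd_prod_iff).1
    (hrG.resolve_left fun h => hrq (hr.out.dvd_of_dvd_pow h))
  obtain ⟨d, hd, rfl⟩ := List.mem_map.1 ha
  rw [H40.dvd_pow_sub_one_iff q r (by have := Fintype.one_lt_card (α := F); omega)] at hra
  have hpos : 0 < orderOf (q : ZMod r) := H40.orderOf_pos_of_not_dvd q r hrq
  generalize orderOf (q : ZMod r) = e at hra hpos ⊢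
  simp only [List.mem_cons, List.not_mem_nil, or_false] at hd
  rcases hd with rfl | rfl | rfl | rfl <;>
    · have := Nat.le_of_dvd (by norm_num) hra
      interval_cases e <;> simp_all

theorem dvd_sub_one_of_order {r e d : ℕ} [Fact r.Prime]
    (he : orderOf (Fintype.card F : ZMod r) = e) (hed : e ∣ d) : r ∣ Fintype.card F ^ d - 1 :=
  (H40.dvd_pow_sub_one_iff (Fintype.card F) r (by have := Fintype.one_lt_card (α := F); omega) d).2
    (he ▸ hed)

/-- The short root subgroup commutes with elements of the small orders. -/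
theorem adj_pair [CharP F 2] {r s : ℕ} [hr : Fact r.Prime] [hs : Fact s.Prime] (hne : r ≠ s)
    (hs2 : s ≠ 2) (h : r = 2 ∨ r ∣ Fintype.card F ^ 2 - 1)
    (he : orderOf (Fintype.card F : ZMod s) ∈ [1, 2, 3, 4, 6]) :
    Adj ↥(chevF4.group F) r s := by
  obtain ⟨z, hz, hzr⟩ := exists_pair_elem (F := F) hr.out h
  have hdiv : s ∣ (Fintype.card F ^ 2 - 1) *
      ((Fintype.card F ^ 4 - 1) * (Fintype.card F ^ 6 - 1)) := by
    simp only [List.mem_cons, List.not_mem_nil, or_false] at he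
    rcases he with e | e | e | e | e
    · exact (dvd_sub_one_of_order e (by decide)).mul_right _
    · exact (dvd_sub_one_of_order e (by decide)).mul_right _
    · exact ((dvd_sub_one_of_order e (by decide : (3 : ℕ) ∣ 6)).mul_left _).mul_left _
    · exact ((dvd_sub_one_of_order e (by decide : (4 : ℕ) ∣ 4)).mul_right _).mul_left _
    · exact ((dvd_sub_one_of_order e (by decide : (6 : ℕ) ∣ 6)).mul_left _).mul_left _
  obtain ⟨y, hyG, hyc, hys⟩ := exists_cent_elem (F := F) hs.out hs2 hdiv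
  refine (adj_iff hr.out hs.out hne).2 ⟨⟨z, pair_le_group hz⟩, ⟨y, hyG⟩, ?_, ?_, ?_⟩
  · rw [Subgroup.orderOf_mk, hzr]
  · rw [Subgroup.orderOf_mk, hys]
  · exact Subtype.ext (pair_commute hyc hz)

/-- The centraliser of an element of order `s` for `e(s) ∈ {8, 12}`. -/
theorem card_cent_high [CharP F 2] {s l : ℕ} [hs : Fact s.Prime] (hl : l ∈ [8, 12])
    (he : orderOf (Fintype.card F : ZMod s) = l) (y : ↥(chevF4.group F)) (hy : orderOf y = s) :
    Nat.card ↥(Subgroup.centralizer {y} : Subgroup ↥(chevF4.group F)) =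
      ((cyclotomic l ℤ).eval (Fintype.card F : ℤ)).natAbs ∧
    (s : ℤ) ∣ (cyclotomic l ℤ).eval (Fintype.card F : ℤ) ∧
    ¬ (2 : ℤ) ∣ (cyclotomic l ℤ).eval (Fintype.card F : ℤ) ∧
    (l = 12 → ¬ (3 : ℤ) ∣ (cyclotomic l ℤ).eval (Fintype.card F : ℤ)) := by
  obtain ⟨n, -, hn⟩ := FiniteField.card F 2
  set q := Fintype.card F with hq
  have hl' : 8 ≤ l ∧ l.totient = 4 ∧ l ∣ 24 := by
    simp only [List.mem_cons, List.not_mem_nil, or_false] at hl
    rcases hl with rfl | rfl <;> decide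
  have hq0 : (q : ZMod s) ≠ 0 := fun h => by rw [h, orderOf_zero] at he; omega
  have hls : l ∣ s - 1 := he ▸ ZMod.orderOf_dvd_card_sub_one hq0
  have hsl : l < s := by
    have := Nat.le_of_dvd (by have := hs.out.two_le; omega) hls
    omega
  have hsdvd : (s : ℤ) ∣ (cyclotomic l ℤ).eval (q : ℤ) := by
    rw [← ZMod.intCast_zmod_eq_zero_iff_dvd]
    have : NeZero (l : ZMod s) := ⟨fun e => by
      have := Nat.le_of_dvd (by omega) ((ZMod.natCast_eq_zero_iff _ _).1 e)
      omega⟩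
    have h : (cyclotomic l (ZMod s)).IsRoot ((q : ℤ) : ZMod s) := by
      refine isRoot_cyclotomic_iff.2 ?_
      rw [Int.cast_natCast, ← he]
      exact IsPrimitiveRoot.orderOf _
    rwa [IsRoot, ← map_cyclotomic l (Int.castRingHom (ZMod s)), Polynomial.eval_intCast_map] at h
  have h2 : ¬ (2 : ℤ) ∣ (cyclotomic l ℤ).eval (q : ℤ) := by
    have hq2 : ((q : ℤ) : ZMod 2) = 0 := by
      rw [Int.cast_natCast, ZMod.natCast_eq_zero_iff, hn]
      exact dvd_pow_self 2 n.ne_zero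
    rw [show (2 : ℤ) = ((2 : ℕ) : ℤ) from rfl, ← ZMod.intCast_zmod_eq_zero_iff_dvd,
      cyclotomic_eight_twelve hl]
    split_ifs <;> simp [show (q : ZMod 2) = 0 by simpa using hq2]
  have h3 : l = 12 → ¬ (3 : ℤ) ∣ (cyclotomic l ℤ).eval (q : ℤ) := by
    rintro rfl
    have hq3 : ((q : ℤ) : ZMod 3) ≠ 0 := by
      rw [Int.cast_natCast, Ne, ZMod.natCast_eq_zero_iff, hn]
      exact fun h => by simpa using Nat.prime_three.dvd_of_dvd_pow h
    rw [show (3 : ℤ) = ((3 : ℕ) : ℤ) from rfl, ← ZMod.intCast_zmod_eq_zero_iff_dvd,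
      cyclotomic_eight_twelve hl, if_neg (by norm_num)]
    simp only [Int.cast_add, Int.cast_sub, Int.cast_pow, Int.cast_one]
    revert hq3
    generalize ((q : ℤ) : ZMod 3) = z
    revert z
    decide
  refine ⟨?_, hsdvd, h2, h3⟩
  refine H34.Tori.card_centralizer ctx H34.Tori.divisorsF4_ones l (by omega)
    (by rw [hl'.2.1]; rfl) [2, 6, 8, 12] rfl ?_ (fun E _ _ => card_group E) ?_ y hs.out hy hsdvd ?_
  · intro d hd p hp hpl hpd
    have := hp.two_le
    have hp9 := Nat.le_of_dvd (by omega) hpl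
    simp only [List.mem_cons, List.not_mem_nil, or_false] at hd hl
    rcases hd with rfl | rfl | rfl | rfl <;> have hle := Nat.le_of_dvd (by omega) hpd <;>
      rcases hl with rfl | rfl <;> interval_cases p <;> simp_all (config := {decide := true})
  · intro p hp hpl hp2
    have hdvd : (p : ℤ) ∣ (cyclotomic l ℤ).eval (q : ℤ) :=
      Int.natCast_dvd.2 ((dvd_pow_self p two_ne_zero).trans hp2)
    have h24 : p ∣ 2 ^ 3 * 3 := hpl.trans hl'.2.2
    rcases hp.dvd_mul.1 h24 with h | h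
    · obtain rfl := (Nat.prime_dvd_prime_iff_eq hp Nat.prime_two).1 (hp.dvd_of_dvd_pow h)
      exact h2 (by exact_mod_cast hdvd)
    · obtain rfl := (Nat.prime_dvd_prime_iff_eq hp Nat.prime_three).1 h
      simp only [List.mem_cons, List.not_mem_nil, or_false] at hl
      rcases hl with rfl | rfl
      · exact absurd hpl (by norm_num)
      · exact h3 rfl (by exact_mod_cast hdvd)
  · intro h
    have := Nat.le_of_dvd (by omega) h
    omega

theorem adj_high [CharP F 2] {r s l : ℕ} [hr : Fact r.Prime] [hs : Fact s.Prime] (hne : r ≠ s)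
    (hl : l ∈ [8, 12]) (her : orderOf (Fintype.card F : ZMod r) = l)
    (hes : orderOf (Fintype.card F : ZMod s) = l) (hsG : s ∣ Nat.card ↥(chevF4.group F))
    (hrG : r ∣ Nat.card ↥(chevF4.group F)) : Adj ↥(chevF4.group F) r s := by
  obtain ⟨x, hx⟩ := exists_prime_orderOf_dvd_card' r hrG
  obtain ⟨-, hrdvd, -, -⟩ := card_cent_high hl her x hx
  obtain ⟨y, hy⟩ := exists_prime_orderOf_dvd_card' s hsG
  obtain ⟨hc, -, -, -⟩ := card_cent_high hl hes y hy
  have hd : r ∣ Nat.card ↥(Subgroup.centralizer {y} : Subgroup ↥(chevF4.group F)) := by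
    rw [hc]; exact Int.natCast_dvd.1 hrdvd
  obtain ⟨z, hz⟩ := exists_prime_orderOf_dvd_card' r hd
  exact (adj_iff hr.out hs.out hne).2 ⟨z.1, y, by rw [Subgroup.orderOf_coe, hz], hy,
    Subgroup.mem_centralizer_singleton_iff.1 z.2⟩

theorem not_adj_high [CharP F 2] {r s l : ℕ} [hr : Fact r.Prime] [hs : Fact s.Prime] (hne : r ≠ s)
    (hl : l ∈ [8, 12]) (hes : orderOf (Fintype.card F : ZMod s) = l)
    (her : r = 2 ∨ orderOf (Fintype.card F : ZMod r) ≠ l) : ¬ Adj ↥(chevF4.group F) r s := by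
  intro hadj
  obtain ⟨x, y, hx, hy, hxy⟩ := (adj_iff hr.out hs.out hne).1 hadj
  obtain ⟨hc, -, h2, h3⟩ := card_cent_high hl hes y hy
  have hmem : x ∈ Subgroup.centralizer {y} := Subgroup.mem_centralizer_singleton_iff.2 hxy
  have hdvd : (r : ℤ) ∣ (cyclotomic l ℤ).eval (Fintype.card F : ℤ) := by
    refine Int.natCast_dvd.2 ?_
    rw [← hc, ← hx, ← Subgroup.orderOf_mk x hmem]
    exact orderOf_dvd_natCard _
  rcases her with rfl | her
  · exact h2 (by exact_mod_cast hdvd)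
  have hrl : ¬ r ∣ l := by
    intro h
    simp only [List.mem_cons, List.not_mem_nil, or_false] at hl
    rcases hl with rfl | rfl
    · obtain rfl := (Nat.prime_dvd_prime_iff_eq hr.out Nat.prime_two).1
        (hr.out.dvd_of_dvd_pow (show r ∣ 2 ^ 3 from h))
      exact h2 (by exact_mod_cast hdvd)
    · rcases hr.out.dvd_mul.1 (show r ∣ 2 ^ 2 * 3 from h) with h | h
      · obtain rfl := (Nat.prime_dvd_prime_iff_eq hr.out Nat.prime_two).1 (hr.out.dvd_of_dvd_pow h)
        exact h2 (by exact_mod_cast hdvd)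
      · obtain rfl := (Nat.prime_dvd_prime_iff_eq hr.out Nat.prime_three).1 h
        exact h3 rfl (by exact_mod_cast hdvd)
  have : NeZero (l : ZMod r) := ⟨fun e => hrl ((ZMod.natCast_eq_zero_iff _ _).1 e)⟩
  refine her ((isRoot_cyclotomic_iff.1 ?_).eq_orderOf.symm)
  rw [IsRoot, ← map_cyclotomic l (Int.castRingHom (ZMod r)), ← Int.cast_natCast,
    Polynomial.eval_intCast_map]
  exact (ZMod.intCast_zmod_eq_zero_iff_dvd _ _).2 hdvd

/-- The criterion for a pair with one prime equal to 2. -/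
theorem criterion_two [CharP F 2] {s : ℕ} [hs : Fact s.Prime] (hs2 : s ≠ 2)
    (hsG : s ∣ Nat.card ↥(chevF4.group F)) :
    ¬ Adj ↥(chevF4.group F) 2 s ↔ orderOf (Fintype.card F : ZMod s) ∈ ({8, 12} : Finset ℕ) := by
  have := Fact.mk Nat.prime_two
  have hmem := order_mem hs2 hsG
  constructor
  · intro h
    by_contra hn
    refine h (adj_pair hs2.symm hs2 (Or.inl rfl) ?_)
    generalize orderOf (Fintype.card F : ZMod s) = e at hmem hn ⊢
    revert hn
    simp only [List.mem_cons, List.not_mem_nil, or_false] at hmem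
    rcases hmem with rfl | rfl | rfl | rfl | rfl | rfl | rfl <;> decide
  · intro h
    exact not_adj_high hs2.symm (l := orderOf (Fintype.card F : ZMod s)) (by simpa using h) rfl (Or.inl rfl)

/-- The condition on the orders of two odd primes. -/
def Far (k l : ℕ) : Prop :=
  k < l ∧ (l ∈ ({8, 12} : Finset ℕ) ∨ (l = 6 ∧ k ∈ ({3, 4} : Finset ℕ)) ∨ (l = 4 ∧ k = 3))

instance (k l : ℕ) : Decidable (Far k l) := inferInstanceAs (Decidable (_ ∧ _))

theorem far_cases : ∀ k ∈ [1, 2, 3, 4, 6, 8, 12], ∀ l ∈ [1, 2, 3, 4, 6, 8, 12],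
    ((Far k l ∨ Far l k) ∧ ((l ∈ [8, 12] ∧ k ≠ l) ∨ (k ∈ [8, 12] ∧ k ≠ l) ∨
      (k, l) ∈ [(3, 4), (3, 6), (4, 6)] ∨ (l, k) ∈ [(3, 4), (3, 6), (4, 6)])) ∨
    (¬ (Far k l ∨ Far l k) ∧ ((k = l ∧ k ∈ [8, 12]) ∨ (k = l ∧ k ∈ [3, 4, 6]) ∨
      (k ∈ [1, 2] ∧ l ∈ [1, 2, 3, 4, 6]) ∨ (l ∈ [1, 2] ∧ k ∈ [1, 2, 3, 4, 6]))) := by
  decide +kernel

/-- The criterion for two odd primes. -/
theorem criterion_odd [CharP F 2] {r s : ℕ} [hr : Fact r.Prime] [hs : Fact s.Prime] (hne : r ≠ s)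
    (hr2 : r ≠ 2) (hs2 : s ≠ 2) (hrG : r ∣ Nat.card ↥(chevF4.group F))
    (hsG : s ∣ Nat.card ↥(chevF4.group F)) :
    ¬ Adj ↥(chevF4.group F) r s ↔
      Far (orderOf (Fintype.card F : ZMod r)) (orderOf (Fintype.card F : ZMod s)) ∨
        Far (orderOf (Fintype.card F : ZMod s)) (orderOf (Fintype.card F : ZMod r)) := by
  rcases far_cases _ (order_mem hr2 hrG) _ (order_mem hs2 hsG) with ⟨hf, h⟩ | ⟨hf, h⟩
  · refine iff_of_true ?_ hf
    rcases h with ⟨h1, h2⟩ | ⟨h1, h2⟩ | h1 | h1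
    · exact not_adj_high hne h1 rfl (Or.inr h2)
    · rw [adj_comm]
      exact not_adj_high hne.symm h1 rfl (Or.inr (Ne.symm h2))
    · intro hadj
      obtain ⟨x, y, hx, hy, hxy⟩ := (adj_iff hr.out hs.out hne).1 hadj
      exact not_commute h1 rfl rfl x y hx hy hxy
    · intro hadj
      obtain ⟨x, y, hx, hy, hxy⟩ := (adj_iff hr.out hs.out hne).1 hadj
      exact not_commute h1 rfl rfl y x hy hx hxy.symm
  · refine iff_of_false (not_not.2 ?_) hf
    rcases h with ⟨h1, h2⟩ | ⟨h1, h2⟩ | ⟨h1, h2⟩ | ⟨h1, h2⟩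
    · exact adj_high hne h2 rfl h1.symm hsG hrG
    · exact (adj_iff hr.out hs.out hne).2 (exists_commute h2 rfl h1.symm hsG)
    · refine adj_pair hne hs2 (Or.inr (dvd_sub_one_of_order rfl ?_)) h2
      simp only [List.mem_cons, List.not_mem_nil, or_false] at h1
      rcases h1 with e | e <;> rw [e] <;> decide
    · refine adj_comm.1 (adj_pair hne.symm hr2 (Or.inr (dvd_sub_one_of_order rfl ?_)) h2)
      simp only [List.mem_cons, List.not_mem_nil, or_false] at h1
      rcases h1 with e | e <;> rw [e] <;> decide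

end F4Prime

end H54
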