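import Cfsg.Agent.H54.WeylLattice
import Cfsg.Agent.H52.F4WeylCheck
import Cfsg.Agent.H52.OrderF4
import Cfsg.Agent.H52.SevenSupport

/-!
The Weyl group of type F4 has no element with characteristic polynomial `Φ₃Φ₄`, `Φ₃Φ₆` or `Φ₄Φ₆`, and it
preserves a quadratic form taking the values 2 and 4 on roots.
-/

set_option autoImplicit false
set_option maxRecDepth 100000

open Cfsg.Lie
open scoped Matrix

namespace H54

namespace F4Prime

/-- The data of type F4. -/
def ctx : Ctx chevF4 :=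
  ⟨H52.tablesF4, H52.checkedF4, H53.weylForF4, chainOK_of_mem _ (by simp)⟩

/-- The image of a fundamental root under the iterates of a coded permutation. -/
def itCo (c b e : ℕ) (j : ℕ) : ℤ :=
  H52.tablesF4.co ((H52.F4W.img c)^[e] (chevF4.simple b)) j

/-- `M ^ 4 + a M ^ 3 + b M ^ 2 + a M + 1` is nonzero. -/
def polyOK (c : ℕ) (a b : ℤ) : Bool :=
  (List.range 4).any fun s => (List.range 4).any fun j =>
    itCo c s 4 j + a * itCo c s 3 j + b * itCo c s 2 j + a * itCo c s 1 j + itCo c s 0 j != 0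

/-- `M ^ 2 + u M + 1` is zero. -/
def quadZero (c : ℕ) (u : ℤ) : Bool :=
  (List.range 4).all fun s => (List.range 4).all fun j =>
    itCo c s 2 j + u * itCo c s 1 j + itCo c s 0 j == 0

/-- A zero of the quartic is a zero of one of its quadratic factors. -/
def split (c : ℕ) (a b u v : ℤ) : Bool := polyOK c a b || quadZero c u || quadZero c v

/-- The three products of two cyclotomic polynomials. -/
def okAt (i : ℕ) : Bool :=
  split (H52.F4W.table.get i).1 1 2 1 0 && split (H52.F4W.table.get i).1 0 1 1 (-1) &&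
    split (H52.F4W.table.get i).1 (-1) 2 0 (-1)

theorem ok0 : (List.range' 0 288).all okAt = true := by decide +kernel
theorem ok1 : (List.range' 288 288).all okAt = true := by decide +kernel
theorem ok2 : (List.range' 576 288).all okAt = true := by decide +kernel
theorem ok3 : (List.range' 864 288).all okAt = true := by decide +kernel

theorem ok_all {i : ℕ} (h : i < 1152) : okAt i = true := by
  have key : ∀ a, (List.range' a 288).all okAt = true → a ≤ i → i < a + 288 → okAt i = true :=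
    fun a ha h1 h2 => List.all_eq_true.1 ha i (List.mem_range'_1.2 ⟨h1, h2⟩)
  rcases (show i < 288 ∨ (288 ≤ i ∧ i < 576) ∨ (576 ≤ i ∧ i < 864) ∨ (864 ≤ i ∧ i < 1152) by omega) with
    e | e | e | e
  exacts [key _ ok0 (by omega) (by omega), key _ ok1 e.1 e.2, key _ ok2 e.1 e.2, key _ ok3 e.1 e.2]

theorem exists_code (L : List (Fin chevF4.rank)) :
    ∃ i < 1152, ∀ r : Fin chevF4.nroots,
      (ctx.wperm L r).val = H52.F4W.img (H52.F4W.table.get i).1 r.val := by
  induction L with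
  | nil => exact ⟨0, by norm_num, fun r => (H52.F4W.start r).symm⟩
  | cons g L ih =>
    obtain ⟨i, hi, h⟩ := ih
    have hok := H52.F4W.ok_all hi
    simp only [H52.F4W.okAt, Bool.and_eq_true, List.all_eq_true, List.mem_range, decide_eq_true_eq,
      beq_iff_eq] at hok
    obtain ⟨h1, h3⟩ := hok.1 g.val g.isLt
    refine ⟨_, h1, fun r => ?_⟩
    rw [← h3, H52.F4W.img_comp _ _ r.val r.isLt, ← h r, Ctx.wperm_cons, Equiv.Perm.mul_apply,
      ctx.sigma_val]
    exact (H52.F4W.gens_eq g (ctx.wperm L r)).symm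

theorem wmat_poly {a b u v : ℤ}
    (hab : (a, b, u, v) ∈ [((1 : ℤ), (2 : ℤ), (1 : ℤ), (0 : ℤ)), (0, 1, 1, -1), (-1, 2, 0, -1)])
    (L : List (Fin chevF4.rank))
    (h0 : Ctx.wmat chevF4 L ^ 4 + a • Ctx.wmat chevF4 L ^ 3 + b • Ctx.wmat chevF4 L ^ 2 +
      a • Ctx.wmat chevF4 L + 1 = 0) :
    Ctx.wmat chevF4 L ^ 2 + u • Ctx.wmat chevF4 L + 1 = 0 ∨
      Ctx.wmat chevF4 L ^ 2 + v • Ctx.wmat chevF4 L + 1 = 0 := by
  obtain ⟨i, hi, h⟩ := exists_code L
  have hit : ∀ (e : ℕ) (r : Fin chevF4.nroots),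
      ((ctx.wperm L ^ e) r).val = (H52.F4W.img (H52.F4W.table.get i).1)^[e] r.val := by
    intro e
    induction e with
    | zero => intro r; simp
    | succ e ih => intro r; rw [pow_succ', Equiv.Perm.mul_apply, h, ih, Function.iterate_succ_apply']
  have hcol : ∀ (e : ℕ) (s j : ℕ) (hs : s < chevF4.rank) (hj : j < chevF4.rank),
      itCo (H52.F4W.table.get i).1 s e j =
        (Ctx.wmat chevF4 L ^ e *ᵥ ctx.cvec (ctx.simpleF ⟨s, hs⟩)) ⟨j, hj⟩ := fun e s j hs hj => by
    rw [ctx.wmat_pow_mulVec, Ctx.cvec, hit]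
    rfl
  set c := (H52.F4W.table.get i).1 with hc
  have hquad : ∀ w : ℤ, quadZero c w = true →
      Ctx.wmat chevF4 L ^ 2 + w • Ctx.wmat chevF4 L + 1 = 0 := by
    intro w hw
    simp only [quadZero, List.all_eq_true, List.mem_range, beq_iff_eq] at hw
    refine ctx.mat_ext fun s => funext fun j => ?_
    have h1 := hw s.val s.isLt j.val j.isLt
    rw [hcol 2 s j s.isLt j.isLt, hcol 1 s j s.isLt j.isLt, hcol 0 s j s.isLt j.isLt, pow_one,
      pow_zero] at h1
    simp only [Matrix.add_mulVec, Matrix.smul_mulVec, Pi.add_apply, Pi.smul_apply, smul_eq_mul,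
      Matrix.zero_mulVec, Pi.zero_apply, Matrix.one_mulVec] at h1 ⊢
    exact h1
  have hok := ok_all hi
  simp only [okAt, Bool.and_eq_true] at hok
  rw [← hc] at hok
  have hp : split c a b u v = true := by
    simp only [List.mem_cons, List.not_mem_nil, or_false, Prod.mk.injEq] at hab
    rcases hab with ⟨rfl, rfl, rfl, rfl⟩ | ⟨rfl, rfl, rfl, rfl⟩ | ⟨rfl, rfl, rfl, rfl⟩
    exacts [hok.1.1, hok.1.2, hok.2]
  simp only [split, Bool.or_eq_true] at hp
  rcases hp with (hp | hp) | hp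
  · exfalso
    simp only [polyOK, List.any_eq_true, List.mem_range, bne_iff_ne] at hp
    obtain ⟨s, hs, j, hj, hne⟩ := hp
    have h1 := congrFun (congrArg (fun A => A *ᵥ ctx.cvec (ctx.simpleF ⟨s, hs⟩)) h0) ⟨j, hj⟩
    refine hne ?_
    rw [hcol 4 s j hs hj, hcol 3 s j hs hj, hcol 2 s j hs hj, hcol 1 s j hs hj, hcol 0 s j hs hj,
      pow_one, pow_zero]
    simp only [Matrix.add_mulVec, Matrix.smul_mulVec, Pi.add_apply, Pi.smul_apply, smul_eq_mul,
      Matrix.zero_mulVec, Pi.zero_apply, Matrix.one_mulVec] at h1 ⊢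
    exact h1
  · exact Or.inl (hquad u hp)
  · exact Or.inr (hquad v hp)

/-- The invariant form. -/
def gram : Matrix (Fin chevF4.rank) (Fin chevF4.rank) ℤ := fun i j =>
  ([1, 1, 2, 2] : List ℤ).getD i.val 0 * chevF4.cartan i.val (chevF4.simple j.val)

theorem gram_rmat (i a b : Fin chevF4.rank) :
    ((Ctx.rmat chevF4 i)ᵀ * gram * Ctx.rmat chevF4 i) a b = gram a b := by
  have key : ((List.finRange chevF4.rank).all fun i => (List.finRange chevF4.rank).all fun a =>
      (List.finRange chevF4.rank).all fun b =>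
        ((Ctx.rmat chevF4 i)ᵀ * gram * Ctx.rmat chevF4 i) a b == gram a b) = true := by
    decide +kernel
  simp only [List.all_eq_true, beq_iff_eq] at key
  exact key i (List.mem_finRange _) a (List.mem_finRange _) b (List.mem_finRange _)

theorem gram_wmat (L : List (Fin chevF4.rank)) :
    (Ctx.wmat chevF4 L)ᵀ * gram * Ctx.wmat chevF4 L = gram := by
  induction L with
  | nil => simp [Ctx.wmat]
  | cons i L ih =>
    rw [Ctx.wmat, List.map_cons, List.prod_cons, ← Ctx.wmat, Matrix.transpose_mul]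
    have hi : (Ctx.rmat chevF4 i)ᵀ * gram * Ctx.rmat chevF4 i = gram := Matrix.ext (gram_rmat i)
    calc _ = (Ctx.wmat chevF4 L)ᵀ * ((Ctx.rmat chevF4 i)ᵀ * gram * Ctx.rmat chevF4 i) *
          Ctx.wmat chevF4 L := by simp only [Matrix.mul_assoc]
      _ = _ := by rw [hi, ih]

theorem gram_val : ∀ s : Fin chevF4.nroots,
    ctx.cvec s ⬝ᵥ gram *ᵥ ctx.cvec s = 2 ∨ ctx.cvec s ⬝ᵥ gram *ᵥ ctx.cvec s = 4 := by
  decide +kernel

end F4Prime

end H54
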