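import Cfsg.Agent.H54.CentralG2
import Cfsg.Agent.H54.ChevParabolic

/-!
The involutions of `G₂` in characteristic 2.
-/

set_option autoImplicit false
set_option linter.unusedSectionVars false

open Cfsg.Lie
open scoped MatrixGroups

namespace H54

section G2

variable (C : Ctx chevG2) {F : Type*} [Field F] [Fintype F] [CharP F 2]

/-- Conjugate in `G₂` to one of the two representatives. -/
def ConjRepG2 (g : GL chevG2.Idx F) : Prop :=
  ∃ h ∈ chevG2.group F, h * g * h⁻¹ = H52.rt chevG2 11 (1 : F) ∨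
    h * g * h⁻¹ = H52.rt chevG2 9 (1 : F)

theorem ConjRepG2.of_conj {g k : GL chevG2.Idx F} (hk : k ∈ chevG2.group F)
    (h : ConjRepG2 (k * g * k⁻¹)) : ConjRepG2 g := by
  obtain ⟨h, hh, e⟩ := h
  exact ⟨h * k, mul_mem hh hk, by simpa [mul_assoc] using e⟩

include C in
theorem g2_rt_self (r : ℕ) (t : F) : H52.rt chevG2 r t * H52.rt chevG2 r t = 1 := by
  rw [C.hC.rt_mul, CharTwo.add_self_eq_zero, C.hC.rt_zero]

include C in
theorem g2_nconj {i r : ℕ} (hi : i < chevG2.rank) (hr : r < chevG2.nroots) (t : F) :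
    H52.nElt chevG2 (chevG2.simple i) (1 : F) * H52.rt chevG2 r t *
      (H52.nElt chevG2 (chevG2.simple i) (1 : F))⁻¹ = H52.rt chevG2 (chevG2.reflectRoot i r) t := by
  rw [C.hC.sig_conj_rt hi hr]
  have e : ((C.T.eps i r : ℤ) : F) = 1 := by
    rcases H52.Checked.eps_eq_or (T := C.T) i r with h | h <;> rw [h] <;> simp [CharTwo.neg_eq]
  rw [e, one_mul]

include C in
theorem g2_n_mem (i : ℕ) (hi : i < chevG2.rank) :
    H52.nElt chevG2 (chevG2.simple i) (1 : F) ∈ chevG2.group F :=
  C.hC.monomial_le_group (C.hC.nElt_mem (C.hC.simple_lt hi))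

include C in
/-- Scaling by the torus. -/
theorem g2_scale {r : ℕ} (hr : r = 9 ∨ r = 11) {q : F} (hq : q ≠ 0) :
    ConjRepG2 (H52.rt chevG2 r q) := by
  classical
  rcases hr with rfl | rfl
  · set c : Fin chevG2.rank → Fˣ := Pi.mulSingle ⟨0, by decide⟩ (Units.mk0 q hq)⁻¹
    refine ⟨H52.torus chevG2 c, C.hC.diag_le_group (by rw [C.hC.diagonalSubgroup_eq]; exact ⟨c, rfl⟩),
      Or.inr ?_⟩
    rw [C.hC.torus_conj_rt c (by decide), Finset.prod_eq_single ⟨0, by decide⟩]
    · rw [show chevG2.cartan 0 9 = 1 by decide]; simp [c, hq]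
    · intro m _ hm; simp [c, Pi.mulSingle_eq_of_ne hm]
    · simp
  · set c : Fin chevG2.rank → Fˣ := Pi.mulSingle ⟨1, by decide⟩ (Units.mk0 q hq)⁻¹
    refine ⟨H52.torus chevG2 c, C.hC.diag_le_group (by rw [C.hC.diagonalSubgroup_eq]; exact ⟨c, rfl⟩),
      Or.inl ?_⟩
    rw [C.hC.torus_conj_rt c (by decide), Finset.prod_eq_single ⟨1, by decide⟩]
    · rw [show chevG2.cartan 1 11 = 1 by decide]; simp [c, hq]
    · intro m _ hm; simp [c, Pi.mulSingle_eq_of_ne hm]
    · simp

include C in
theorem g2_comm {r s : ℕ} (hr : r < chevG2.nroots) (hs : s < chevG2.nroots)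
    (h : evenComm chevG2 r s = true) (t u : F) :
    Commute (H52.rt chevG2 r t) (H52.rt chevG2 s u) := C.commute_of_evenComm hr hs h t u

include C in
/-- Involutions `x₉(q) x₁₀(r) x₁₁(s)`, `q ≠ 0`. -/
theorem g2_short {q : F} (hq : q ≠ 0) (r s : F) :
    ConjRepG2 (H52.rt chevG2 9 q * (H52.rt chevG2 10 r * H52.rt chevG2 11 s)) := by
  refine ConjRepG2.of_conj (C.rt_mem_group 7 (r / q)) ?_
  refine ConjRepG2.of_conj (C.rt_mem_group 8 (s / q)) ?_
  have cj : ∀ g a b : GL chevG2.Idx F, g * (a * b) * g⁻¹ = (g * a * g⁻¹) * (g * b * g⁻¹) :=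
    fun g a b => by group
  rw [cj (H52.rt chevG2 7 (r / q)), cj (H52.rt chevG2 7 (r / q)),
    C.conj_single (r := 7) (s := 9) (k := 10) (m := 3) (by decide) (by decide) (by decide) (by decide +kernel)
      (by decide) (by decide +kernel) (by decide) (by decide +kernel),
    C.conj_even (r := 7) (s := 10) (by decide) (by decide) (by decide +kernel),
    C.conj_even (r := 7) (s := 11) (by decide) (by decide) (by decide +kernel),
    cj (H52.rt chevG2 8 (s / q)), cj (H52.rt chevG2 8 (s / q)), cj (H52.rt chevG2 8 (s / q)),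
    C.conj_single (r := 8) (s := 9) (k := 11) (m := 3) (by decide) (by decide) (by decide) (by decide +kernel)
      (by decide) (by decide +kernel) (by decide) (by decide +kernel),
    C.conj_even (r := 8) (s := 10) (by decide) (by decide) (by decide +kernel),
    C.conj_even (r := 8) (s := 10) (by decide) (by decide) (by decide +kernel),
    C.conj_even (r := 8) (s := 11) (by decide) (by decide) (by decide +kernel),
    div_mul_cancel₀ r hq, div_mul_cancel₀ s hq]
  have e1 := (g2_comm C (r := 11) (s := 10) (by decide) (by decide) (by decide +kernel) s r).eq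
  have e : H52.rt chevG2 9 q * H52.rt chevG2 11 s * H52.rt chevG2 10 r *
      (H52.rt chevG2 10 r * H52.rt chevG2 11 s) = H52.rt chevG2 9 q := by
    calc _ = H52.rt chevG2 9 q * (H52.rt chevG2 11 s * (H52.rt chevG2 10 r * H52.rt chevG2 10 r) *
          H52.rt chevG2 11 s) := by group
      _ = _ := by rw [g2_rt_self C, mul_one, g2_rt_self C, mul_one]
  rw [e]
  exact g2_scale C (Or.inl rfl) hq

include C in
/-- Involutions in `⟨X₈, X₉, X₁₀, X₁₁⟩`. -/
theorem g2_upper_eight {g : GL chevG2.Idx F} (hg : g ∈ H52.upper chevG2 F 8) (h2 : g * g = 1)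
    (hne : g ≠ 1) : ConjRepG2 g := by
  obtain ⟨p, y, hy, rfl⟩ : ∃ p : F, ∃ y ∈ H52.upper chevG2 F 9, g = H52.rt chevG2 8 p * y := by
    obtain ⟨t, rfl⟩ := C.hC.exists_upProd (k := 8) (by decide) hg
    exact ⟨t 8, _, H52.Checked.upProd_mem 9 t, H52.Checked.upProd_step (k := 8) (by decide) t⟩
  obtain ⟨q, r, s, rfl⟩ := upper_nine C hy
  have c89 : H52.rt chevG2 9 q * H52.rt chevG2 8 p * (H52.rt chevG2 9 q)⁻¹ =
      H52.rt chevG2 8 p * H52.rt chevG2 11 (q * p) :=
    C.conj_single (r := 9) (s := 8) (k := 11) (m := -3) (by decide) (by decide) (by decide)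
      (by decide +kernel) (by decide) (by decide +kernel) (by decide) (by decide +kernel) q p
  set Y := H52.rt chevG2 10 r * H52.rt chevG2 11 s with hY
  have hYc : ∀ k : ℕ, k ∈ [8, 9, 10, 11] → ∀ z : F, Commute Y (H52.rt chevG2 k z) := by
    intro k hk z
    have hlt : k < chevG2.nroots := by
      rw [show chevG2.nroots = 12 by decide]
      simp only [List.mem_cons, List.not_mem_nil, or_false] at hk; omega
    refine Commute.mul_left (g2_comm C (by decide) hlt ?_ r z) (g2_comm C (by decide) hlt ?_ s z) <;>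
    · simp only [List.mem_cons, List.not_mem_nil, or_false] at hk
      rcases hk with rfl | rfl | rfl | rfl <;> decide +kernel
  have hY2 : Y * Y = 1 := by
    calc Y * Y = Y * H52.rt chevG2 10 r * H52.rt chevG2 11 s := by rw [hY, ← mul_assoc]
      _ = H52.rt chevG2 10 r * Y * H52.rt chevG2 11 s := by rw [(hYc 10 (by simp) r).eq]
      _ = (H52.rt chevG2 10 r * H52.rt chevG2 10 r) *
          (H52.rt chevG2 11 s * H52.rt chevG2 11 s) := by rw [hY]; group
      _ = 1 := by rw [g2_rt_self C, g2_rt_self C, mul_one]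
  have hsq : H52.rt chevG2 11 (q * p) = 1 := by
    rw [← h2]
    have k1 : Commute Y (H52.rt chevG2 8 p * H52.rt chevG2 9 q) :=
      (hYc 8 (by simp) p).mul_right (hYc 9 (by simp) q)
    set x8 := H52.rt chevG2 8 p
    set x9 := H52.rt chevG2 9 q
    have e : x8 * x9 * (x8 * x9) = H52.rt chevG2 11 (q * p) := by
      calc x8 * x9 * (x8 * x9) = x8 * (x9 * x8 * x9⁻¹) * (x9 * x9) := by group
        _ = x8 * x8 * H52.rt chevG2 11 (q * p) := by rw [c89, g2_rt_self C 9, mul_one, mul_assoc]
        _ = _ := by rw [g2_rt_self C 8, one_mul]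
    symm
    calc x8 * (x9 * Y) * (x8 * (x9 * Y))
        = x8 * x9 * (Y * (x8 * x9)) * Y := by group
      _ = x8 * x9 * (x8 * x9) * (Y * Y) := by rw [k1.eq]; group
      _ = _ := by rw [hY2, mul_one, e]
  have hqp : q * p = 0 := by
    rw [← C.hC.rt_zero (F := F) 11] at hsq
    exact C.hC.rt_injective (by decide) hsq
  by_cases hq : q = 0
  swap
  · have hp : p = 0 := (mul_eq_zero.1 hqp).resolve_left hq
    rw [hp, C.hC.rt_zero, one_mul]
    exact g2_short C hq r s
  subst hq
  simp only [C.hC.rt_zero, one_mul] at *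
  by_cases hp : p = 0
  · subst hp
    simp only [C.hC.rt_zero, one_mul] at hne ⊢
    by_cases hr : r = 0
    · subst hr
      simp only [hY, C.hC.rt_zero, one_mul] at hne ⊢
      refine g2_scale C (Or.inr rfl) fun hs => hne ?_
      rw [hs, C.hC.rt_zero]
    · refine ConjRepG2.of_conj (C.rt_mem_group 6 (s / r)) ?_
      refine ConjRepG2.of_conj (g2_n_mem C 1 (by decide)) ?_
      have e : H52.rt chevG2 6 (s / r) * Y * (H52.rt chevG2 6 (s / r))⁻¹ = H52.rt chevG2 10 r := by
        rw [hY, show H52.rt chevG2 6 (s / r) * (H52.rt chevG2 10 r * H52.rt chevG2 11 s) *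
            (H52.rt chevG2 6 (s / r))⁻¹ =
          (H52.rt chevG2 6 (s / r) * H52.rt chevG2 10 r * (H52.rt chevG2 6 (s / r))⁻¹) *
            (H52.rt chevG2 6 (s / r) * H52.rt chevG2 11 s * (H52.rt chevG2 6 (s / r))⁻¹) by group,
          C.conj_single (r := 6) (s := 10) (k := 11) (m := 1) (by decide) (by decide) (by decide)
            (by decide +kernel) (by decide) (by decide +kernel) (by decide) (by decide +kernel),
          C.conj_even (r := 6) (s := 11) (by decide) (by decide) (by decide +kernel),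
          div_mul_cancel₀ s hr, mul_assoc, g2_rt_self C, mul_one]
      rw [e, g2_nconj C (by decide) (by decide), show chevG2.reflectRoot 1 10 = 11 by decide +kernel]
      exact g2_scale C (Or.inr rfl) hr
  · -- move `x₈` to `x₉`
    haveI : Fact (Nat.Prime 2) := ⟨Nat.prime_two⟩
    obtain ⟨v, hv⟩ := FiniteField.isSquare_of_char_two (ringChar.eq F 2) (r / p)
    refine ConjRepG2.of_conj (C.rt_mem_group 7 v) ?_
    refine ConjRepG2.of_conj (g2_n_mem C 0 (by decide)) ?_
    obtain ⟨w, hw⟩ : ∃ w : F, H52.rt chevG2 7 v * H52.rt chevG2 8 p * (H52.rt chevG2 7 v)⁻¹ =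
        H52.rt chevG2 8 p * (H52.rt chevG2 10 r * H52.rt chevG2 11 w) := by
      have h := C.hC.comm_rt (r := 7) (s := 8) (by decide) (by decide) (by decide) (by decide +kernel) v p
      have hterms : chevG2.commTerms 7 8 = [(9, -2, 1, 1), (10, -3, 2, 1), (11, 3, 1, 2)] := by
        decide +kernel
      have h20 : (2 : F) = 0 := CharTwo.two_eq_zero
      have e : H52.wordRt chevG2 (chevG2.commWord F 7 8 v p) =
          H52.rt chevG2 10 r * H52.rt chevG2 11 (v * p ^ 2) := by
        have e9 : ((-2 : ℤ) : F) * (-v) ^ 1 * p ^ 1 = 0 := by push_cast; linear_combination (v * p) * h20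
        have e10 : ((-3 : ℤ) : F) * (-v) ^ 2 * p ^ 1 = r := by
          have hvp : v * v * p = r := by rw [← hv, div_mul_cancel₀ r hp]
          push_cast
          linear_combination hvp - 2 * (v * v * p) * h20
        have e11 : ((3 : ℤ) : F) * (-v) ^ 1 * p ^ 2 = v * p ^ 2 := by
          push_cast; linear_combination (-2 * v * p ^ 2) * h20
        simp only [H52.wordRt, ChevalleyDatum.commWord, hterms, List.map_cons, List.map_nil,
          List.prod_cons, List.prod_nil, mul_one, e9, e10, e11, C.hC.rt_zero, one_mul]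
      rw [e] at h
      set x7 := H52.rt chevG2 7 v
      set x8 := H52.rt chevG2 8 p
      set W := H52.rt chevG2 10 r * H52.rt chevG2 11 (v * p ^ 2) with hW
      have hW7 : Commute W x7 :=
        (g2_comm C (by decide) (by decide) (by decide +kernel) r v).mul_left
          (g2_comm C (by decide) (by decide) (by decide +kernel) _ v)
      have hW2 : W * W = 1 := by
        have c := (g2_comm C (r := 11) (s := 10) (by decide) (by decide) (by decide +kernel)
          (v * p ^ 2) r).eq
        calc W * W = H52.rt chevG2 10 r *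
              (H52.rt chevG2 11 (v * p ^ 2) * H52.rt chevG2 10 r) * H52.rt chevG2 11 (v * p ^ 2) := by
              rw [hW]; group
          _ = (H52.rt chevG2 10 r * H52.rt chevG2 10 r) *
              (H52.rt chevG2 11 (v * p ^ 2) * H52.rt chevG2 11 (v * p ^ 2)) := by rw [c]; group
          _ = 1 := by rw [g2_rt_self C, g2_rt_self C, mul_one]
      refine ⟨v * p ^ 2, ?_⟩
      rw [mul_inv_eq_iff_eq_mul]
      calc x7 * x8 = x7 * x8 * W * W := by rw [mul_assoc _ W, hW2, mul_one]
        _ = x8 * x7 * W := by rw [← h]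
        _ = x8 * W * x7 := by rw [mul_assoc, ← hW7.eq, ← mul_assoc]
    have e : H52.rt chevG2 7 v * (H52.rt chevG2 8 p * Y) * (H52.rt chevG2 7 v)⁻¹ =
        H52.rt chevG2 8 p * H52.rt chevG2 11 (w + s) := by
      rw [show H52.rt chevG2 7 v * (H52.rt chevG2 8 p * Y) * (H52.rt chevG2 7 v)⁻¹ =
        (H52.rt chevG2 7 v * H52.rt chevG2 8 p * (H52.rt chevG2 7 v)⁻¹) *
          (H52.rt chevG2 7 v * Y * (H52.rt chevG2 7 v)⁻¹) by group, hw, hY]
      have h10 := g2_comm C (r := 7) (s := 10) (by decide) (by decide) (by decide +kernel) v r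
      have h11 := g2_comm C (r := 7) (s := 11) (by decide) (by decide) (by decide +kernel) v s
      rw [(h10.mul_right h11).eq, mul_inv_cancel_right]
      have c := (g2_comm C (r := 11) (s := 10) (by decide) (by decide) (by decide +kernel) w r).eq
      calc H52.rt chevG2 8 p * (H52.rt chevG2 10 r * H52.rt chevG2 11 w) *
            (H52.rt chevG2 10 r * H52.rt chevG2 11 s)
          = H52.rt chevG2 8 p * (H52.rt chevG2 10 r * (H52.rt chevG2 11 w * H52.rt chevG2 10 r) *
              H52.rt chevG2 11 s) := by group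
        _ = H52.rt chevG2 8 p * ((H52.rt chevG2 10 r * H52.rt chevG2 10 r) *
              (H52.rt chevG2 11 w * H52.rt chevG2 11 s)) := by rw [c]; group
        _ = _ := by rw [g2_rt_self C, one_mul, C.hC.rt_mul]
    rw [e, show H52.nElt chevG2 (chevG2.simple 0) (1 : F) * (H52.rt chevG2 8 p *
        H52.rt chevG2 11 (w + s)) * (H52.nElt chevG2 (chevG2.simple 0) (1 : F))⁻¹ =
      (H52.nElt chevG2 (chevG2.simple 0) (1 : F) * H52.rt chevG2 8 p *
        (H52.nElt chevG2 (chevG2.simple 0) (1 : F))⁻¹) *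
      (H52.nElt chevG2 (chevG2.simple 0) (1 : F) * H52.rt chevG2 11 (w + s) *
        (H52.nElt chevG2 (chevG2.simple 0) (1 : F))⁻¹) by group,
      g2_nconj C (by decide) (by decide), g2_nconj C (by decide) (by decide),
      show chevG2.reflectRoot 0 8 = 9 by decide +kernel,
      show chevG2.reflectRoot 0 11 = 11 by decide +kernel]
    have := g2_short C hp (0 : F) (w + s)
    rwa [C.hC.rt_zero, one_mul] at this

include C in
theorem g2_sq_conj {g h : GL chevG2.Idx F} (h2 : g * g = 1) :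
    (h * g * h⁻¹) * (h * g * h⁻¹) = 1 := by
  rw [show h * g * h⁻¹ * (h * g * h⁻¹) = h * (g * g) * h⁻¹ by group, h2]; group

/-- The leading term of a conjugate in `U`. -/
theorem g2_leading {k : ℕ} (hk : 6 ≤ k) (hk' : k < chevG2.nroots) (t : F) {u : GL chevG2.Idx F}
    (hu : u ∈ chevG2.posUnipotent F) (C : Ctx chevG2)
    (hS : ∀ r < chevG2.nroots, ∀ j < chevG2.rank, (H52.crt chevG2 r j = 0 ↔ C.T.co r j = 0)) :
    u * H52.rt chevG2 k t * u⁻¹ * (H52.rt chevG2 k t)⁻¹ ∈ H52.upper chevG2 F (k + 1) := by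
  have h2 : chevG2.nroots / 2 ≤ k := by rw [show chevG2.nroots / 2 = 6 by decide]; exact hk
  have hrad : Ctx.radRoot chevG2 (∅ : Set ℕ) k := by
    obtain ⟨j, hj, -, hpos⟩ : ∃ j < chevG2.rank, True ∧ 0 < C.T.co k j := by
      by_cases h : k = chevG2.simple 0
      · exact ⟨0, by decide, trivial, by rw [h, C.hC.co_simple (by decide) (by decide)]; simp⟩
      · obtain ⟨j, hj, -, hpos⟩ := C.hC.exists_other_support h2 hk' (by decide) h
        exact ⟨j, hj, trivial, hpos⟩
    exact (C.radRoot_iff hS k).2 ⟨h2, hk', j, hj, Set.notMem_empty j, hpos⟩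
  exact C.above_le_upper hS k (C.conj_leading hS hrad t hu)

include C in
theorem g2_pos_eq : chevG2.posUnipotent F = H52.upper chevG2 F 6 := by
  rw [C.hC.posUnipotent_eq]; rfl

include C in
theorem g2_upper_norm (k : ℕ) (hk : 6 ≤ k) {u y : GL chevG2.Idx F}
    (hu : u ∈ chevG2.posUnipotent F) (hy : y ∈ H52.upper chevG2 F k)
    (hS : ∀ r < chevG2.nroots, ∀ j < chevG2.rank, (H52.crt chevG2 r j = 0 ↔ C.T.co r j = 0)) :
    u * y * u⁻¹ ∈ H52.upper chevG2 F k := by
  have hle : (H52.upper chevG2 F k).map (MulAut.conj u).toMonoidHom ≤ H52.upper chevG2 F k := by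
    rw [H52.upper, MonoidHom.map_closure, Subgroup.closure_le]
    rintro _ ⟨_, ⟨r, t, h1, h2, rfl⟩, rfl⟩
    simp only [MulEquiv.coe_toMonoidHom, MulAut.conj_apply, SetLike.mem_coe]
    have h := g2_leading (k := r) (le_trans hk h1) h2 t hu C hS
    have := mul_mem (H52.Checked.upper_anti (F := F) (Nat.le_succ_of_le h1) h)
      (H52.Checked.rt_mem_upper h1 h2 t)
    rwa [inv_mul_cancel_right] at this
  exact hle ⟨y, hy, rfl⟩

include C in
theorem g2_involution_pos
    (hS : ∀ r < chevG2.nroots, ∀ j < chevG2.rank, (H52.crt chevG2 r j = 0 ↔ C.T.co r j = 0))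
    {g : GL chevG2.Idx F} (hg : g ∈ chevG2.posUnipotent F) (h2 : g * g = 1) (hne : g ≠ 1) :
    ConjRepG2 g := by
  rw [g2_pos_eq C] at hg
  obtain ⟨t, rfl⟩ := C.hC.exists_upProd (k := 6) (by decide) hg
  rw [H52.Checked.upProd_step (k := 6) (by decide), H52.Checked.upProd_step (k := 7) (by decide)]
    at h2 hne ⊢
  have hz : H52.upProd chevG2 8 t ∈ H52.upper chevG2 F 8 := H52.Checked.upProd_mem 8 t
  generalize H52.upProd chevG2 8 t = z at hz h2 hne ⊢
  generalize t 6 = b at h2 hne ⊢
  generalize t 7 = a at h2 hne ⊢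
  have hU : ∀ {k : ℕ} (_ : 6 ≤ k) (_ : k < chevG2.nroots) (s : F),
      H52.rt chevG2 k s ∈ chevG2.posUnipotent F := fun hk hk' s => by
    rw [g2_pos_eq C]; exact H52.Checked.rt_mem_upper hk hk' s
  have hzU : z ∈ chevG2.posUnipotent F := by
    rw [g2_pos_eq C]; exact H52.Checked.upper_anti (by norm_num) hz
  -- `x₇(a) x₆(b) = x₆(b) x₇(a) x₈(ab)` modulo `upper 9`
  have hword : ∀ t u : F, ∃ y ∈ H52.upper chevG2 F 9,
      H52.rt chevG2 7 u * H52.rt chevG2 6 t =
        H52.rt chevG2 6 t * H52.rt chevG2 7 u * (H52.rt chevG2 8 (t * u) * y) := by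
    intro t u
    have h := C.hC.comm_rt (r := 6) (s := 7) (by decide) (by decide) (by decide) (by decide +kernel) t u
    have hterms : chevG2.commTerms 6 7 = [(8, 1, 1, 1), (9, 1, 1, 2), (10, -1, 1, 3), (11, -2, 2, 3)] := by
      decide +kernel
    have e8 : ((1 : ℤ) : F) * (-t) ^ 1 * u ^ 1 = t * u := by simp [CharTwo.neg_eq]
    simp only [H52.wordRt, ChevalleyDatum.commWord, hterms, List.map_cons, List.map_nil,
      List.prod_cons, List.prod_nil, mul_one, e8] at h
    exact ⟨_, mul_mem (H52.Checked.rt_mem_upper le_rfl (by decide) _)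
      (mul_mem (H52.Checked.rt_mem_upper (by norm_num) (by decide) _)
        (H52.Checked.rt_mem_upper (by norm_num) (by decide) _)), h⟩
  by_cases hb : b = 0
  · subst hb
    simp only [C.hC.rt_zero, one_mul] at h2 hne ⊢
    by_cases ha : a = 0
    · subst ha
      simp only [C.hC.rt_zero, one_mul] at h2 hne ⊢
      exact g2_upper_eight C hz h2 hne
    obtain ⟨p, y, hy, rfl⟩ : ∃ p : F, ∃ y ∈ H52.upper chevG2 F 9, z = H52.rt chevG2 8 p * y := by
      obtain ⟨t, rfl⟩ := C.hC.exists_upProd (k := 8) (by decide) hz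
      exact ⟨t 8, _, H52.Checked.upProd_mem 9 t, H52.Checked.upProd_step (k := 8) (by decide) t⟩
    set c := p / a with hc
    refine ConjRepG2.of_conj (C.rt_mem_group 6 c) ?_
    obtain ⟨y₁, hy₁, e₁⟩ := hword c a
    set X := H52.rt chevG2 6 c with hX
    have hXU : X ∈ chevG2.posUnipotent F := hU le_rfl (by decide) c
    have hy₁' : (H52.rt chevG2 8 (c * a) * y₁)⁻¹ ∈ H52.upper chevG2 F 8 :=
      inv_mem (mul_mem (H52.Checked.rt_mem_upper le_rfl (by decide) _)
        (H52.Checked.upper_anti (by norm_num) hy₁))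
    have hkey : ∃ y₂ ∈ H52.upper chevG2 F 9,
        X * (H52.rt chevG2 7 a * (H52.rt chevG2 8 p * y)) * X⁻¹ = H52.rt chevG2 7 a * y₂ := by
      refine ⟨X * ((H52.rt chevG2 8 (c * a) * y₁)⁻¹ * (H52.rt chevG2 8 p * y)) * X⁻¹,
        g2_upper_norm C 9 (by norm_num) hXU ?_ hS, ?_⟩
      · rw [hc, div_mul_cancel₀ p ha, mul_inv_rev, mul_assoc, ← mul_assoc (H52.rt chevG2 8 p)⁻¹,
          inv_mul_cancel, one_mul]
        exact mul_mem (inv_mem hy₁) hy
      · calc X * (H52.rt chevG2 7 a * (H52.rt chevG2 8 p * y)) * X⁻¹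
            = (X * H52.rt chevG2 7 a * (H52.rt chevG2 8 (c * a) * y₁)) *
                ((H52.rt chevG2 8 (c * a) * y₁)⁻¹ * (H52.rt chevG2 8 p * y)) * X⁻¹ := by group
          _ = _ := by rw [← e₁]; group
    obtain ⟨y₂, hy₂, e₂⟩ := hkey
    have h2' := g2_sq_conj C (h := X) h2
    have hne' : H52.rt chevG2 7 a * y₂ ≠ 1 := by
      intro h
      rw [← e₂, mul_inv_eq_one, mul_eq_left] at h
      exact hne h
    rw [e₂] at h2' ⊢
    obtain ⟨q, r, s, rfl⟩ := upper_nine C hy₂
    set x7 := H52.rt chevG2 7 a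
    set x9 := H52.rt chevG2 9 q
    set Y := H52.rt chevG2 10 r * H52.rt chevG2 11 s with hY
    have hc79 : x9 * x7 * x9⁻¹ = x7 * H52.rt chevG2 10 (q * a) :=
      C.conj_single (r := 9) (s := 7) (k := 10) (m := -3) (by decide) (by decide) (by decide)
        (by decide +kernel) (by decide) (by decide +kernel) (by decide) (by decide +kernel) q a
    have hY7 : Commute Y x7 :=
      (g2_comm C (by decide) (by decide) (by decide +kernel) r a).mul_left
        (g2_comm C (by decide) (by decide) (by decide +kernel) s a)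
    have hY9 : Commute Y x9 :=
      (g2_comm C (by decide) (by decide) (by decide +kernel) r q).mul_left
        (g2_comm C (by decide) (by decide) (by decide +kernel) s q)
    have hY2 : Y * Y = 1 := by
      have c := (g2_comm C (r := 11) (s := 10) (by decide) (by decide) (by decide +kernel) s r).eq
      calc Y * Y = H52.rt chevG2 10 r * (H52.rt chevG2 11 s * H52.rt chevG2 10 r) *
            H52.rt chevG2 11 s := by rw [hY]; group
        _ = (H52.rt chevG2 10 r * H52.rt chevG2 10 r) *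
            (H52.rt chevG2 11 s * H52.rt chevG2 11 s) := by rw [c]; group
        _ = 1 := by rw [g2_rt_self C, g2_rt_self C, mul_one]
    have hq : H52.rt chevG2 10 (q * a) = 1 := by
      rw [← h2']
      symm
      calc x7 * (x9 * Y) * (x7 * (x9 * Y))
          = x7 * x9 * (Y * (x7 * x9)) * Y := by group
        _ = x7 * x9 * (x7 * x9) * (Y * Y) := by rw [(hY7.mul_right hY9).eq]; group
        _ = x7 * (x9 * x7 * x9⁻¹) * (x9 * x9) := by rw [hY2]; group
        _ = x7 * x7 * H52.rt chevG2 10 (q * a) := by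
            rw [hc79, g2_rt_self C 9, mul_one, mul_assoc]
        _ = _ := by rw [g2_rt_self C 7, one_mul]
    have hq0 : q = 0 := by
      rw [← C.hC.rt_zero (F := F) 10] at hq
      exact (mul_eq_zero.1 (C.hC.rt_injective (by decide) hq)).resolve_right ha
    have hx9 : x9 = 1 := by simp [x9, hq0, C.hC.rt_zero]
    rw [hx9, one_mul] at h2' hne' ⊢
    set n := H52.nElt chevG2 (chevG2.simple 1) (1 : F) with hn
    refine ConjRepG2.of_conj (g2_n_mem C 1 (by decide)) (g2_upper_eight C ?_ (g2_sq_conj C h2') ?_)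
    · rw [← hn, show n * (x7 * Y) * n⁻¹ = (n * x7 * n⁻¹) * ((n * H52.rt chevG2 10 r * n⁻¹) *
          (n * H52.rt chevG2 11 s * n⁻¹)) by rw [hY]; group, hn, g2_nconj C (by decide) (by decide),
        g2_nconj C (by decide) (by decide), g2_nconj C (by decide) (by decide),
        show chevG2.reflectRoot 1 7 = 8 by decide +kernel,
        show chevG2.reflectRoot 1 10 = 11 by decide +kernel,
        show chevG2.reflectRoot 1 11 = 10 by decide +kernel]
      exact mul_mem (H52.Checked.rt_mem_upper le_rfl (by decide) _) (mul_mem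
        (H52.Checked.rt_mem_upper (by norm_num) (by decide) _)
        (H52.Checked.rt_mem_upper (by norm_num) (by decide) _))
    · intro h
      rw [mul_inv_eq_one, mul_eq_left] at h
      exact hne' h
  by_cases ha : a = 0
  swap
  · -- both simple components: impossible
    exfalso
    obtain ⟨y₁, hy₁, e₁⟩ := hword b a
    set x6 := H52.rt chevG2 6 b with hx6
    set x7 := H52.rt chevG2 7 a with hx7
    obtain ⟨p, y, hy, rfl⟩ : ∃ p : F, ∃ y ∈ H52.upper chevG2 F 9, z = H52.rt chevG2 8 p * y := by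
      obtain ⟨t, rfl⟩ := C.hC.exists_upProd (k := 8) (by decide) hz
      exact ⟨t 8, _, H52.Checked.upProd_mem 9 t, H52.Checked.upProd_step (k := 8) (by decide) t⟩
    set x8 := H52.rt chevG2 8 p with hx8
    set w := x6 * x7 with hw
    have hwU : w ∈ chevG2.posUnipotent F := mul_mem (hU le_rfl (by decide) b) (hU (by norm_num) (by decide) a)
    have hd : w * x8 * w⁻¹ * x8⁻¹ ∈ H52.upper chevG2 F 9 :=
      g2_leading (k := 8) (by norm_num) (by decide) p hwU C hS
    set d := w * x8 * w⁻¹ * x8⁻¹ with hdd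
    have hmem : H52.rt chevG2 8 (b * a) ∈ H52.upper chevG2 F 9 := by
      have hN := fun {u q : GL chevG2.Idx F} (hu : u ∈ chevG2.posUnipotent F)
        (hq : q ∈ H52.upper chevG2 F 9) => g2_upper_norm C 9 (by norm_num) hu hq hS
      have hd7 : x7 * H52.rt chevG2 8 (b * a) * x7⁻¹ * (H52.rt chevG2 8 (b * a))⁻¹ ∈
          H52.upper chevG2 F 9 :=
        g2_leading (k := 8) (by norm_num) (by decide) (b * a) (hU (by norm_num) (by decide) a) C hS
      have hx8U : x8 ∈ chevG2.posUnipotent F := hU (by norm_num) (by decide) p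
      have h1 : x6 * (x7 * (x8 * y)) * (x6 * (x7 * (x8 * y))) = 1 := h2
      set g8 := H52.rt chevG2 8 (b * a) with hg8
      have hww' : w * w = (x7 * g8 * x7⁻¹) * (x7 * y₁ * x7⁻¹) := by
        calc w * w = x6 * (x7 * x6) * x7 := by rw [hw]; group
          _ = (x6 * x6) * (x7 * ((g8 * y₁) * x7)) := by rw [e₁, hw]; group
          _ = x7 * (g8 * y₁) * x7⁻¹ := by
              rw [g2_rt_self C 6, one_mul, eq_mul_inv_iff_mul_eq,
                show x7 * (g8 * y₁ * x7) * x7 = x7 * (g8 * y₁) * (x7 * x7) by group,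
                g2_rt_self C 7, mul_one]
          _ = _ := by group
      have e : g8 = ((x7 * g8 * x7⁻¹ * g8⁻¹)⁻¹) * ((x7 * y₁ * x7⁻¹) *
          ((w⁻¹ * (x8 * y) * w) * (x8 * y)))⁻¹ := by
        have h3 : (w * w) * ((w⁻¹ * (x8 * y) * w) * (x8 * y)) = 1 := by
          rw [← h1, hw]; group
        rw [hww'] at h3
        have h4 : x7 * g8 * x7⁻¹ = ((x7 * y₁ * x7⁻¹) * ((w⁻¹ * (x8 * y) * w) * (x8 * y)))⁻¹ := by
          rw [eq_inv_iff_mul_eq_one, ← mul_assoc]; exact h3
        rw [← h4]; group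
      rw [e]
      refine mul_mem (inv_mem hd7) (inv_mem (mul_mem (hN (hU (by norm_num) (by decide) a) hy₁) ?_))
      have hd' : w⁻¹ * x8 * w * x8⁻¹ ∈ H52.upper chevG2 F 9 := by
        have := g2_leading (k := 8) (by norm_num) (by decide) p (inv_mem hwU) C hS
        rwa [inv_inv] at this
      have e' : (w⁻¹ * (x8 * y) * w) * (x8 * y) =
          (w⁻¹ * x8 * w * x8⁻¹) * ((x8 * (w⁻¹ * y * w) * x8⁻¹) * (x8 * x8 * y)) := by group
      rw [e', g2_rt_self C 8, one_mul]
      refine mul_mem hd' (mul_mem (hN hx8U ?_) hy)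
      have := hN (inv_mem hwU) hy
      rwa [inv_inv] at this
    exact mul_ne_zero hb ha (C.hC.rt_mem_upper_succ (by decide) (by decide) hmem)
  subst ha
  simp only [C.hC.rt_zero, one_mul] at h2 hne ⊢
  obtain ⟨p, y, hy, rfl⟩ : ∃ p : F, ∃ y ∈ H52.upper chevG2 F 9, z = H52.rt chevG2 8 p * y := by
    obtain ⟨t, rfl⟩ := C.hC.exists_upProd (k := 8) (by decide) hz
    exact ⟨t 8, _, H52.Checked.upProd_mem 9 t, H52.Checked.upProd_step (k := 8) (by decide) t⟩
  set c := p / b with hc
  refine ConjRepG2.of_conj (C.rt_mem_group 7 c) ?_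
  obtain ⟨y₁, hy₁, e₁⟩ := hword b c
  set X := H52.rt chevG2 7 c with hX
  set x6 := H52.rt chevG2 6 b
  have hXU : X ∈ chevG2.posUnipotent F := hU (by norm_num) (by decide) c
  have hkey : ∃ y₂ ∈ H52.upper chevG2 F 9, X * (x6 * (H52.rt chevG2 8 p * y)) * X⁻¹ = x6 * y₂ := by
    have hmid : H52.rt chevG2 8 (b * c) * y₁ * (H52.rt chevG2 8 p * y) ∈ H52.upper chevG2 F 9 := by
      rw [hc, mul_div_cancel₀ p hb, show H52.rt chevG2 8 p * y₁ * (H52.rt chevG2 8 p * y) =
        (H52.rt chevG2 8 p * y₁ * (H52.rt chevG2 8 p)⁻¹) * (H52.rt chevG2 8 p * H52.rt chevG2 8 p * y) by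
          group, g2_rt_self C, one_mul]
      exact mul_mem (g2_upper_norm C 9 (by norm_num) (hU (by norm_num) (by decide) p) hy₁ hS) hy
    refine ⟨X * (H52.rt chevG2 8 (b * c) * y₁ * (H52.rt chevG2 8 p * y)) * X⁻¹,
      g2_upper_norm C 9 (by norm_num) hXU hmid hS, ?_⟩
    calc X * (x6 * (H52.rt chevG2 8 p * y)) * X⁻¹
        = (X * x6) * (H52.rt chevG2 8 p * y) * X⁻¹ := by group
      _ = _ := by rw [e₁]; group
  obtain ⟨y₂, hy₂, e₂⟩ := hkey
  have h2' := g2_sq_conj C (h := X) h2
  have hne' : x6 * y₂ ≠ 1 := by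
    intro h
    rw [← e₂, mul_inv_eq_one, mul_eq_left] at h
    exact hne h
  rw [e₂] at h2' ⊢
  obtain ⟨q, r, s, rfl⟩ := upper_nine C hy₂
  set x10 := H52.rt chevG2 10 r with hx10
  set Y := H52.rt chevG2 9 q * H52.rt chevG2 11 s with hY
  have eY : H52.rt chevG2 9 q * (x10 * H52.rt chevG2 11 s) = x10 * Y := by
    have c := (g2_comm C (r := 9) (s := 10) (by decide) (by decide) (by decide +kernel) q r).eq
    rw [hY, ← mul_assoc, c, mul_assoc]
  rw [eY] at h2' hne' ⊢
  have hY6 : Commute Y x6 :=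
    (g2_comm C (by decide) (by decide) (by decide +kernel) q b).mul_left
      (g2_comm C (by decide) (by decide) (by decide +kernel) s b)
  have hY10 : Commute Y x10 :=
    (g2_comm C (by decide) (by decide) (by decide +kernel) q r).mul_left
      (g2_comm C (by decide) (by decide) (by decide +kernel) s r)
  have hY2 : Y * Y = 1 := by
    have c := (g2_comm C (r := 11) (s := 9) (by decide) (by decide) (by decide +kernel) s q).eq
    calc Y * Y = H52.rt chevG2 9 q * (H52.rt chevG2 11 s * H52.rt chevG2 9 q) *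
          H52.rt chevG2 11 s := by rw [hY]; group
      _ = (H52.rt chevG2 9 q * H52.rt chevG2 9 q) *
          (H52.rt chevG2 11 s * H52.rt chevG2 11 s) := by rw [c]; group
      _ = 1 := by rw [g2_rt_self C, g2_rt_self C, mul_one]
  have hc610 : x10 * x6 * x10⁻¹ = x6 * H52.rt chevG2 11 (r * b) :=
    C.conj_single (r := 10) (s := 6) (k := 11) (m := -1) (by decide) (by decide) (by decide)
      (by decide +kernel) (by decide) (by decide +kernel) (by decide) (by decide +kernel) r b
  have hr : H52.rt chevG2 11 (r * b) = 1 := by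
    rw [← h2']
    symm
    calc x6 * (x10 * Y) * (x6 * (x10 * Y))
        = x6 * x10 * (Y * (x6 * x10)) * Y := by group
      _ = x6 * x10 * (x6 * x10) * (Y * Y) := by rw [(hY6.mul_right hY10).eq]; group
      _ = x6 * (x10 * x6 * x10⁻¹) * (x10 * x10) := by rw [hY2]; group
      _ = x6 * x6 * H52.rt chevG2 11 (r * b) := by
          rw [hc610, g2_rt_self C 10, mul_one, mul_assoc]
      _ = _ := by rw [g2_rt_self C 6, one_mul]
  have hr0 : r = 0 := by
    rw [← C.hC.rt_zero (F := F) 11] at hr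
    exact (mul_eq_zero.1 (C.hC.rt_injective (by decide) hr)).resolve_right hb
  have hx10' : x10 = 1 := by simp [x10, hr0, C.hC.rt_zero]
  rw [hx10', one_mul] at h2' hne' ⊢
  set n := H52.nElt chevG2 (chevG2.simple 0) (1 : F) with hn
  refine ConjRepG2.of_conj (g2_n_mem C 0 (by decide)) (g2_upper_eight C ?_ (g2_sq_conj C h2') ?_)
  · rw [← hn, show n * (x6 * Y) * n⁻¹ = (n * x6 * n⁻¹) * ((n * H52.rt chevG2 9 q * n⁻¹) *
        (n * H52.rt chevG2 11 s * n⁻¹)) by rw [hY]; group, hn, g2_nconj C (by decide) (by decide),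
      g2_nconj C (by decide) (by decide), g2_nconj C (by decide) (by decide),
      show chevG2.reflectRoot 0 6 = 10 by decide +kernel,
      show chevG2.reflectRoot 0 9 = 8 by decide +kernel,
      show chevG2.reflectRoot 0 11 = 11 by decide +kernel]
    exact mul_mem (H52.Checked.rt_mem_upper (by norm_num) (by decide) _) (mul_mem
      (H52.Checked.rt_mem_upper le_rfl (by decide) _)
      (H52.Checked.rt_mem_upper (by norm_num) (by decide) _))
  · intro h
    rw [mul_inv_eq_one, mul_eq_left] at h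
    exact hne' h

include C in
/-- The long and the short representative are not conjugate. -/
theorem g2_not_conj
    (hS : ∀ r < chevG2.nroots, ∀ j < chevG2.rank, (H52.crt chevG2 r j = 0 ↔ C.T.co r j = 0))
    {h : GL chevG2.Idx F} (hh : h ∈ chevG2.group F) :
    h * H52.rt chevG2 11 (1 : F) * h⁻¹ ≠ H52.rt chevG2 9 (1 : F) := by
  intro he
  obtain ⟨u, hu, t, ht, L, v, hv, rfl⟩ := C.exists_nf hh
  have hvU := C.uinv_le _ hv
  have hv11 : v * H52.rt chevG2 11 (1 : F) * v⁻¹ = H52.rt chevG2 11 (1 : F) := by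
    have hd := g2_leading (k := 11) (by norm_num) (by decide) (1 : F) hvU C hS
    have hbot : H52.upper chevG2 F (11 + 1) = ⊥ := by
      rw [H52.upper, Subgroup.closure_eq_bot_iff]
      rintro x ⟨r, s, h1, h2, -⟩
      exfalso
      rw [show chevG2.nroots = 12 by decide] at h2
      omega
    rw [hbot, Subgroup.mem_bot, mul_inv_eq_one] at hd
    exact hd
  obtain ⟨c, rfl⟩ : ∃ c, H52.torus chevG2 c = t := by
    rw [C.hC.diagonalSubgroup_eq] at ht; exact ht
  obtain ⟨e, he', hn⟩ := C.nw_conj_rt (F := F) L ⟨11, by decide⟩ 1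
  set k := C.wperm L ⟨11, by decide⟩ with hk
  set e' : F := ((∏ i : Fin chevG2.rank, c i ^ chevG2.cartan i.val k.val : Fˣ) : F) * ((e : F) * 1)
  have he0 : e' ≠ 0 := by
    refine mul_ne_zero (Units.ne_zero _) ?_
    rcases he' with rfl | rfl <;> simp
  have hmain : H52.rt chevG2 k.val e' = u⁻¹ * H52.rt chevG2 9 (1 : F) * u := by
    have h1 : u⁻¹ * H52.rt chevG2 9 (1 : F) * u = H52.torus chevG2 c *
        (Ctx.nw chevG2 F L * (v * H52.rt chevG2 11 (1 : F) * v⁻¹) * (Ctx.nw chevG2 F L)⁻¹) *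
        (H52.torus chevG2 c)⁻¹ := by
      rw [← he]; group
    rw [h1, hv11, hn]
    exact (C.hC.torus_conj_rt c k.isLt _).symm
  have hd := g2_leading (k := 9) (by norm_num) (by decide) (1 : F) (inv_mem hu) C hS
  rw [inv_inv, ← hmain] at hd
  have hk9 : k.val ≠ 9 := by
    have hlong : (!shortG2 k.val) = true :=
      C.wperm_inv_pred (P := fun r => !shortG2 r) longG2_reflect L (r := ⟨11, by decide⟩) (by decide)
    intro h
    rw [h] at hlong
    exact absurd hlong (by decide)
  have hin : H52.rt chevG2 k.val e' ∈ H52.upper chevG2 F 9 := by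
    have := mul_mem (H52.Checked.upper_anti (F := F) (Nat.le_succ 9) hd)
      (H52.Checked.rt_mem_upper (F := F) (k := 9) le_rfl (by decide : (9 : ℕ) < chevG2.nroots) 1)
    rwa [inv_mul_cancel_right] at this
  rcases lt_or_ge k.val 6 with hneg | hpos
  · have hmem : H52.rt chevG2 k.val e' ∈ chevG2.borelSubgroup F ⊓ chevG2.negUnipotent F :=
      ⟨(le_sup_left : _ ≤ chevG2.borelSubgroup F) (by
        rw [g2_pos_eq C]; exact H52.Checked.upper_anti (by norm_num) hin),
        C.hC.rt_mem_neg (by rw [show chevG2.nroots / 2 = 6 by decide]; exact hneg) _⟩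
    rw [C.hC.borel_inf_neg, Subgroup.mem_bot, ← C.hC.rt_zero (F := F) k.val] at hmem
    exact he0 (C.hC.rt_injective k.isLt hmem)
  · rcases lt_or_gt_of_ne hk9 with hlt | hgt
    · exact he0 (C.hC.rt_mem_upper_succ (by rw [show chevG2.nroots / 2 = 6 by decide]; exact hpos)
        k.isLt (H52.Checked.upper_anti hlt hin))
    · have h9 : H52.rt chevG2 9 (1 : F) ∈ H52.upper chevG2 F 10 := by
        have := mul_mem (inv_mem hd) (H52.Checked.rt_mem_upper (F := F) hgt k.isLt e')
        rwa [show (H52.rt chevG2 k.val e' * (H52.rt chevG2 9 (1 : F))⁻¹)⁻¹ * H52.rt chevG2 k.val e' =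
          H52.rt chevG2 9 (1 : F) by group] at this
      exact one_ne_zero (C.hC.rt_mem_upper_succ (by decide) (by decide) h9)

end G2

end H54
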