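import Cfsg.Agent.H41.PSLOrd
import Cfsg.Agent.H49.PrimeGraphPSp
import Cfsg.Agent.H49.SpElements
import Cfsg.Agent.H51.GUTorus
import Cfsg.Agent.H50.Center

/-!
Elements of order 65 in some classical groups over the fields with 8 and 64 elements.
-/

set_option autoImplicit false

namespace H54

namespace OrderSixtyFive

theorem psl {F : Type*} [Field F] [Fintype F] {n : ℕ} (hn : 0 < n)
    (h : 65 ∣ H41.singerOrd (Fintype.card F) n) :
    ∃ x : Matrix.ProjectiveSpecialLinearGroup (Fin n) F, orderOf x = 65 :=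
  H41.exists_orderOf_dvd_singerOrd hn 65 h

theorem psp {F : Type*} [Field F] [Fintype F] (h8 : Fintype.card F = 8) {n : ℕ} (hn : 2 ≤ n) :
    ∃ x : Cfsg.PSp n F, orderOf x = 65 := by
  obtain ⟨g, hg⟩ := H49.exists_orderOf_sp (F := F) (d := 2) (M := 65) (by norm_num)
    (Or.inr (by rw [Nat.card_eq_fintype_card, h8]; norm_num))
  obtain ⟨g', hg'⟩ := H49.exists_orderOf_mono hn g
  refine ⟨QuotientGroup.mk g', ?_⟩
  rw [H49.orderOf_mk_of_odd_or_two (by omega) (Or.inl (by rw [hg', hg]; decide)), hg', hg]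

theorem psu {F : Type*} [Field F] [Fintype F] (h64 : Fintype.card F = 64) :
    ∃ x : Cfsg.PSU 4 F 8, orderOf x = 65 := by
  have hF : Fintype.card F = 8 ^ 2 := by rw [h64]; norm_num
  obtain ⟨g, hg⟩ := H51.exists_su_torus hF (n := 4) (by norm_num)
  have hN : (H51.negSum 8 4).natAbs = 455 := by decide
  rw [hN] at hg
  have hc : Subgroup.center (Cfsg.SU 4 F 8) = ⊥ := by
    rw [← Subgroup.card_eq_one, H50.card_center_SU hF (by norm_num)]
    decide
  refine ⟨QuotientGroup.mk (g ^ 7), ?_⟩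
  rw [show (QuotientGroup.mk (g ^ 7) : Cfsg.PSU 4 F 8) =
    QuotientGroup.mk' (Subgroup.center (Cfsg.SU 4 F 8)) (g ^ 7) from rfl,
    orderOf_injective _ ((MonoidHom.ker_eq_bot_iff _).1 (by rw [QuotientGroup.ker_mk', hc])),
    orderOf_pow' g (by norm_num), hg]
  rfl

end OrderSixtyFive

end H54
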