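import Cfsg.Agent.H54.ChevGroup
import Cfsg.Prelude.Def_ChevAutomorphisms

/-!
Diagram symmetries of D₄ and E₆ and their action on all root elements.
-/

set_option autoImplicit false

namespace H54

open Cfsg.Lie

/-- The facts about a simply laced table that are used. -/
structure SimplyLaced (D : ChevalleyDatum) : Prop where
  cartan_bonds : ∀ i j : Fin D.rank,
    D.cartan i (D.simple j) = if i = j then 2 else -(D.bonds i j)
  crt_simple : ∀ i j : Fin D.rank, H52.crt D (D.simple i) j = if i = j then 1 else 0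
  crt_inj : ((List.range D.nroots).map fun r =>
    (List.finRange D.rank).map fun i : Fin D.rank => H52.crt D r i).Nodup

theorem simplyLaced_D4 : SimplyLaced chevD4 :=
  ⟨by decide +kernel, by decide +kernel, by decide +kernel⟩

theorem simplyLaced_E6 : SimplyLaced chevE6 :=
  ⟨by decide +kernel, by decide +kernel, by decide +kernel⟩

variable {D : ChevalleyDatum} {T : H52.Tables} {F : Type*} [Field F]

/-- `s` is the image of `r` under the symmetry. -/
def IsImage (D : ChevalleyDatum) (π : Equiv.Perm (Fin D.rank)) (r s : ℕ) : Prop :=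
  s < D.nroots ∧ ∀ j : Fin D.rank, H52.crt D s (π j) = H52.crt D r j

theorem pairInt_image (hS : SimplyLaced D) {π : Equiv.Perm (Fin D.rank)}
    (hπ : D.IsDiagramSymmetry π) {r s : ℕ} (h : IsImage D π r s) (i : Fin D.rank) :
    H52.pairInt D s (D.simple (π i)) = H52.pairInt D r (D.simple i) := by
  have sum_eq : ∀ f : ℕ → ℤ, ((List.range D.rank).map f).sum = ∑ m : Fin D.rank, f m := fun f => by
    rw [← List.sum_toFinset _ List.nodup_range, List.toFinset_range, Finset.sum_range]
  simp only [H52.pairInt, sum_eq]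
  refine (Equiv.sum_comp π fun m : Fin D.rank =>
    H52.crt D s m * D.cartan m (D.simple (π i))).symm.trans ?_
  refine Finset.sum_congr rfl fun m _ => ?_
  rw [h.2 m, hS.cartan_bonds, hS.cartan_bonds]
  by_cases hm : m = i
  · simp [hm]
  · rw [if_neg (π.injective.ne hm), if_neg hm, hπ m i hm]

theorem permRoot_eq (hS : SimplyLaced D) {π : Equiv.Perm (Fin D.rank)} {r s : ℕ}
    (h : IsImage D π r s) : D.permRoot π r = s := by
  obtain ⟨hs, heq⟩ := h
  set p : ℕ → Bool := fun s' => (List.finRange D.rank).all fun i =>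
    (D.coroot.getD s' #[]).getD (π i).val 0 == (D.coroot.getD r #[]).getD i.val 0 with hp
  have hex : ((List.range D.nroots).find? p).isSome := by
    rw [List.find?_isSome]
    exact ⟨s, List.mem_range.2 hs, by
      simp only [hp, List.all_eq_true, beq_iff_eq]; exact fun i _ => heq i⟩
  obtain ⟨s₀, hs₀⟩ := Option.isSome_iff_exists.1 hex
  have hmem := List.mem_of_find?_eq_some hs₀
  have hprop := List.find?_some hs₀
  simp only [hp, List.all_eq_true, beq_iff_eq] at hprop
  have : s₀ = s := by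
    refine List.inj_on_of_nodup_map hS.crt_inj hmem (List.mem_range.2 hs) ?_
    refine List.map_congr_left fun j _ => ?_
    have := hprop (π.symm j) (List.mem_finRange _)
    have e := heq (π.symm j)
    rw [Equiv.apply_symm_apply] at this e
    exact this.trans e.symm
  unfold ChevalleyDatum.permRoot
  rw [show ((List.range D.nroots).find? _) = some s₀ from hs₀]
  exact this

theorem exists_image_elem (hC : H52.Checked D T) (hS : SimplyLaced D)
    {π : Equiv.Perm (Fin D.rank)} (hπ : D.IsDiagramSymmetry π)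
    (φ : ↥(D.group F) ≃* ↥(D.group F))
    (hφ : ∀ (g : ↥(D.group F)) (i : Fin D.rank) (t : F),
      (((g : GL D.Idx F) : Matrix D.Idx D.Idx F) = D.x F (D.simple i) t →
        ((φ g : GL D.Idx F) : Matrix D.Idx D.Idx F) = D.x F (D.simple (π i)) t) ∧
      (((g : GL D.Idx F) : Matrix D.Idx D.Idx F) = D.x F (D.neg (D.simple i)) t →
        ((φ g : GL D.Idx F) : Matrix D.Idx D.Idx F) = D.x F (D.neg (D.simple (π i))) t))
    {r : ℕ} (hr : r < D.nroots) :
    ∃ s, IsImage D π r s ∧ ∃ ε : F, (ε = 1 ∨ ε = -1) ∧ ∀ (g : ↥(D.group F)) (t : F),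
      (g : GL D.Idx F) = H52.rt D r t → (φ g : GL D.Idx F) = H52.rt D s (ε * t) := by
  have hgen : ∀ (i : Fin D.rank) (t : F) (g : ↥(D.group F)),
      ((g : GL D.Idx F) = H52.rt D (D.simple i) t →
        (φ g : GL D.Idx F) = H52.rt D (D.simple (π i)) t) ∧
      ((g : GL D.Idx F) = H52.rt D (D.neg (D.simple i)) t →
        (φ g : GL D.Idx F) = H52.rt D (D.neg (D.simple (π i))) t) := fun i t g =>
    ⟨fun h => hC.eq_rt ((hφ g i t).1 (by rw [h, hC.coe_rt])),
      fun h => hC.eq_rt ((hφ g i t).2 (by rw [h, hC.coe_rt]))⟩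
  refine root_rec hC (fun r => ∃ s, IsImage D π r s ∧ ∃ ε : F, (ε = 1 ∨ ε = -1) ∧
    ∀ (g : ↥(D.group F)) (t : F),
      (g : GL D.Idx F) = H52.rt D r t → (φ g : GL D.Idx F) = H52.rt D s (ε * t)) ?_ ?_ hr
  · intro i hi
    have base : IsImage D π (D.simple i) (D.simple (π ⟨i, hi⟩)) := by
      refine ⟨hC.simple_lt (π ⟨i, hi⟩).isLt, fun j => ?_⟩
      rw [hS.crt_simple, show D.simple i = D.simple (⟨i, hi⟩ : Fin D.rank) from rfl, hS.crt_simple]
      simp [π.injective.eq_iff]
    refine ⟨⟨_, base, 1, Or.inl rfl, fun g t h => ?_⟩, ⟨D.neg (D.simple (π ⟨i, hi⟩)), ?_, 1,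
      Or.inl rfl, fun g t h => ?_⟩⟩
    · rw [one_mul]; exact (hgen ⟨i, hi⟩ t g).1 h
    · refine ⟨hC.neg_lt base.1, fun j => ?_⟩
      rw [hC.crt_neg base.1 (π j).isLt, hC.crt_neg (hC.simple_lt hi) j.isLt, base.2 j]
    · rw [one_mul]; exact (hgen ⟨i, hi⟩ t g).2 h
  · rintro i hi r hr ⟨s, him, ε, hε, hg⟩
    set i' : Fin D.rank := π ⟨i, hi⟩
    refine ⟨D.reflectRoot i' s, ⟨hC.reflect_lt i'.isLt him.1, fun j => ?_⟩,
      (T.eps i' s : F) * ε * (T.eps i r : F), ?_, ?_⟩
    · rw [hC.crt_reflect i'.isLt him.1 (π j).isLt, hC.crt_reflect hi hr j.isLt, him.2 j,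
        pairInt_image hS hπ him ⟨i, hi⟩]
      simp [i', Fin.val_inj, π.injective.eq_iff, Fin.ext_iff]
    · rcases H52.Checked.eps_eq_or (T := T) i'.val s with a | a <;>
        rcases H52.Checked.eps_eq_or (T := T) i r with b | b <;>
          rcases hε with c | c <;> simp [a, b, c]
    · intro g t hgt
      let e1 : ↥(D.group F) := ⟨_, rt_mem_group hC (hC.simple_lt hi) 1⟩
      let e2 : ↥(D.group F) := ⟨_, rt_mem_group hC (hC.neg_lt (hC.simple_lt hi)) (-1)⟩
      let e0 : ↥(D.group F) := ⟨_, rt_mem_group hC hr ((T.eps i r : F) * t)⟩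
      have hn : (φ (e1 * e2 * e1) : GL D.Idx F) = sigGL D F i' := by
        simp only [map_mul, Subgroup.coe_mul, sigGL, i']
        rw [(hgen ⟨i, hi⟩ 1 e1).1 rfl, (hgen ⟨i, hi⟩ (-1) e2).2 rfl]
      have he : g = e1 * e2 * e1 * e0 * (e1 * e2 * e1)⁻¹ := by
        apply Subtype.ext
        simp only [Subgroup.coe_mul, InvMemClass.coe_inv, e1, e2, e0]
        rw [hgt, show H52.rt D (D.simple i) 1 * H52.rt D (D.neg (D.simple i)) (-1) *
            H52.rt D (D.simple i) (1 : F) = sigGL D F i from rfl, sigGL_conj hC hi hr,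
          ← mul_assoc, H52.Checked.eps_cast_mul_self, one_mul]
      rw [he, map_mul, map_mul, map_inv, Subgroup.coe_mul, Subgroup.coe_mul, InvMemClass.coe_inv,
        hn, hg e0 ((T.eps i r : F) * t) rfl, sigGL_conj hC i'.isLt him.1]
      congr 1
      ring

end H54
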