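import Cfsg.Agent.H54.ChevBaseChange
import Cfsg.Agent.H54.WeylLattice

/-!
Fusion in the torus: elements of `H` conjugate in the group are conjugate by a Weyl word, the same
word for all elements moved by the same conjugating element.
-/

set_option autoImplicit false
set_option linter.unusedSectionVars false

open Cfsg.Lie
open scoped MatrixGroups Matrix

namespace H54

namespace Ctx

variable {D : ChevalleyDatum} (C : Ctx D) {F : Type*} [Field F]

include C in
theorem diag_comm {a b : GL D.Idx F} (ha : a ∈ D.diagonalSubgroup F)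
    (hb : b ∈ D.diagonalSubgroup F) : a * b = b * a := by
  rw [C.hC.diagonalSubgroup_eq] at ha hb
  obtain ⟨c, rfl⟩ := ha
  obtain ⟨d, rfl⟩ := hb
  rw [← map_mul, ← map_mul, mul_comm]

include C in
theorem nw_conj_diag (L : List (Fin D.rank)) {h : GL D.Idx F} (hh : h ∈ D.diagonalSubgroup F) :
    nw D F L * h * (nw D F L)⁻¹ ∈ D.diagonalSubgroup F := by
  have hg := C.diag_le_group hh
  have hH : (⟨h, hg⟩ : ↥(D.group F)) ∈ (H53.grpSys C.W F).H :=
    (H53.mem_diag_iff C.hC C.W _).1 hh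
  rw [← C.coe_nwG]
  show ((C.nwG L * ⟨h, hg⟩ * (C.nwG L)⁻¹ : ↥(D.group F)) : GL D.Idx F) ∈ _
  rw [H53.mem_diag_iff C.hC C.W]
  refine H53.RootGroupSys.mem_H_of_acts_one C.axioms C.sep
    (mul_mem (mul_mem (C.nwG_mem_N L) (H53.RootGroupSys.H_le_N hH)) (inv_mem (C.nwG_mem_N L))) ?_
  have := H53.RootGroupSys.acts_mul (H53.RootGroupSys.acts_mul (C.nwG_acts (F := F) L)
    (H53.RootGroupSys.acts_H C.axioms hH)) (H53.RootGroupSys.acts_inv (C.nwG_acts (F := F) L))
  rwa [mul_one, mul_inv_cancel] at this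

include C in
theorem diag_conj_uinv {π : Equiv.Perm (Fin D.nroots)} {h v : GL D.Idx F}
    (hh : h ∈ D.diagonalSubgroup F) (hv : v ∈ uinv D F π) : h * v * h⁻¹ ∈ uinv D F π := by
  rw [C.hC.diagonalSubgroup_eq] at hh
  obtain ⟨c, rfl⟩ := hh
  have hle : (uinv D F π).map (MulAut.conj (H52.torus D c)).toMonoidHom ≤ uinv D F π := by
    rw [uinv, MonoidHom.map_closure, Subgroup.closure_le]
    rintro g ⟨_, ⟨r, t, h1, h2, rfl⟩, rfl⟩
    show H52.torus D c * H52.rt D r.val t * (H52.torus D c)⁻¹ ∈ _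
    rw [C.hC.torus_conj_rt c r.isLt]
    exact Subgroup.subset_closure ⟨r, _, h1, h2, rfl⟩
  exact hle ⟨v, hv, rfl⟩

include C in
/-- Conjugation inside the torus is given by one Weyl word. -/
theorem exists_fusion_word {c : GL D.Idx F} (hc : c ∈ D.group F) :
    ∃ L : List (Fin D.rank), ∀ y ∈ D.diagonalSubgroup F,
      c * y * c⁻¹ ∈ D.diagonalSubgroup F → nw D F L * y * (nw D F L)⁻¹ = c * y * c⁻¹ := by
  obtain ⟨u, hu, h, hh, L, v, hv, rfl⟩ := C.exists_nf hc
  refine ⟨L, fun y hy hy' => ?_⟩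
  generalize hz : u * h * nw D F L * v * y * (u * h * nw D F L * v)⁻¹ = z at hy'
  have hw := C.nw_conj_diag L hy
  have hv' : y⁻¹ * v * y ∈ uinv D F (C.wperm L) := by
    simpa using C.diag_conj_uinv (inv_mem hy) hv
  have hu' : z * u * z⁻¹ ∈ D.posUnipotent F := C.hC.diag_conj_pos hy' hu
  have he : u * (h * (nw D F L * y * (nw D F L)⁻¹)) * nw D F L * (y⁻¹ * v * y) =
      (z * u * z⁻¹) * (z * h) * nw D F L * v := by
    rw [mul_inv_eq_iff_eq_mul] at hz
    calc _ = u * h * nw D F L * v * y := by group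
      _ = z * (u * h * nw D F L * v) := hz
      _ = _ := by group
  obtain ⟨-, h2, -⟩ := (C.nf_unique hu hu' (mul_mem hh hw) (mul_mem hy' hh) hv' hv he).2 rfl
  rw [C.diag_comm hy' hh] at h2
  exact mul_left_cancel h2

/-- The sign of a conjugated root element does not depend on the parameter. -/
theorem nw_conj_rt_all (L : List (Fin D.rank)) (r : Fin D.nroots) :
    ∃ e : ℤ, (e = 1 ∨ e = -1) ∧ ∀ t : F,
      nw D F L * H52.rt D r.val t * (nw D F L)⁻¹ = H52.rt D (C.wperm L r).val ((e : F) * t) := by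
  induction L with
  | nil => exact ⟨1, Or.inl rfl, fun t => by simp [nw_nil, wperm_nil]⟩
  | cons i L ih =>
    obtain ⟨e, he, h⟩ := ih
    refine ⟨C.T.eps i.val (C.wperm L r).val * e, ?_, fun t => ?_⟩
    · rcases H52.Checked.eps_eq_or (T := C.T) i.val (C.wperm L r).val with h1 | h1 <;>
        rcases he with h2 | h2 <;> simp [h1, h2]
    · rw [nw_cons, show H53.nGL D (D.simple i.val) (1 : F) * nw D F L * H52.rt D r.val t *
          (H53.nGL D (D.simple i.val) (1 : F) * nw D F L)⁻¹ = H53.nGL D (D.simple i.val) (1 : F) *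
          (nw D F L * H52.rt D r.val t * (nw D F L)⁻¹) * (H53.nGL D (D.simple i.val) (1 : F))⁻¹ by
          group, h, mul_inv_eq_iff_eq_mul, wperm_cons, Equiv.Perm.mul_apply, C.sigma_val]
      apply Units.ext
      simp only [Units.val_mul, C.hC.coe_rt, H53.coe_nGL C.hC, Int.cast_mul, mul_assoc]
      exact C.hC.sig_mul_x i.isLt (C.wperm L r).isLt _

include C in
/-- The character values of a torus element raised to the `q`-th power by a word. -/
theorem torus_twist {c : Fin D.rank → Fˣ} {q : ℕ} {L : List (Fin D.rank)}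
    (h : nw D F L * H52.torus D c * (nw D F L)⁻¹ = H52.torus D c ^ q) (s : Fin D.nroots) :
    ∏ i : Fin D.rank, c i ^ D.cartan i.val s.val =
      (∏ i : Fin D.rank, c i ^ D.cartan i.val (C.wperm L s).val) ^ q := by
  obtain ⟨e, he, hall⟩ := C.nw_conj_rt_all (F := F) L s
  have h2 : nw D F L * (H52.torus D c * H52.rt D s.val 1 * (H52.torus D c)⁻¹) * (nw D F L)⁻¹ =
      H52.torus D (c ^ q) * H52.rt D (C.wperm L s).val ((e : F) * 1) * (H52.torus D (c ^ q))⁻¹ := by
    rw [map_pow, ← h, ← hall 1]; group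
  rw [C.hC.torus_conj_rt c s.isLt, mul_one, hall,
    C.hC.torus_conj_rt (c ^ q) (C.wperm L s).isLt] at h2
  have h5 := C.hC.rt_injective (C.wperm L s).isLt h2
  have hpow : (∏ i : Fin D.rank, (c ^ q) i ^ D.cartan i.val (C.wperm L s).val) =
      (∏ i : Fin D.rank, c i ^ D.cartan i.val (C.wperm L s).val) ^ q := by
    rw [← Finset.prod_pow]
    refine Finset.prod_congr rfl fun i _ => ?_
    rw [Pi.pow_apply, ← zpow_natCast, ← zpow_natCast, ← zpow_mul, ← zpow_mul, mul_comm]
  rw [hpow, mul_one, mul_comm _ (e : F)] at h5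
  have hene : (e : F) ≠ 0 := by rcases he with rfl | rfl <;> simp
  exact Units.ext (mul_left_cancel₀ hene h5)

end Ctx

end H54
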