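import Cfsg.Agent.H52.TwistPerfect

/-!
Two-generation of the twisted groups: a torus element times a long root element, and a short
root element times a Weyl representative.
-/

set_option autoImplicit false
set_option linter.unusedSectionVars false

namespace H54.Twist2

open Cfsg.Lie H52

variable {D D' : ChevalleyDatum} {Fl : Fold D D'} {T : Tables} {K : Type*} [Field K]
  (X : Twist Fl T K)

/-- The value of torus parameters at a root. -/
def chi (c : Fin D.rank → Kˣ) (r : Fin D.nroots) : Kˣ :=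
  ∏ i : Fin D.rank, c i ^ D.cartan i.val r.val

/-- The representative of a word in the class reflections. -/
noncomputable def wprod (Fl : Fold D D') (K : Type*) [Field K] (L : List (Fin D'.rank)) :
    GL D.Idx K :=
  (L.map (Twist.nOne Fl K)).prod

theorem wprod_flat (L : List (Fin D'.rank)) :
    wprod Fl K L =
      ((L.flatMap Fl.orb).map fun i => nElt D (Fl.sp i).val (1 : K)).prod := by
  induction L with
  | nil => rfl
  | cons J L ih =>
    rw [List.flatMap_cons, List.map_append, List.prod_append, ← ih]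
    rfl

include X

theorem chi_restr (J : Fin D'.rank) (c : Fin D.rank → Kˣ) (r : Fin D.nroots) :
    chi (Twist.restr Fl J c) r =
      ((Fl.orb J).map fun i => c i ^ D.cartan i.val r.val).prod := by
  classical
  rw [chi, ← List.prod_toFinset _ (X.fval.orb_nodup J), ← Finset.prod_subset
    (Finset.subset_univ (Fl.orb J).toFinset)
    (fun i _ hi => by rw [Twist.restr, if_neg (by simpa using hi), one_zpow])]
  refine Finset.prod_congr rfl fun i hi => ?_
  rw [Twist.restr, if_pos (by simpa using hi)]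

theorem wprod_mem_grp (L : List (Fin D'.rank)) : wprod Fl K L ∈ X.grp := by
  rw [wprod_flat]; exact X.nOne_list L

theorem equi_unique {J : Fin D'.rank} {j₀ : Fin D.rank} (hj₀ : j₀ ∈ Fl.orb J)
    {t u : Fin D.rank → K} (ht : X.Equi J t) (hu : X.Equi J u) (h : t j₀ = u j₀) :
    ∀ j ∈ Fl.orb J, t j = u j := by
  intro j hj
  by_contra hne
  have hs : X.Equi J (t - u) := fun i hi => by
    simp only [Pi.sub_apply, ht i hi, hu i hi, map_sub]
  exact X.equi_ne_zero hs hj (sub_ne_zero.2 hne) j₀ hj₀ (sub_eq_zero.2 h)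

theorem equi_chi {c : Fin D.rank → Kˣ} (hc : c ∈ X.cFix) (J : Fin D'.rank)
    {t : Fin D.rank → K} (ht : X.Equi J t) :
    X.Equi J fun i => (chi c (Fl.sp i) : K) * t i := by
  intro j hj
  show (chi c (Fl.sp (Fl.τi j)) : K) * t (Fl.τi j) = _
  rw [show Fl.sp (Fl.τi j) = Fl.τ (Fl.sp j) from ((X.fval.tau_simple j).1).symm]
  simp only [chi, ht j hj, map_mul]
  rw [X.char_equi hc]

/-- An orbit group is full once it is nontrivial and stable under a large torus. -/
theorem full_of_scale [Fintype K] {J : Fin D'.rank} {j₀ : Fin D.rank} (hj₀ : j₀ ∈ Fl.orb J)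
    {H : Subgroup (GL D.Idx K)} {c : Fin D.rank → Kˣ} (hc : c ∈ X.cFix) (hH : torus D c ∈ H)
    (hord : Fintype.card K < 2 * (orderOf (chi c (Fl.sp j₀)) + 1))
    {t₀ : Fin D.rank → K} (ht₀ : X.Equi J t₀) (hne : t₀ j₀ ≠ 0)
    (hm : Twist.xp Fl Fl.sp J t₀ ∈ H) : X.E (Fl.ap J) ≤ H := by
  classical
  have hA : ∀ {t u : Fin D.rank → K}, X.Equi J t → X.Equi J u → t j₀ = u j₀ →
      Twist.xp Fl Fl.sp J t ∈ H → Twist.xp Fl Fl.sp J u ∈ H := fun ht hu h hm =>
    X.xp_congr (equi_unique X hj₀ ht hu h) ▸ hm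
  let A : AddSubgroup K :=
    { carrier := {a | ∃ t, X.Equi J t ∧ t j₀ = a ∧ Twist.xp Fl Fl.sp J t ∈ H}
      zero_mem' := ⟨0, fun j _ => by simp, rfl, by rw [X.xp_zero]; exact one_mem H⟩
      add_mem' := by
        rintro a b ⟨t, ht, rfl, htm⟩ ⟨u, hu, rfl, hum⟩
        exact ⟨t + u, fun j hj => by simp [ht j hj, hu j hj], rfl,
          by rw [← X.xp_mul _ Twist.rt_mem_pairGrp_p]; exact mul_mem htm hum⟩
      neg_mem' := by
        rintro a ⟨t, ht, rfl, htm⟩
        refine ⟨-t, fun j hj => by simp [ht j hj], rfl, ?_⟩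
        have e := X.xp_mul Fl.sp (Twist.rt_mem_pairGrp_p (Fl := Fl) (K := K)) J (-t) t
        rw [neg_add_cancel, X.xp_zero] at e
        rw [eq_inv_of_mul_eq_one_left e]
        exact inv_mem htm }
  set g : Kˣ := chi c (Fl.sp j₀)
  have hstep : ∀ a ∈ A, (g : K) * a ∈ A := by
    rintro a ⟨t, ht, rfl, htm⟩
    refine ⟨_, equi_chi X hc J ht, rfl, ?_⟩
    have := mul_mem (mul_mem hH htm) (inv_mem hH)
    rwa [X.torus_conj_xp] at this
  let R : AddSubgroup K :=
    { carrier := {r | ∀ a ∈ A, r * a ∈ A}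
      zero_mem' := fun a _ => by rw [zero_mul]; exact A.zero_mem
      add_mem' := fun hr hs a ha => by rw [add_mul]; exact A.add_mem (hr a ha) (hs a ha)
      neg_mem' := fun hr a ha => by rw [neg_mul]; exact A.neg_mem (hr a ha) }
  have hpow : ∀ n : ℕ, (g : K) ^ n ∈ R := by
    intro n
    induction n with
    | zero => intro a ha; rwa [pow_zero, one_mul]
    | succ n ih => intro a ha; rw [pow_succ', mul_assoc]; exact hstep _ (ih a ha)
  let F : Option (Fin (orderOf g)) → R := fun o =>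
    o.elim 0 fun n => ⟨(g : K) ^ n.val, hpow n.val⟩
  have hF : Function.Injective F := by
    have hnz : ∀ n : ℕ, (g : K) ^ n ≠ 0 := fun n => pow_ne_zero _ g.ne_zero
    intro o o' h
    have h' := congrArg Subtype.val h
    rcases o with _ | n <;> rcases o' with _ | n'
    · rfl
    · exact absurd h'.symm (hnz _)
    · exact absurd h' (hnz _)
    · refine congrArg some (Fin.ext (pow_injOn_Iio_orderOf n.isLt n'.isLt (Units.ext ?_)))
      simpa [F] using h'
  have hle := Nat.card_le_card_of_injective F hF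
  rw [Nat.card_eq_fintype_card, Fintype.card_option, Fintype.card_fin] at hle
  have hR : R = ⊤ := by
    apply AddSubgroup.eq_top_of_card_eq
    rw [Nat.card_eq_fintype_card (α := K)]
    obtain ⟨m, hm⟩ := R.card_addSubgroup_dvd_card
    rw [Nat.card_eq_fintype_card (α := K)] at hm
    rcases Nat.lt_or_ge m 2 with hlt | hge
    · interval_cases m
      · exact absurd hm (by simp [Fintype.card_ne_zero])
      · omega
    · have := Nat.mul_le_mul_left (Nat.card R) hge
      omega
  have hall : ∀ a : K, a ∈ A := fun a => by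
    have h : a / t₀ j₀ ∈ R := hR ▸ AddSubgroup.mem_top _
    have h' := h _ ⟨t₀, ht₀, rfl, hm⟩
    rwa [div_mul_cancel₀ _ hne] at h'
  intro x hx
  obtain ⟨t, ht, rfl⟩ := X.mem_E_ap.1 hx
  obtain ⟨u, hu, he, hum⟩ := hall (t j₀)
  exact hA hu ht he hum

/-! ### Moves between the classes. -/

/-- The subgroup meets the group of a class. -/
def Hit (H : Subgroup (GL D.Idx K)) (S : Fin D'.nroots) : Prop :=
  ∃ g ∈ H, g ∈ X.E S ∧ g ≠ 1

omit X in
theorem flatten_mem {H : Subgroup (GL D.Idx K)} {ws : List (List (Fin D'.rank))}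
    (h : ∀ L ∈ ws, wprod Fl K L ∈ H) : wprod Fl K ws.flatten ∈ H := by
  rw [wprod, List.map_flatten, List.prod_flatten]
  refine list_prod_mem fun g hg => ?_
  simp only [List.map_map, List.mem_map] at hg
  obtain ⟨L, hL, rfl⟩ := hg
  exact h L hL

theorem E_conj_word (L : List (Fin D'.rank)) {S : Fin D'.nroots} {g : GL D.Idx K}
    (hg : g ∈ X.E S) :
    wprod Fl K L * g * (wprod Fl K L)⁻¹ ∈ X.E (L.foldr Fl.W'.data.act S) := by
  induction L with
  | nil => simpa [wprod] using hg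
  | cons J L ih =>
    have h := X.E_conj_nOne (J := J) ih
    have e : wprod Fl K (J :: L) = Twist.nOne Fl K J * wprod Fl K L := rfl
    rw [e, List.foldr_cons]
    simpa [mul_assoc] using h

theorem E_conj_word_inv (L : List (Fin D'.rank)) {S : Fin D'.nroots} {g : GL D.Idx K}
    (hg : g ∈ X.E (L.foldr Fl.W'.data.act S)) :
    (wprod Fl K L)⁻¹ * g * wprod Fl K L ∈ X.E S := by
  induction L generalizing g with
  | nil => simpa [wprod] using hg
  | cons J L ih =>
    have h1 := X.E_conj_nOne_inv (J := J) hg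
    rw [List.foldr_cons, Fl.W'.valid.act_invol] at h1
    have e : wprod Fl K (J :: L) = Twist.nOne Fl K J * wprod Fl K L := rfl
    rw [e]
    simpa [mul_assoc] using ih h1

theorem full_move {H : Subgroup (GL D.Idx K)} (ws : List (List (Fin D'.rank)))
    (h : ∀ L ∈ ws, wprod Fl K L ∈ H) {S S' : Fin D'.nroots}
    (he : ws.flatten.foldr Fl.W'.data.act S = S') (hS : X.E S ≤ H) : X.E S' ≤ H := by
  intro g hg
  have hn := flatten_mem h
  have := mul_mem (mul_mem hn (hS (E_conj_word_inv X ws.flatten (he.symm ▸ hg)))) (inv_mem hn)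
  simpa [mul_assoc] using this

theorem hit_move {H : Subgroup (GL D.Idx K)} (ws : List (List (Fin D'.rank)))
    (h : ∀ L ∈ ws, wprod Fl K L ∈ H) {S S' : Fin D'.nroots}
    (he : ws.flatten.foldr Fl.W'.data.act S = S') (hS : Hit X H S) : Hit X H S' := by
  obtain ⟨g, hgH, hgE, hg1⟩ := hS
  have hn := flatten_mem h
  exact ⟨_, mul_mem (mul_mem hn hgH) (inv_mem hn), he ▸ E_conj_word X _ hgE,
    fun e => hg1 (conj_eq_one_iff.1 e)⟩

theorem wprod_single {H : Subgroup (GL D.Idx K)} {J : Fin D'.rank} (hp : X.E (Fl.ap J) ≤ H)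
    (hn : X.E (Fl.an J) ≤ H) : wprod Fl K [J] ∈ H := by
  simp only [wprod, List.map_cons, List.map_nil, List.prod_cons, List.prod_nil, mul_one,
    Twist.nOne]
  rw [X.nJ_eq]
  exact mul_mem (mul_mem (hp (X.xp_p_mem (X.equi_one J)))
    (hn (X.xp_n_mem (X.equi_neg_inv (X.equi_one J))))) (hp (X.xp_p_mem (X.equi_one J)))

theorem grp_le {H : Subgroup (GL D.Idx K)}
    (h : ∀ J, X.E (Fl.ap J) ≤ H ∧ X.E (Fl.an J) ≤ H) : X.grp ≤ H :=
  (Subgroup.closure_le _).2 fun _ ⟨J, hg⟩ => hg.elim (fun hg => (h J).1 hg) fun hg => (h J).2 hg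

/-- A class of one fixed root is full once it is met and scaled by all fixed units. -/
theorem full_of_hit {H : Subgroup (GL D.Idx K)} {r : Fin D.nroots}
    (huniq : ∀ r', Fl.cls r' = Fl.cls r → r' = r) (hτ : Fl.τ r = r) (hη : Fl.η r = 1)
    {c : Fin D.rank → Kˣ} (hH : torus D c ∈ H)
    (hgen : ∀ u : Kˣ, X.f (u : K) = u → u ∈ Subgroup.zpowers (chi c r))
    (hS : Hit X H (Fl.cls r)) : X.E (Fl.cls r) ≤ H := by
  have hform : ∀ g ∈ X.E (Fl.cls r), ∃ t : K, X.f t = t ∧ g = rt D r.val t := by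
    intro g hg
    obtain ⟨t, rfl⟩ : ∃ t : K, g = rt D r.val t := by
      have hgP := hg.1
      clear hg
      induction hgP using Subgroup.closure_induction with
      | mem z hz =>
        obtain ⟨r', t, ⟨hr', hcls⟩, rfl⟩ := hz
        exact ⟨t, by rw [← huniq _ hcls]⟩
      | one => exact ⟨0, (X.chk.rt_zero _).symm⟩
      | mul y z _ _ hy hz =>
        obtain ⟨t, rfl⟩ := hy
        obtain ⟨u, rfl⟩ := hz
        exact ⟨t + u, X.chk.rt_mul _ _ _⟩
      | inv y _ hy =>
        obtain ⟨t, rfl⟩ := hy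
        exact ⟨-t, inv_eq_of_mul_eq_one_right
          (by rw [X.chk.rt_mul, add_neg_cancel, X.chk.rt_zero])⟩
    refine ⟨t, ?_, rfl⟩
    have h : X.φ (rt D r.val t) = rt D r.val t := hg.2
    rw [X.φ_rt, hτ, hη, Int.cast_one, one_mul] at h
    exact X.chk.rt_injective r.isLt h
  obtain ⟨g, hgH, hgE, hg1⟩ := hS
  obtain ⟨ε, hε, rfl⟩ := hform g hgE
  have hε0 : ε ≠ 0 := fun h => hg1 (by rw [h, X.chk.rt_zero])
  intro g hg
  obtain ⟨t, ht, rfl⟩ := hform g hg
  by_cases h0 : t = 0
  · rw [h0, X.chk.rt_zero]; exact one_mem H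
  obtain ⟨k, hk⟩ := Subgroup.mem_zpowers_iff.1
    (hgen (Units.mk0 (t / ε) (div_ne_zero h0 hε0)) (by simp [ht, hε]))
  have h1 := mul_mem (mul_mem (zpow_mem hH k) hgH) (inv_mem (zpow_mem hH k))
  rw [← map_zpow, X.chk.torus_conj_rt _ r.isLt] at h1
  have e : ∏ i : Fin D.rank, (c ^ k) i ^ D.cartan i.val r.val = chi c r ^ k := by
    rw [chi, ← Finset.prod_zpow]
    exact Finset.prod_congr rfl fun i _ => by
      rw [Pi.pow_apply, ← zpow_mul, ← zpow_mul, mul_comm]
  rw [e, hk, Units.val_mk0, div_mul_cancel₀ _ hε0] at h1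
  exact h1

/-- The first stage: the group of two elements contains a full short orbit group, the Weyl
representative, the long root element and the torus element. -/
theorem exists_pair [Fintype K] {J : Fin D'.rank} {j₀ : Fin D.rank} (hj₀ : j₀ ∈ Fl.orb J)
    {c : Fin D.rank → Kˣ} (hc : c ∈ X.cFix)
    (hord : Fintype.card K < 2 * (orderOf (chi c (Fl.sp j₀)) + 1))
    (hne : chi c (Fl.sp j₀) ≠ 1)
    {θ : Fin D.nroots} (hτ : Fl.τ θ = θ) (hη : Fl.η θ = 1) (hθ : chi c θ = 1)
    (L : List (Fin D'.rank)) {r : Fin D.nroots}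
    (hr : (L.flatMap Fl.orb).foldr Fl.W.data.act r = Fl.sp j₀) (hrc : chi c r ≠ 1) :
    ∃ a ∈ X.grp, ∃ b ∈ X.grp, ∀ H : Subgroup (GL D.Idx K), a ∈ H → b ∈ H →
      X.E (Fl.ap J) ≤ H ∧ wprod Fl K L ∈ H ∧ torus D c ∈ H ∧ Hit X H (Fl.cls θ) := by
  set x := rt D θ.val (1 : K) with hx
  set h := torus D c with hh
  set y := Twist.xp Fl Fl.sp J (fun _ => (1 : K)) with hy
  set n := wprod Fl K L with hn
  have hhT : h ∈ X.torusT := X.torus_mem_torusT hc
  have hxg : x ∈ X.grp := X.rt_fixed hτ hη (map_one X.f)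
  have hhg : h ∈ X.grp := X.torusT_le_grp hhT
  refine ⟨x * h, mul_mem hxg hhg, y * n,
    mul_mem (X.E_le_grp_p J (X.xp_p_mem (X.equi_one J))) (wprod_mem_grp X L), fun H ha hb => ?_⟩
  have hcomm : Commute x h := by
    have e := X.chk.torus_conj_rt c θ.isLt (1 : K)
    rw [show ∏ i : Fin D.rank, c i ^ D.cartan i.val θ.val = chi c θ from rfl, hθ, Units.val_one,
      one_mul] at e
    exact (mul_inv_eq_iff_eq_mul.1 e).symm
  have hcard : 1 ≤ Fintype.card K := Fintype.card_pos
  have hpow : (x * h) ^ (Fintype.card K - 1) = rt D θ.val (-1 : K) := by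
    have hxp : ∀ m : ℕ, x ^ m = rt D θ.val (m : K) := by
      intro m
      induction m with
      | zero => rw [pow_zero, Nat.cast_zero, X.chk.rt_zero]
      | succ m ih => rw [pow_succ, ih, hx, X.chk.rt_mul, Nat.cast_succ]
    have hc1 : c ^ (Fintype.card K - 1) = 1 := funext fun i => by
      rw [Pi.pow_apply, Pi.one_apply]
      exact Units.ext (by
        rw [Units.val_pow_eq_pow_val, FiniteField.pow_card_sub_one_eq_one _ (c i).ne_zero,
          Units.val_one])
    rw [hcomm.mul_pow, hxp, hh, ← map_pow, hc1, map_one, mul_one, Nat.cast_sub hcard,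
      FiniteField.cast_card_eq_zero, Nat.cast_one, zero_sub]
  have hxH : x ∈ H := by
    have := inv_mem (pow_mem ha (Fintype.card K - 1))
    rw [hpow] at this
    rwa [show (rt D θ.val (-1 : K))⁻¹ = x from inv_eq_of_mul_eq_one_right
      (by rw [hx, X.chk.rt_mul, neg_add_cancel, X.chk.rt_zero])] at this
  have hhH : h ∈ H := by
    have := mul_mem (inv_mem hxH) ha
    rwa [inv_mul_cancel_left] at this
  -- the conjugate of the torus element by the Weyl representative
  have hnT : n * h * n⁻¹ ∈ X.torusT := by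
    rw [hn]
    clear hrc hr hb hn n
    induction L with
    | nil => simpa [wprod] using hhT
    | cons J' L ih =>
      rw [show wprod Fl K (J' :: L) = Twist.nOne Fl K J' * wprod Fl K L from rfl]
      simpa [mul_assoc] using X.torusT_conj_nOne J' ih
  obtain ⟨c', hc', hn'⟩ := hnT
  have hchi : chi c' (Fl.sp j₀) = chi c r := by
    obtain ⟨δ, hδ⟩ := X.word_conj_linear (L.flatMap Fl.orb) r
    rw [← wprod_flat, ← hn, hr] at hδ
    have hδ0 : δ ≠ 0 := by
      intro h0
      have e := hδ 1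
      rw [h0, zero_mul, X.chk.rt_zero, conj_eq_one_iff, ← X.chk.rt_zero r.val] at e
      exact one_ne_zero (X.chk.rt_injective r.isLt e)
    have e1 := X.chk.torus_conj_rt c' (Fl.sp j₀).isLt (δ * 1)
    rw [hn', show n * h * n⁻¹ * rt D (Fl.sp j₀).val (δ * 1) * (n * h * n⁻¹)⁻¹ =
      n * (h * rt D r.val 1 * h⁻¹) * n⁻¹ by rw [← hδ 1]; group, hh,
      X.chk.torus_conj_rt c r.isLt, hδ, mul_one, mul_one] at e1
    have e2 := X.chk.rt_injective (Fl.sp j₀).isLt e1
    rw [mul_comm δ] at e2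
    exact Units.ext (mul_right_cancel₀ hδ0 e2).symm
  set u : Fin D.rank → K := fun i => 1 - (chi c' (Fl.sp i) : K) with hu
  have hue : X.Equi J u := fun j hj => by
    have := equi_chi X hc' J (X.equi_one J) j hj
    simp only [mul_one] at this
    simp [hu, this]
  have hz : y * (n * h * n⁻¹) * y⁻¹ = Twist.xp Fl Fl.sp J u * torus D c' := by
    have hyinv : y⁻¹ = Twist.xp Fl Fl.sp J (fun _ => (-1 : K)) :=
      inv_eq_of_mul_eq_one_right (by
        rw [hy, X.xp_mul _ Twist.rt_mem_pairGrp_p]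
        refine Eq.trans (X.xp_congr (u := 0) fun _ _ => ?_) (X.xp_zero _ _)
        simp)
    rw [← hn', hyinv, mul_assoc y, ← inv_mul_cancel_right (torus D c' * _) (torus D c'),
      X.torus_conj_xp, ← mul_assoc, hy, X.xp_mul _ Twist.rt_mem_pairGrp_p]
    refine congrArg (· * _) (X.xp_congr fun i _ => ?_)
    simp [hu, chi, sub_eq_add_neg]
  have hzH : Twist.xp Fl Fl.sp J u * torus D c' ∈ H := by
    rw [← hz]
    have := mul_mem (mul_mem hb hhH) (inv_mem hb)
    simpa [mul_assoc] using this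
  set v : Fin D.rank → K := fun i => ((chi c (Fl.sp i) : K) - 1) * u i with hv
  have hve : X.Equi J v := fun j hj => by
    have := equi_chi X hc J (X.equi_one J) j hj
    simp only [mul_one] at this
    simp [hv, this, hue j hj]
  have hvH : Twist.xp Fl Fl.sp J v ∈ H := by
    have h1 := mul_mem (mul_mem (mul_mem hhH hzH) (inv_mem hhH)) (inv_mem hzH)
    rw [show h * (Twist.xp Fl Fl.sp J u * torus D c') * h⁻¹ =
      (h * Twist.xp Fl Fl.sp J u * h⁻¹) * (h * torus D c' * h⁻¹) by group, hh, ← map_inv,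
      ← map_mul, ← map_mul, mul_right_comm c c', mul_inv_cancel, one_mul, map_inv,
      X.torus_conj_xp, mul_inv_rev, mul_assoc, mul_inv_cancel_left] at h1
    have hinv : (Twist.xp Fl Fl.sp J u)⁻¹ = Twist.xp Fl Fl.sp J (-u) :=
      inv_eq_of_mul_eq_one_right (by
        rw [X.xp_mul _ Twist.rt_mem_pairGrp_p, add_neg_cancel, X.xp_zero])
    rw [hinv, X.xp_mul _ Twist.rt_mem_pairGrp_p] at h1
    convert h1 using 2
    funext i
    simp [hv, chi]
    ring
  have hfull : X.E (Fl.ap J) ≤ H := by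
    refine full_of_scale X hj₀ hc hhH hord hve ?_ hvH
    have h1 : (chi c (Fl.sp j₀) : K) - 1 ≠ 0 := fun e => hne (Units.ext (sub_eq_zero.1 e))
    have h2 : 1 - (chi c' (Fl.sp j₀) : K) ≠ 0 := fun e =>
      hrc (hchi ▸ Units.ext (sub_eq_zero.1 e).symm)
    exact mul_ne_zero h1 h2
  refine ⟨hfull, ?_, hhH, x, hxH, ?_, ?_⟩
  · have hyH : y ∈ H := hfull (X.xp_p_mem (X.equi_one J))
    have := mul_mem (inv_mem hyH) hb
    rwa [inv_mul_cancel_left] at this
  · refine Subgroup.mem_inf.2 ⟨Twist.mem_P rfl 1, ?_⟩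
    exact X.grp_le_fixed hxg
  · intro e
    exact one_ne_zero (X.chk.rt_injective θ.isLt (e.trans (X.chk.rt_zero θ.val).symm))

omit X in
/-- Two elements of a subgroup generating it, as elements of the subgroup. -/
theorem closure_pair_top {G : Type*} [Group G] {S : Subgroup G} {a b : G} (ha : a ∈ S)
    (hb : b ∈ S) (h : ∀ H : Subgroup G, a ∈ H → b ∈ H → S ≤ H) :
    ∃ a' b' : ↥S, Subgroup.closure ({a', b'} : Set ↥S) = ⊤ := by
  refine ⟨⟨a, ha⟩, ⟨b, hb⟩, Subgroup.map_injective S.subtype_injective ?_⟩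
  refine le_antisymm (Subgroup.map_mono le_top) ?_
  rw [← MonoidHom.range_eq_map, Subgroup.range_subtype]
  exact h _ ⟨⟨a, ha⟩, Subgroup.subset_closure (by simp), rfl⟩
    ⟨⟨b, hb⟩, Subgroup.subset_closure (by simp), rfl⟩

end H54.Twist2

namespace H54.Twist2

/-- The fixed units are the powers of the norm of a generator. -/
theorem fixed_mem_zpowers {K : Type*} [Field K] [Fintype K] {ξ : Kˣ}
    (hξ : ∀ u : Kˣ, u ∈ Subgroup.zpowers ξ) {q M : ℕ} (hq : 2 ≤ q)
    (hN : Fintype.card K - 1 = M * (q - 1)) {u : Kˣ} (hu : (u : K) ^ q = u) :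
    u ∈ Subgroup.zpowers (ξ ^ M) := by
  have hord : orderOf ξ = M * (q - 1) := by
    rw [orderOf_eq_card_of_forall_mem_zpowers hξ, Nat.card_units, Nat.card_eq_fintype_card, hN]
  obtain ⟨k, rfl⟩ := (IsOfFinOrder.mem_powers_iff_mem_zpowers (isOfFinOrder_of_finite ξ)).2 (hξ u)
  have h1 : (ξ ^ k) ^ (q - 1) = 1 := by
    have h : (ξ ^ k) ^ q = ξ ^ k := Units.ext (by rw [Units.val_pow_eq_pow_val, hu])
    rw [show q = (q - 1) + 1 by omega, pow_succ] at h
    exact mul_eq_right.1 h
  rw [← pow_mul] at h1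
  have hd := orderOf_dvd_of_pow_eq_one h1
  rw [hord] at hd
  obtain ⟨m, rfl⟩ := Nat.dvd_of_mul_dvd_mul_right (by omega) hd
  exact ⟨m, by simp [pow_mul]⟩

/-- The square of a generator of the units has large order. -/
theorem sq_order {K : Type*} [Field K] [Fintype K] {ξ : Kˣ}
    (hξ : ∀ u : Kˣ, u ∈ Subgroup.zpowers ξ) (h4 : 4 ≤ Fintype.card K) :
    Fintype.card K < 2 * (orderOf (ξ ^ 2) + 1) ∧ ξ ^ 2 ≠ 1 := by
  have hord : orderOf ξ = Fintype.card K - 1 := by
    rw [orderOf_eq_card_of_forall_mem_zpowers hξ, Nat.card_units, Nat.card_eq_fintype_card]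
  have hd : orderOf ξ ∣ 2 * orderOf (ξ ^ 2) :=
    orderOf_dvd_of_pow_eq_one (by rw [pow_mul, pow_orderOf_eq_one])
  have hpos : 0 < orderOf (ξ ^ 2) := orderOf_pos _
  have := Nat.le_of_dvd (by omega) hd
  refine ⟨by omega, fun h => ?_⟩
  have := Nat.le_of_dvd (by norm_num) (orderOf_dvd_of_pow_eq_one h)
  omega

end H54.Twist2
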