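import Cfsg.Agent.H54.TwistTwoGen
import Cfsg.Agent.H52.TwistD4

/-!
`³D₄(q)` is generated by two elements.
-/

set_option autoImplicit false
set_option linter.unusedSectionVars false

namespace H54.Twist2

open Cfsg.Lie H52

theorem d4_twoGen_data :
    let fl := d4Fold
    fl.τ ⟨23, by decide⟩ = ⟨23, by decide⟩ ∧ fl.η ⟨23, by decide⟩ = 1 ∧
    fl.τ ⟨9, by decide⟩ = ⟨9, by decide⟩ ∧ fl.η ⟨9, by decide⟩ = 1 ∧
    (∀ r, fl.cls r = fl.cls ⟨9, by decide⟩ → r = ⟨9, by decide⟩) ∧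
    [d4I0, d4I2, d4I3].map (fun i => chevD4.cartan i.val 23) = [0, 0, 0] ∧
    [d4I0, d4I2, d4I3].map (fun i => chevD4.cartan i.val 9) = [1, 1, 1] ∧
    [d4I0, d4I2, d4I3].map (fun i => chevD4.cartan i.val (fl.sp d4I0).val) = [2, 0, 0] ∧
    [d4I0, d4I2, d4I3].map (fun i => chevD4.cartan i.val
      (([g2J0, g2J1].flatMap fl.orb).reverse.foldr fl.W.data.act (fl.sp d4I0)).val) = [-1, 1, 1] ∧
    ([g2J0, g2J1].flatMap fl.orb).foldr fl.W.data.act
      (([g2J0, g2J1].flatMap fl.orb).reverse.foldr fl.W.data.act (fl.sp d4I0)) = fl.sp d4I0 := by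
  decide +kernel

theorem d4_twoGen_paths :
    let fl := d4Fold
    let L := [g2J0, g2J1]
    ([L, L, L].flatten.foldr fl.W'.data.act (fl.ap g2J0) = fl.an g2J0) ∧
    ([[g2J0], L, L].flatten.foldr fl.W'.data.act (fl.cls ⟨23, by decide⟩) =
      fl.cls ⟨9, by decide⟩) ∧
    (fl.cls ⟨9, by decide⟩ = fl.an g2J1) ∧
    ([[g2J0], L].flatten.foldr fl.W'.data.act (fl.an g2J1) = fl.ap g2J1) := by
  decide +kernel

variable {K : Type*} [Field K] [Fintype K] {q : ℕ}

theorem d4_two_generated (hq : IsPrimePow q) (hK : Fintype.card K = q ^ 3) :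
    ∃ a b : ↥(twistedD4 K q), Subgroup.closure ({a, b} : Set ↥(twistedD4 K q)) = ⊤ := by
  classical
  obtain ⟨T, X, hf⟩ := exists_twistD4 hq hK
  rw [← twistD4_grp X hf hK]
  obtain ⟨ξ, hξ⟩ := IsCyclic.exists_generator (α := Kˣ)
  have hq2 : 2 ≤ q := hq.two_le
  have hq3 : q * q ≤ q ^ 3 ∧ 2 * (q * q) ≤ q ^ 3 :=
    ⟨by nlinarith [Nat.mul_le_mul_right (q * q) hq2], by nlinarith [Nat.mul_le_mul_right (q * q) hq2]⟩
  obtain ⟨m, hm⟩ : ∃ m, q = m + 2 := ⟨q - 2, by omega⟩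
  have h4 : 4 ≤ q * q := Nat.mul_le_mul hq2 hq2
  have hord : orderOf ξ = Fintype.card K - 1 := by
    rw [orderOf_eq_card_of_forall_mem_zpowers hξ, Nat.card_units, Nat.card_eq_fintype_card]
  have hff : ((ξ ^ q) ^ q) ^ q = ξ :=
    Units.ext (by push_cast; exact d4_f3 X hf hK (ξ : K))
  set c : Fin chevD4.rank → Kˣ :=
    Twist.restr d4Fold g2J0 (d4Fun ξ 1 (ξ ^ q) ((ξ ^ q) ^ q)) with hc0
  have hc : c ∈ X.cFix := X.restr_mem_cFix g2J0 fun i hi => by
    rw [d4Fold_orb0] at hi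
    obtain ⟨t0, -, t2, t3⟩ := d4Fold_τi
    simp only [List.mem_cons, List.not_mem_nil, or_false] at hi
    rw [hf, ← Units.val_pow_eq_pow_val]
    refine congrArg Units.val ?_
    rcases hi with rfl | rfl | rfl
    · rw [t0]; rfl
    · rw [t2]; rfl
    · rw [t3]; exact hff.symm
  have hchi : ∀ r : Fin chevD4.nroots, ∀ a b d : ℤ,
      [d4I0, d4I2, d4I3].map (fun i => chevD4.cartan i.val r.val) = [a, b, d] →
      chi c r = ξ ^ a * (ξ ^ q) ^ b * ((ξ ^ q) ^ q) ^ d := by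
    intro r a b d h
    simp only [List.map_cons, List.map_nil, List.cons.injEq, and_true] at h
    rw [hc0, chi_restr X, d4Fold_orb0]
    simp only [List.map_cons, List.map_nil, List.prod_cons, List.prod_nil, mul_one]
    rw [h.1, h.2.1, h.2.2, mul_assoc]
    rfl
  obtain ⟨hτ, hη, hτ', hη', huniq, k0, k1, k2, k3, hback⟩ := d4_twoGen_data
  have hs : chi c (d4Fold.sp d4I0) = ξ ^ 2 := by
    rw [hchi _ _ _ _ k2]; simp [sq]
  have hsq := sq_order hξ (by omega)
  obtain ⟨a, ha, b, hb, H0⟩ := exists_pair X (J := g2J0) (j₀ := d4I0)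
    (by rw [d4Fold_orb0]; simp) hc (hs ▸ hsq.1) (hs ▸ hsq.2)
    (θ := ⟨23, by decide⟩) hτ hη (by rw [hchi _ _ _ _ k0]; simp) [g2J0, g2J1] hback (by
      rw [hchi _ _ _ _ k3]
      simp only [zpow_neg, zpow_one]
      intro h
      have h1 : ξ ^ (q + q * q) = ξ := by
        rw [pow_add, pow_mul]
        rw [mul_assoc, inv_mul_eq_one] at h
        exact h.symm
      have h2 : ξ ^ (q + q * q - 1) = 1 := by
        rw [show q + q * q = (q + q * q - 1) + 1 by omega, pow_succ] at h1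
        exact mul_eq_right.1 h1
      have := Nat.le_of_dvd (by omega) (orderOf_dvd_of_pow_eq_one h2)
      rw [hord, hK] at this
      have : q + q * q < 2 * (q * q) := by nlinarith
      omega)
  refine closure_pair_top ha hb fun H haH hbH => ?_
  obtain ⟨hp0, hL, hh, hθ⟩ := H0 H haH hbH
  obtain ⟨e0, e1, e2, e3⟩ := d4_twoGen_paths
  have hn0 : X.E (d4Fold.an g2J0) ≤ H := full_move X _ (by simp [hL]) e0 hp0
  have hJ0 : wprod d4Fold K [g2J0] ∈ H := wprod_single X hp0 hn0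
  have hr := hit_move X _ (H := H) (by simp [hL, hJ0]) e1 hθ
  have hfull := full_of_hit X huniq hτ' hη' hh (fun u hu => by
    rw [hf] at hu
    rw [hchi _ _ _ _ k1]
    simp only [zpow_one]
    rw [show ξ * ξ ^ q * (ξ ^ q) ^ q = ξ ^ (1 + q + q * q) by
      rw [pow_add, pow_add, pow_one, pow_mul]]
    refine fixed_mem_zpowers hξ hq2 ?_ hu
    rw [hK, hm]
    apply Nat.sub_eq_of_eq_add
    simp only [show m + 2 - 1 = m + 1 by omega]
    ring) hr
  rw [e2] at hfull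
  have hp1 : X.E (d4Fold.ap g2J1) ≤ H := full_move X _ (by simp [hL, hJ0]) e3 hfull
  refine grp_le X fun J => ?_
  rcases g2_cases J with rfl | rfl
  · exact ⟨hp0, hn0⟩
  · exact ⟨hp1, hfull⟩

end H54.Twist2
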