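import Cfsg.Agent.H54.TwistTwoGen
import Cfsg.Agent.H52.TwistE6

/-!
`²E₆(q)` is generated by two elements.
-/

set_option autoImplicit false
set_option linter.unusedSectionVars false

namespace H54.Twist2

open Cfsg.Lie H52

theorem e6_twoGen_data :
    let fl := e6Fold
    let L := [f4J0, f4J1, f4J2, f4J3]
    fl.τ ⟨71, by decide⟩ = ⟨71, by decide⟩ ∧ fl.η ⟨71, by decide⟩ = 1 ∧
    fl.τ ⟨18, by decide⟩ = ⟨18, by decide⟩ ∧ fl.η ⟨18, by decide⟩ = 1 ∧
    (∀ r, fl.cls r = fl.cls ⟨18, by decide⟩ → r = ⟨18, by decide⟩) ∧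
    [e6I0, e6I5].map (fun i => chevE6.cartan i.val 71) = [0, 0] ∧
    [e6I0, e6I5].map (fun i => chevE6.cartan i.val 18) = [1, 1] ∧
    [e6I0, e6I5].map (fun i => chevE6.cartan i.val (fl.sp e6I0).val) = [2, 0] ∧
    [e6I0, e6I5].map (fun i => chevE6.cartan i.val
      ((L.flatMap fl.orb).reverse.foldr fl.W.data.act (fl.sp e6I0)).val) = [-1, 0] ∧
    (L.flatMap fl.orb).foldr fl.W.data.act
      ((L.flatMap fl.orb).reverse.foldr fl.W.data.act (fl.sp e6I0)) = fl.sp e6I0 := by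
  decide +kernel

theorem e6_twoGen_paths :
    let fl := e6Fold
    let L := [f4J0, f4J1, f4J2, f4J3]
    let act := fl.W'.data.act
    let S := fl.cls ⟨18, by decide⟩
    ([L, L, L, L, L, L].flatten.foldr act (fl.ap f4J0) = fl.an f4J0) ∧
    ([L].flatten.foldr act (fl.ap f4J0) = fl.ap f4J1) ∧
    ([L, [f4J0]].flatten.foldr act (fl.ap f4J0) = fl.an f4J1) ∧
    ([[f4J0], [f4J1], L, L, L, L].flatten.foldr act (fl.cls ⟨71, by decide⟩) = S) ∧
    ([L, [f4J1], L].flatten.foldr act S = fl.an f4J2) ∧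
    ([[f4J1], [f4J0], L, L].flatten.foldr act S = fl.ap f4J2) ∧
    ([L, L, [f4J1], L].flatten.foldr act S = fl.an f4J3) ∧
    ([L, [f4J1], [f4J0], L, L].flatten.foldr act S = fl.ap f4J3) := by
  decide +kernel

variable {K : Type*} [Field K] [Fintype K] {q : ℕ}

theorem e6_two_generated (hq : IsPrimePow q) (hK : Fintype.card K = q ^ 2) :
    ∃ a b : ↥(twistedE6 K q), Subgroup.closure ({a, b} : Set ↥(twistedE6 K q)) = ⊤ := by
  classical
  obtain ⟨T, X, hf⟩ := exists_twistE6 hq hK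
  rw [← twistE6_grp X hf hK]
  obtain ⟨ξ, hξ⟩ := IsCyclic.exists_generator (α := Kˣ)
  have hq2 : 2 ≤ q := hq.two_le
  have h4 : 4 ≤ Fintype.card K := by rw [hK, sq]; exact Nat.mul_le_mul hq2 hq2
  have hord : orderOf ξ = Fintype.card K - 1 := by
    rw [orderOf_eq_card_of_forall_mem_zpowers hξ, Nat.card_units, Nat.card_eq_fintype_card]
  obtain ⟨m, hm⟩ : ∃ m, q = m + 2 := ⟨q - 2, by omega⟩
  have hff : (ξ ^ q) ^ q = ξ := Units.ext (by push_cast; exact e6_f2 X hf hK (ξ : K))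
  set c : Fin chevE6.rank → Kˣ :=
    Twist.restr e6Fold f4J0 (e6Fun ξ 1 1 1 1 (ξ ^ q)) with hc0
  have hc : c ∈ X.cFix := X.restr_mem_cFix f4J0 fun i hi => by
    rw [show e6Fold.orb f4J0 = [e6I0, e6I5] from rfl] at hi
    obtain ⟨t0, -, -, -, -, t5⟩ := e6Fold_τi
    simp only [List.mem_cons, List.not_mem_nil, or_false] at hi
    rw [hf, ← Units.val_pow_eq_pow_val]
    refine congrArg Units.val ?_
    rcases hi with rfl | rfl
    · rw [t0]; rfl
    · rw [t5]; exact hff.symm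
  have hchi : ∀ r : Fin chevE6.nroots, ∀ a b : ℤ,
      [e6I0, e6I5].map (fun i => chevE6.cartan i.val r.val) = [a, b] →
      chi c r = ξ ^ a * (ξ ^ q) ^ b := by
    intro r a b h
    simp only [List.map_cons, List.map_nil, List.cons.injEq, and_true] at h
    rw [hc0, chi_restr X, show e6Fold.orb f4J0 = [e6I0, e6I5] from rfl]
    simp only [List.map_cons, List.map_nil, List.prod_cons, List.prod_nil, mul_one]
    rw [h.1, h.2]
    rfl
  obtain ⟨hτ, hη, hτ', hη', huniq, k0, k1, k2, k3, hback⟩ := e6_twoGen_data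
  have hs : chi c (e6Fold.sp e6I0) = ξ ^ 2 := by
    rw [hchi _ _ _ k2]; simp [sq]
  have hsq := sq_order hξ h4
  obtain ⟨a, ha, b, hb, H0⟩ := exists_pair X (J := f4J0) (j₀ := e6I0)
    (by rw [show e6Fold.orb f4J0 = [e6I0, e6I5] from rfl]; simp) hc (hs ▸ hsq.1) (hs ▸ hsq.2)
    (θ := ⟨71, by decide⟩) hτ hη (by rw [hchi _ _ _ k0]; simp) [f4J0, f4J1, f4J2, f4J3] hback (by
      rw [hchi _ _ _ k3]
      simp only [zpow_neg, zpow_one, zpow_zero, mul_one, ne_eq, inv_eq_one]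
      intro h
      rw [h, orderOf_one] at hord
      omega)
  refine closure_pair_top ha hb fun H haH hbH => ?_
  obtain ⟨hp0, hL, hh, hθ⟩ := H0 H haH hbH
  obtain ⟨e0, e1, e2, e3, e4, e5, e6, e7⟩ := e6_twoGen_paths
  have hn0 : X.E (e6Fold.an f4J0) ≤ H := full_move X _ (by simp [hL]) e0 hp0
  have hJ0 : wprod e6Fold K [f4J0] ∈ H := wprod_single X hp0 hn0
  have hp1 : X.E (e6Fold.ap f4J1) ≤ H := full_move X _ (by simp [hL]) e1 hp0
  have hn1 : X.E (e6Fold.an f4J1) ≤ H := full_move X _ (by simp [hL, hJ0]) e2 hp0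
  have hJ1 : wprod e6Fold K [f4J1] ∈ H := wprod_single X hp1 hn1
  have hr := hit_move X _ (H := H) (by simp [hL, hJ0, hJ1]) e3 hθ
  have hfull := full_of_hit X huniq hτ' hη' hh (fun u hu => by
    rw [hf] at hu
    rw [hchi _ _ _ k1]
    simp only [zpow_one]
    rw [show ξ * ξ ^ q = ξ ^ (1 + q) by rw [pow_add, pow_one]]
    refine fixed_mem_zpowers hξ hq2 ?_ hu
    rw [hK, hm]
    apply Nat.sub_eq_of_eq_add
    simp only [show m + 2 - 1 = m + 1 by omega]
    ring) hr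
  refine grp_le X fun J => ?_
  rcases f4_cases J with rfl | rfl | rfl | rfl
  · exact ⟨hp0, hn0⟩
  · exact ⟨hp1, hn1⟩
  · exact ⟨full_move X _ (by simp [hL, hJ0, hJ1]) e5 hfull,
      full_move X _ (by simp [hL, hJ1]) e4 hfull⟩
  · exact ⟨full_move X _ (by simp [hL, hJ0, hJ1]) e7 hfull,
      full_move X _ (by simp [hL, hJ1]) e6 hfull⟩

end H54.Twist2
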