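import Cfsg.Agent.H53.TwistF4Torus

/-!
`²F₄(q)` is generated by two elements.
-/

set_option autoImplicit false
set_option linter.unusedSectionVars false

namespace H54.F4Two

open Cfsg.Lie H52 H53 H53.F4T

/-- The word of the rotation. -/
def rw8 : List (Fin chevF4.rank) := spec.word 0 ++ spec.word 1

/-- The rotation on the roots, by indices. -/
def rot (r : Fin chevF4.nroots) : Fin chevF4.nroots := rw8.foldr weylForF4.data.act r

set_option backward.isDefEq.respectTransparency false in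
theorem rot_table : ∀ z ∈ [(35, 27), (31, 25), (15, 24)],
    ∃ h : z.1 < chevF4.nroots, (rot ⟨z.1, h⟩).val = z.2 := by decide +kernel

set_option backward.isDefEq.respectTransparency false in
theorem rot_four : ∀ z ∈ [(33, 14), (24, 23), (27, 20), (25, 22), (28, 19), (30, 17)],
    ∃ h : z.1 < chevF4.nroots, (rot^[4] ⟨z.1, h⟩).val = z.2 := by decide +kernel

set_option backward.isDefEq.respectTransparency false in
theorem rot_neg : ∀ r : Fin chevF4.nroots, rot (weylForF4.negF r) = weylForF4.negF (rot r) := by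
  decide +kernel

theorem exp_table : ∀ z ∈ [(24, [0, 0, -1, 2]), (25, [0, -2, 2, -1]), (27, [-1, 2, -1, 0]),
    (31, [-2, 2, -1, 1]), (35, [1, -1, 1, -1]), (15, [2, 0, -1, 0])],
    ∀ i : Fin 4, chevF4.cartan i.val z.1 = (z.2 : List ℤ).getD i.val 0 := by
  decide +kernel

theorem add_table : ∀ i : Fin 4,
    chevF4.cartan i.val 28 = chevF4.cartan i.val 27 + chevF4.cartan i.val 25 ∧
    chevF4.cartan i.val 30 =
      chevF4.cartan i.val 27 + chevF4.cartan i.val 27 + chevF4.cartan i.val 25 := by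
  decide +kernel

/-- An element permuting root elements without signs normalises the torus. -/
theorem conj_torus_mem {D : ChevalleyDatum} {T : Tables} {K : Type*} [Field K] (hC : Checked D T)
    (W : H53.WeylFor D) (p : Fin D.nroots → Fin D.nroots)
    (hp : ∀ r, p (W.negF r) = W.negF (p r)) {n : GL D.Idx K}
    (hn : ∀ (r : Fin D.nroots) (t : K), n * rt D r.val t * n⁻¹ = rt D (p r).val t)
    (c : Fin D.rank → Kˣ) : ∃ c' : Fin D.rank → Kˣ, torus D c' = n * torus D c * n⁻¹ := by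
  have hmem : n * torus D c * n⁻¹ ∈ (torus D (F := K)).range := by
    rw [hC.torus_eq_prod, ← MulAut.conj_apply, map_list_prod, List.map_map]
    refine list_prod_mem fun g hg => ?_
    obtain ⟨i, -, rfl⟩ := List.mem_map.1 hg
    obtain ⟨r, hr⟩ : ∃ r : Fin D.nroots, r.val = D.simple i.val :=
      ⟨⟨_, hC.simple_lt i.isLt⟩, rfl⟩
    refine ⟨fun j => c i ^ crt D (p r).val j.val, ?_⟩
    rw [← hC.hElt_eq_torus (p r).isLt, Function.comp_apply, ← hr,
      H52.Checked.hElt_eq, H52.Checked.hElt_eq, H52.Checked.nElt_eq, H52.Checked.nElt_eq,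
      H52.Checked.nElt_eq, H52.Checked.nElt_eq]
    have e1 : D.neg (p r).val = (p (W.negF r)).val := by rw [hp]; rfl
    have e2 : D.neg r.val = (W.negF r).val := rfl
    rw [e1, e2, map_mul, map_mul, map_mul, map_mul, map_mul]
    simp only [MulAut.conj_apply, hn]
  obtain ⟨c', hc'⟩ := hmem
  exact ⟨c', hc'⟩

/-- The torus lies in the Chevalley group. -/
theorem torus_mem_group {D : ChevalleyDatum} {T : Tables} {K : Type*} [Field K] (hC : Checked D T)
    (c : Fin D.rank → Kˣ) : torus D c ∈ D.group K := by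
  rw [hC.torus_eq_prod]
  refine list_prod_mem fun z hz => ?_
  obtain ⟨i, -, rfl⟩ := List.mem_map.1 hz
  rw [H52.Checked.hElt_eq, H52.Checked.nElt_eq, H52.Checked.nElt_eq]
  refine mul_mem (mul_mem (mul_mem ?_ ?_) ?_) (mul_mem (mul_mem ?_ ?_) ?_) <;>
    exact hC.rt_mem_group _ _

variable {K : Type*} [Field K] {e : ℕ}

/-- The root elements of the class `{p₁, p₄}`. -/
noncomputable def P (e : ℕ) (t : K) : GL chevF4.Idx K := rt chevF4 33 (t ^ e) * rt chevF4 24 t

/-- The root elements of the class of type `B₂`. -/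
noncomputable def Y (e : ℕ) (t u : K) : GL chevF4.Idx K :=
  yWord (27, 25, 28, 30) (t ^ e) t (t ^ (e + 1) + u) (u ^ (2 * e))

/-- The rotation. -/
noncomputable def n₀ (K : Type*) [Field K] : GL chevF4.Idx K :=
  (rw8.map fun i => nElt chevF4 (chevF4.simple i.val) (1 : K)).prod

theorem n₀_eq : n₀ K = (mk K 0 : GL chevF4.Idx K) * (mk K 1 : GL chevF4.Idx K) := by
  rw [mk, mk, coe_nWordProd checkedF4, coe_nWordProd checkedF4, n₀, rw8, List.map_append,
    List.prod_append]

variable (h2 : (2 : K) = 0)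

include h2 in
theorem n₀_conj (r : Fin chevF4.nroots) (t : K) :
    n₀ K * rt chevF4 r.val t * (n₀ K)⁻¹ = rt chevF4 (rot r).val t :=
  prod_nElt_conj checkedF4 h2 weylForF4 rw8 r t

include h2 in
theorem n₀_pow_conj (k : ℕ) (r : Fin chevF4.nroots) (t : K) :
    n₀ K ^ k * rt chevF4 r.val t * (n₀ K ^ k)⁻¹ = rt chevF4 (rot^[k] r).val t := by
  induction k with
  | zero => simp
  | succ k ih =>
    rw [Function.iterate_succ_apply', ← n₀_conj h2, ← ih, pow_succ']
    group

include h2 in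
theorem n₀_conj_torus (c : Fin chevF4.rank → Kˣ) : ∃ c' : Fin chevF4.rank → Kˣ,
    torus chevF4 c' = n₀ K * torus chevF4 c * (n₀ K)⁻¹ :=
  conj_torus_mem checkedF4 weylForF4 rot rot_neg (n₀_conj h2) c

include h2 in
theorem P_mul (t u : K) (hadd : ∀ x y : K, (x + y) ^ e = x ^ e + y ^ e) :
    P e t * P e u = P e (t + u) := by
  rw [P, P, P, hadd, ← checkedF4.rt_mul, ← checkedF4.rt_mul]
  have hc := (pair_comm (a := 33) (b := 24) (by simp) (u ^ e) t).symm
  calc rt chevF4 33 (t ^ e) * rt chevF4 24 t * (rt chevF4 33 (u ^ e) * rt chevF4 24 u)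
      = rt chevF4 33 (t ^ e) * (rt chevF4 24 t * rt chevF4 33 (u ^ e)) * rt chevF4 24 u := by
        simp only [mul_assoc]
    _ = _ := by rw [hc.eq]; simp only [mul_assoc]

theorem comm_table : ∀ z ∈ [(25, 28), (25, 30), (27, 30), (28, 30)],
    z.1 < chevF4.nroots ∧ z.2 < chevF4.nroots ∧ z.2 ≠ z.1 ∧ z.2 ≠ chevF4.neg z.1 ∧
      chevF4.commTerms z.1 z.2 = [] := by decide +kernel

include h2 in
theorem y_mul (s p c d s' p' c' d' : K) :
    yWord (27, 25, 28, 30) s p c d * yWord (27, 25, 28, 30) s' p' c' d' =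
      yWord (27, 25, 28, 30) (s + s') (p + p') (c + c' + s' * p) (d + d' + s' ^ 2 * p) := by
  have hneg : ∀ x : K, -x = x := fun x => by linear_combination -x * h2
  have hc : ∀ z ∈ [(25, 28), (25, 30), (27, 30), (28, 30)], ∀ x y : K,
      Commute (rt chevF4 z.1 x) (rt chevF4 z.2 y) := fun z hz x y => by
    obtain ⟨h3, h4, h5, h6, h7⟩ := comm_table z hz
    exact rt_commute checkedF4 h3 h4 h5 h6 h7 x y
  have h2728 : ∀ x y : K, Commute (rt chevF4 28 y) (rt chevF4 27 x) := fun x y => by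
    have h := checkedF4.comm_rt (r := 27) (s := 28) (by decide +kernel) (by decide +kernel)
      (by decide) (by decide +kernel) x y
    rw [ChevalleyDatum.commWord,
      show chevF4.commTerms 27 28 = [(30, 2, 1, 1)] by decide +kernel] at h
    simp [wordRt, h2, checkedF4.rt_zero] at h
    exact h
  have hswap := y_swap h2 (z := (27, 25, 28, 30)) (by simp) s' p 0 0
  simp only [yWord, checkedF4.rt_zero, mul_one, zero_add] at hswap ⊢
  -- move the left part past the first letter of the right part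
  rw [← checkedF4.rt_mul 27, ← checkedF4.rt_mul 25, ← checkedF4.rt_mul 28, ← checkedF4.rt_mul 28,
    ← checkedF4.rt_mul 30, ← checkedF4.rt_mul 30]
  set A := rt chevF4 27 s
  set B := rt chevF4 25 p
  set C := rt chevF4 28 c
  set E := rt chevF4 30 d
  set A' := rt chevF4 27 s'
  set B' := rt chevF4 25 p'
  set C' := rt chevF4 28 c'
  set E' := rt chevF4 30 d'
  set C'' := rt chevF4 28 (s' * p)
  set E'' := rt chevF4 30 (s' ^ 2 * p)
  have k1 : Commute E A' := (hc (27, 30) (by simp) _ _).symm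
  have k2 : Commute C A' := h2728 _ _
  have k3 : Commute (C'' * E'' * (C * E)) B' :=
    ((hc (25, 28) (by simp) _ _).symm.mul_left (hc (25, 30) (by simp) _ _).symm).mul_left
      ((hc (25, 28) (by simp) _ _).symm.mul_left (hc (25, 30) (by simp) _ _).symm)
  have hcomm : ∀ x y : K, Commute (rt chevF4 30 x) (rt chevF4 28 y) :=
    fun x y => (hc (28, 30) (by simp) y x).symm
  have hsame : ∀ x y : K, Commute (rt chevF4 28 x) (rt chevF4 28 y) := fun x y => by
    show _ * _ = _ * _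
    rw [checkedF4.rt_mul, checkedF4.rt_mul, add_comm]
  have hsame' : ∀ x y : K, Commute (rt chevF4 30 x) (rt chevF4 30 y) := fun x y => by
    show _ * _ = _ * _
    rw [checkedF4.rt_mul, checkedF4.rt_mul, add_comm]
  calc A * B * C * E * (A' * B' * C' * E')
      = A * B * (C * E * A') * (B' * C' * E') := by simp only [mul_assoc]
    _ = A * (B * A') * (C * E) * (B' * C' * E') := by
        rw [(k2.mul_left k1).eq]; simp only [mul_assoc]
    _ = A * A' * B * ((C'' * E'' * (C * E)) * B') * (C' * E') := by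
        rw [hswap]; simp only [mul_assoc]
    _ = A * A' * (B * B') * (C'' * E'' * (C * E) * (C' * E')) := by
        rw [k3.eq]; simp only [mul_assoc]
    _ = A * A' * (B * B') * (C * C' * C'') * (E * E' * E'') := by
        have k4 : Commute E'' C := hcomm _ _
        have k5 : Commute (E'' * E) C' := (hcomm _ _).mul_left (hcomm _ _)
        have k6 : Commute C'' (C * C') := (hsame _ _).mul_right (hsame _ _)
        have k7 : Commute E'' (E * E') := (hsame' _ _).mul_right (hsame' _ _)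
        have q1 : C'' * E'' * (C * E) = C'' * C * (E'' * E) := k4.mul_mul_mul_comm C'' E
        have q2 : C'' * C * (E'' * E) * (C' * E') = C'' * C * C' * (E'' * E * E') :=
          k5.mul_mul_mul_comm (C'' * C) E'
        have q3 : C'' * C * C' = C * C' * C'' := by rw [mul_assoc C'' C C', k6.eq]
        have q4 : E'' * E * E' = E * E' * E'' := by rw [mul_assoc E'' E E', k7.eq]
        rw [q1, q2, q3, q4]
        simp only [mul_assoc]

include h2 in
theorem Y_mul (hadd : ∀ x y : K, (x + y) ^ e = x ^ e + y ^ e)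
    (he : ∀ x : K, (((x ^ e) ^ 2) ^ e) = x) (t u t' u' : K) :
    Y e t u * Y e t' u' = Y e (t + t') (u + u' + t ^ e * t') := by
  rw [Y, Y, Y, y_mul h2, hadd]
  have hsq : ∀ x y : K, (x + y) ^ 2 = x ^ 2 + y ^ 2 := fun x y => by
    linear_combination (x * y) * h2
  congr 1
  · simp only [pow_succ _ e, hadd]
    linear_combination (-(t ^ e * t')) * h2
  · rw [mul_comm 2 e, pow_mul, pow_mul, pow_mul, hadd, hadd, hsq, hsq, mul_pow (t ^ e) t' e,
      mul_pow ((t ^ e) ^ e) (t' ^ e) 2]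
    linear_combination -((t' ^ e) ^ 2) * pow_e_e_two he t

include h2 in
theorem Y_inv (hadd : ∀ x y : K, (x + y) ^ e = x ^ e + y ^ e)
    (he : ∀ x : K, (((x ^ e) ^ 2) ^ e) = x) (t u : K) :
    (Y e t u)⁻¹ = Y e t (u + t ^ e * t) := by
  apply inv_eq_of_mul_eq_one_right
  rw [Y_mul h2 hadd he, show t + t = 0 by linear_combination t * h2,
    show u + (u + t ^ e * t) + t ^ e * t = 0 by linear_combination (u + t ^ e * t) * h2, Y, yWord]
  have he0 := e_ne_zero he
  simp [zero_pow he0, zero_pow (by omega : 2 * e ≠ 0), checkedF4.rt_zero]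

theorem chi_add (c : Fin 4 → Kˣ) :
    chi c 28 = chi c 27 * chi c 25 ∧ chi c 30 = chi c 27 * chi c 27 * chi c 25 := by
  simp only [chi, ← Finset.prod_mul_distrib]
  refine ⟨Finset.prod_congr rfl fun i _ => ?_, Finset.prod_congr rfl fun i _ => ?_⟩
  · rw [(add_table i).1, zpow_add]
  · rw [(add_table i).2, zpow_add, zpow_add]

theorem P_torus (c : Fin 4 → Kˣ) (h : chi c 33 = chi c 24 ^ e) (t : K) :
    T4 c * P e t * (T4 c)⁻¹ = P e ((chi c 24 : K) * t) := by
  rw [P, P, mul_pow, ← Units.val_pow_eq_pow_val, ← h,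
    ← conj_torus c (simple_lt_f4 33 (by simp)), ← conj_torus c (simple_lt_f4 24 (by simp))]
  group

theorem Y_torus (he : ∀ x : K, (((x ^ e) ^ 2) ^ e) = x) (c : Fin 4 → Kˣ)
    (h : chi c 27 = chi c 25 ^ e) (t u : K) :
    T4 c * Y e t u * (T4 c)⁻¹ =
      Y e ((chi c 25 : K) * t) (((chi c 25 : K) ^ (e + 1)) * u) := by
  obtain ⟨h28, h30⟩ := chi_add c
  have h28' : (chi c 28 : K) = (chi c 25 : K) ^ (e + 1) := by
    rw [h28, h, Units.val_mul, Units.val_pow_eq_pow_val, pow_succ]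
  have h30' : (chi c 30 : K) = ((chi c 25 : K) ^ (e + 1)) ^ (2 * e) := by
    rw [h30, h, Units.val_mul, Units.val_mul, Units.val_pow_eq_pow_val, mul_comm 2 e, pow_mul,
      pow_succ (chi c 25 : K) e, mul_pow, mul_pow]
    have h1 := pow_e_e_two he (chi c 25 : K)
    rw [h1, ← sq]
    ring
  rw [Y, Y, yWord, yWord, mul_pow, ← Units.val_pow_eq_pow_val, ← h,
    mul_pow (_ ^ (e + 1) : K) u (2 * e), ← h30', mul_pow (chi c 25 : K) t (e + 1), ← mul_add,
    ← h28', ← conj_torus c (simple_lt_f4 27 (by simp)), ← conj_torus c (simple_lt_f4 25 (by simp)),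
    ← conj_torus c (simple_lt_f4 28 (by simp)), ← conj_torus c (simple_lt_f4 30 (by simp))]
  group

/-- The values of the chosen torus parameters. -/
theorem chi_cst (ξ : Kˣ) {r : ℕ} {l : List ℤ}
    (h : (r, l) ∈ [(24, [0, 0, -1, 2]), (25, [0, -2, 2, -1]), (27, [-1, 2, -1, 0]),
      (31, [-2, 2, -1, 1]), (35, [1, -1, 1, -1]), (15, [2, 0, -1, 0])]) :
    chi (cst e ξ (ξ ^ 2)) r = ξ ^ ((e : ℤ) * l.getD 0 0 + 2 * e * l.getD 1 0 + 2 * l.getD 2 0 +
      l.getD 3 0) := by
  have hx := exp_table (r, l) h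
  simp only at hx
  rw [chi, Fin.prod_univ_four, hx 0, hx 1, hx 2, hx 3]
  simp only [cst, Matrix.cons_val_zero, Matrix.cons_val_one, Matrix.cons_val,
    Fin.val_zero, Fin.val_one, Fin.val_two, show ((3 : Fin 4)).val = 3 from rfl]
  simp only [zpow_add, zpow_mul, zpow_natCast, ← pow_mul]
  norm_cast
  rw [pow_mul]

/-- A power with an inverse exponent generates. -/
theorem mem_of_inv_exp {ξ : Kˣ} (hξ : ∀ u : Kˣ, u ∈ Subgroup.zpowers ξ) {k j : ℤ}
    (h : ξ ^ (k * j) = ξ) (u : Kˣ) : u ∈ Subgroup.zpowers (ξ ^ k) := by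
  obtain ⟨i, hi⟩ := Subgroup.mem_zpowers_iff.1 (hξ u)
  exact Subgroup.mem_zpowers_iff.2 ⟨j * i, by rw [← zpow_mul, ← mul_assoc, zpow_mul, h, hi]⟩

include h2 in
theorem exists_pair_gen [Fintype K] (hadd : ∀ x y : K, (x + y) ^ e = x ^ e + y ^ e)
    (he : ∀ x : K, (((x ^ e) ^ 2) ^ e) = x) (he2 : 2 ≤ e)
    (hcard : Fintype.card K = 2 * e ^ 2)
    (hfix : ∀ c : Fin 4 → Kˣ, T4 c ∈ twistedF4 K e → chi c 33 = chi c 24 ^ e) :
    ∃ a ∈ twistedF4 K e, ∃ b ∈ twistedF4 K e, ∀ H : Subgroup (GL chevF4.Idx K),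
      a ∈ H → b ∈ H → twistedF4 K e ≤ H := by
  classical
  obtain ⟨ξ, hξ⟩ := IsCyclic.exists_generator (α := Kˣ)
  have hord : orderOf ξ = 2 * e ^ 2 - 1 := by
    rw [orderOf_eq_card_of_forall_mem_zpowers hξ, Nat.card_units, Nat.card_eq_fintype_card, hcard]
  have hper : ξ ^ (2 * (e : ℤ) ^ 2) = ξ := by
    rw [show 2 * (e : ℤ) ^ 2 = ((2 * e ^ 2 - 1 : ℕ) : ℤ) + 1 by
      rw [Nat.cast_sub (by nlinarith)]; push_cast; ring, zpow_add, zpow_natCast, ← hord,
      pow_orderOf_eq_one, one_mul, zpow_one]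
  have hred : ∀ a b : ℤ, ξ ^ (2 * (e : ℤ) ^ 2 * a + b) = ξ ^ (a + b) := fun a b => by
    rw [zpow_add, zpow_mul, hper, ← zpow_add]
  set c : Fin 4 → Kˣ := cst e ξ (ξ ^ 2) with hc
  have h24 : chi c 24 = 1 := by
    rw [hc, chi_cst ξ (l := [0, 0, -1, 2]) (by simp)]; simp
  have h25 : chi c 25 = ξ ^ (3 - 4 * (e : ℤ)) := by
    rw [hc, chi_cst ξ (l := [0, -2, 2, -1]) (by simp)]
    congr 1
    simp only [List.getD_cons_zero, List.getD_cons_succ]
    ring
  have h31 : chi c 31 = ξ ^ (2 * (e : ℤ) - 1) := by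
    rw [hc, chi_cst ξ (l := [-2, 2, -1, 1]) (by simp)]
    congr 1
    simp only [List.getD_cons_zero, List.getD_cons_succ]
    ring
  have h15 : chi c 15 = ξ ^ (2 * (e : ℤ) - 2) := by
    rw [hc, chi_cst ξ (l := [2, 0, -1, 0]) (by simp)]
    congr 1
    simp only [List.getD_cons_zero, List.getD_cons_succ]
    ring
  have h27 : chi c 27 = chi c 25 ^ e := by
    rw [h25, ← zpow_natCast, ← zpow_mul, hc, chi_cst ξ (l := [-1, 2, -1, 0]) (by simp),
      show (3 - 4 * (e : ℤ)) * e = 2 * (e : ℤ) ^ 2 * -2 + 3 * e by ring, hred]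
    congr 1
    simp only [List.getD_cons_zero, List.getD_cons_succ]
    ring
  have h35 : chi c 35 = chi c 31 ^ e := by
    rw [h31, ← zpow_natCast, ← zpow_mul, hc, chi_cst ξ (l := [1, -1, 1, -1]) (by simp),
      show (2 * (e : ℤ) - 1) * e = 2 * (e : ℤ) ^ 2 * 1 + -e by ring, hred]
    congr 1
    simp only [List.getD_cons_zero, List.getD_cons_succ]
    ring
  have gen25 : ∀ u : Kˣ, u ∈ Subgroup.zpowers (chi c 25) := fun u => by
    rw [h25]
    refine mem_of_inv_exp hξ (j := 3 + 4 * e) ?_ u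
    rw [show (3 - 4 * (e : ℤ)) * (3 + 4 * e) = 2 * (e : ℤ) ^ 2 * -8 + 9 by ring, hred]
    norm_num
  have gen15 : ∀ u : Kˣ, u ∈ Subgroup.zpowers (chi c 15) := fun u => by
    rw [h15]
    refine mem_of_inv_exp hξ (j := -((e : ℤ) + 1)) ?_ u
    rw [show (2 * (e : ℤ) - 2) * -((e : ℤ) + 1) = 2 * (e : ℤ) ^ 2 * -1 + 2 by ring, hred]
    norm_num
  have gen28 : ∀ u : Kˣ, u ∈ Subgroup.zpowers (chi c 25 ^ (e + 1)) := fun u => by
    rw [h25, ← zpow_natCast, ← zpow_mul]
    refine mem_of_inv_exp hξ (j := (3 + 4 * (e : ℤ)) * -(2 * e - 2)) ?_ u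
    push_cast
    rw [show (3 - 4 * (e : ℤ)) * (e + 1) * ((3 + 4 * e) * -(2 * e - 2)) =
      2 * (e : ℤ) ^ 2 * (8 * (2 * e ^ 2 - 2) - 9) + 18 by ring, hred,
      show (8 : ℤ) * (2 * e ^ 2 - 2) - 9 + 18 = 2 * (e : ℤ) ^ 2 * 8 + -7 by ring, hred]
    norm_num
  have h1pow : ∀ n : ℕ, (1 : K) ^ n = 1 := one_pow
  set h := T4 c with hh
  set n := n₀ K with hn
  set x := P e (1 : K) with hx
  have hxG : x ∈ twistedF4 K e := pair_mem e (by simp) 1
  have hyG : ∀ t u : K, Y e t u ∈ twistedF4 K e := fun t u => class_mem e (by simp) t u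
  have hnG : n ∈ twistedF4 K e := by
    rw [hn, n₀_eq]
    exact mul_mem (Subgroup.mem_subgroupOf.1 (mk_mem h2 he 0))
      (Subgroup.mem_subgroupOf.1 (mk_mem h2 he 1))
  refine ⟨x * h, mul_mem hxG (torus_mem h2 he ξ (ξ ^ 2)), Y e 1 0 * n, mul_mem (hyG _ _) hnG,
    fun H ha hb => ?_⟩
  -- separate the commuting parts
  have h33 : chi c 33 = chi c 24 ^ e := hfix _ (torus_mem h2 he ξ (ξ ^ 2))
  have hcomm : Commute x h := by
    have := P_torus c h33 (1 : K) (e := e)
    rw [h24, Units.val_one, one_mul, mul_inv_eq_iff_eq_mul] at this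
    exact this.symm
  have hxH : x ∈ H := by
    have h1 := pow_mem ha (2 * e ^ 2 - 1)
    have hhpow : h ^ (2 * e ^ 2 - 1) = 1 := by
      rw [hh, ← map_pow, show c ^ (2 * e ^ 2 - 1) = 1 from funext fun i => by
        rw [Pi.pow_apply, Pi.one_apply, ← hcard, ← Fintype.card_units, pow_card_eq_one], map_one]
    have hx2 : x ^ 2 = 1 := by
      rw [sq, hx, P_mul h2 1 1 hadd, show (1 : K) + 1 = 0 by linear_combination h2, P,
        zero_pow (e_ne_zero he), checkedF4.rt_zero, checkedF4.rt_zero, mul_one]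
    have hodd : 2 * e ^ 2 - 1 = 2 * (e ^ 2 - 1) + 1 := by
      have : 1 ≤ e ^ 2 := by nlinarith
      omega
    rw [hcomm.mul_pow, hhpow, mul_one, hodd, pow_succ, pow_mul, hx2, one_pow, one_mul] at h1
    exact h1
  have hhH : h ∈ H := by
    have := mul_mem (inv_mem hxH) ha
    rwa [inv_mul_cancel_left] at this
  -- the conjugate torus element
  obtain ⟨c', hc''⟩ : ∃ c' : Fin 4 → Kˣ, T4 c' = n * h * n⁻¹ := n₀_conj_torus h2 c
  have hchi : ∀ z ∈ [(35, 27), (31, 25), (15, 24)],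
      chi c' z.2 = chi c z.1 := by
    intro z hz
    obtain ⟨hlt, hv⟩ := rot_table z hz
    have hlt2 : z.2 < chevF4.nroots := by rw [← hv]; exact Fin.isLt _
    have e1 := n₀_conj h2 ⟨z.1, hlt⟩ (1 : K)
    rw [hv, ← hn] at e1
    have e2 := conj_torus c' hlt2 (1 : K)
    rw [hc'', show n * h * n⁻¹ * rt chevF4 z.2 1 * (n * h * n⁻¹)⁻¹ =
      n * (h * rt chevF4 z.1 1 * h⁻¹) * n⁻¹ by rw [← e1]; group, hh, conj_torus c hlt] at e2
    have e3 := n₀_conj h2 ⟨z.1, hlt⟩ ((chi c z.1 : K) * 1)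
    rw [hv, ← hn, e2, mul_one, mul_one] at e3
    exact Units.ext (checkedF4.rt_injective hlt2 e3)
  have g25 : chi c' 25 = chi c 31 := hchi (31, 25) (by simp)
  have g27 : chi c' 27 = chi c' 25 ^ e := by
    rw [g25, ← h35]; exact hchi (35, 27) (by simp)
  have g24 : chi c' 24 = chi c 15 := hchi (15, 24) (by simp)
  -- one element of the class of type B₂
  have hzH : Y e 1 0 * T4 c' * (Y e 1 0)⁻¹ ∈ H := by
    rw [hc'']
    have := mul_mem (mul_mem hb hhH) (inv_mem hb)
    simpa [mul_assoc] using this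
  set w := (chi c 31 : K)
  obtain ⟨U, hU⟩ : ∃ U, Y e 1 0 * T4 c' * (Y e 1 0)⁻¹ =
      Y e (1 + w) U * T4 c' := by
    refine ⟨?_, ?_⟩
    rotate_left
    · rw [Y_inv h2 hadd he, h1pow, mul_one, zero_add, mul_assoc (Y e 1 0),
        ← inv_mul_cancel_right (T4 c' * Y e 1 1) (T4 c'),
        Y_torus he _ g27, ← mul_assoc, Y_mul h2 hadd he, g25, mul_one]
  rw [hU] at hzH
  obtain ⟨t₀, u₀, ht0, htH⟩ : ∃ t₀ u₀ : K, t₀ ≠ 0 ∧ Y e t₀ u₀ ∈ H := by
    have h1 := mul_mem (mul_mem (mul_mem hhH hzH) (inv_mem hhH)) (inv_mem hzH)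
    have hcc : h * T4 c' * h⁻¹ = T4 c' := by
      rw [hh, ← map_inv, ← map_mul, ← map_mul, mul_right_comm c, mul_inv_cancel, one_mul]
    rw [show h * (Y e (1 + w) U * T4 c') * h⁻¹ =
      (h * Y e (1 + w) U * h⁻¹) * (h * T4 c' * h⁻¹) by group, hcc, hh,
      Y_torus he c h27, mul_inv_rev, mul_assoc, mul_inv_cancel_left, Y_inv h2 hadd he,
      Y_mul h2 hadd he] at h1
    refine ⟨_, _, ?_, h1⟩
    have hw : 1 + w ≠ 0 := by
      intro h0
      have hw1 : chi c 31 = 1 := by
        apply Units.ext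
        show w = 1
        linear_combination h0 - h2
      rw [h31, show (2 * (e : ℤ) - 1) = ((2 * e - 1 : ℕ) : ℤ) by
        rw [Nat.cast_sub (by omega)]; push_cast; ring, zpow_natCast] at hw1
      have := Nat.le_of_dvd (by omega) (orderOf_dvd_of_pow_eq_one hw1)
      rw [hord] at this
      have : 2 * e ≤ e ^ 2 := by nlinarith
      omega
    have hg : (chi c 25 : K) ≠ 1 := by
      intro h0
      obtain ⟨i, hi⟩ := Subgroup.mem_zpowers_iff.1 (gen25 ξ)
      rw [show chi c 25 = 1 from Units.ext h0, one_zpow] at hi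
      rw [← hi, orderOf_one] at hord
      have : 4 ≤ e ^ 2 := by nlinarith
      omega
    rw [show (chi c 25 : K) * (1 + w) + (1 + w) = ((chi c 25 : K) + 1) * (1 + w) by ring]
    refine mul_ne_zero (fun h0 => hg ?_) hw
    linear_combination h0 - h2
  -- full class of type B₂
  have hconj : ∀ {z : GL chevF4.Idx K}, z ∈ H → ∀ k : ℕ, h ^ k * z * (h ^ k)⁻¹ ∈ H :=
    fun hz k => mul_mem (mul_mem (pow_mem hhH k) hz) (inv_mem (pow_mem hhH k))
  have hscale : ∀ t u : K, Y e t u ∈ H → ∀ k : ℕ,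
      Y e (((chi c 25 ^ k : Kˣ) : K) * t) (((chi c 25 ^ k : Kˣ) : K) ^ (e + 1) * u) ∈ H := by
    intro t u htu k
    induction k with
    | zero => simpa using htu
    | succ k ih =>
      have h1 := hconj ih 1
      rw [pow_one, hh, Y_torus he c h27] at h1
      convert h1 using 2 <;> simp only [pow_succ (chi c 25), Units.val_mul, Units.val_pow_eq_pow_val] <;> ring
  have hT : ∀ t : K, ∃ u, Y e t u ∈ H := by
    intro t
    by_cases ht : t = 0
    · refine ⟨0, ?_⟩
      have e0 := e_ne_zero he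
      simp [ht, Y, yWord, zero_pow e0, zero_pow (by omega : 2 * e ≠ 0), checkedF4.rt_zero, one_mem H]
    · obtain ⟨k, hk⟩ := (IsOfFinOrder.mem_powers_iff_mem_zpowers (isOfFinOrder_of_finite _)).2
        (gen25 (Units.mk0 (t / t₀) (div_ne_zero ht ht0)))
      refine ⟨(t / t₀) ^ (e + 1) * u₀, ?_⟩
      have := hscale t₀ u₀ htH k
      rw [show chi c 25 ^ k = Units.mk0 (t / t₀) (div_ne_zero ht ht0) from hk, Units.val_mk0,
        div_mul_cancel₀ _ ht0] at this
      exact this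
  have hZ1 : Y e 0 1 ∈ H := by
    obtain ⟨u, hu⟩ := hT 1
    have h1 := mul_mem hu hu
    rw [Y_mul h2 hadd he, h1pow, mul_one,
      show (1 : K) + 1 = 0 by linear_combination h2,
      show u + u + 1 = 1 by linear_combination u * h2] at h1
    exact h1
  have hZ : ∀ u : K, Y e 0 u ∈ H := by
    intro u
    by_cases hu : u = 0
    · have e0 := e_ne_zero he
      simp [hu, Y, yWord, zero_pow e0, zero_pow (by omega : 2 * e ≠ 0), checkedF4.rt_zero, one_mem H]
    · obtain ⟨k, hk⟩ := (IsOfFinOrder.mem_powers_iff_mem_zpowers (isOfFinOrder_of_finite _)).2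
        (gen28 (Units.mk0 u hu))
      have := hscale 0 1 hZ1 k
      rw [mul_zero, mul_one, ← Units.val_pow_eq_pow_val, pow_right_comm,
        show (chi c 25 ^ (e + 1)) ^ k = Units.mk0 u hu from hk, Units.val_mk0] at this
      exact this
  have hY : ∀ t u : K, Y e t u ∈ H := by
    intro t u
    obtain ⟨u', hu'⟩ := hT t
    have := mul_mem hu' (hZ (u + u'))
    rw [Y_mul h2 hadd he, add_zero, mul_zero, add_zero,
      show u' + (u + u') = u by linear_combination u' * h2] at this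
    exact this
  have hnH : n ∈ H := by
    have := mul_mem (inv_mem (hY 1 0)) hb
    rwa [inv_mul_cancel_left] at this
  -- full pair class
  have hh'H : T4 c' ∈ H := by
    rw [hc'']; exact mul_mem (mul_mem hnH hhH) (inv_mem hnH)
  have g33 : chi c' 33 = chi c' 24 ^ e := hfix _ (by
    rw [hc'']; exact mul_mem (mul_mem hnG (torus_mem h2 he ξ (ξ ^ 2))) (inv_mem hnG))
  have hP : ∀ t : K, P e t ∈ H := by
    have hs : ∀ k : ℕ, P e ((chi c 15 ^ k : Kˣ) : K) ∈ H := by
      intro k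
      induction k with
      | zero => simpa using hxH
      | succ k ih =>
        have h1 := mul_mem (mul_mem hh'H ih) (inv_mem hh'H)
        rw [P_torus _ g33, g24] at h1
        rwa [pow_succ', Units.val_mul]
    intro t
    by_cases ht : t = 0
    · have e0 := e_ne_zero he
      simp [ht, P, zero_pow e0, checkedF4.rt_zero, one_mem H]
    · obtain ⟨k, hk⟩ := (IsOfFinOrder.mem_powers_iff_mem_zpowers (isOfFinOrder_of_finite _)).2
        (gen15 (Units.mk0 t ht))
      have := hs k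
      rw [show chi c 15 ^ k = Units.mk0 t ht from hk] at this
      exact this
  -- the opposite classes
  have hn4 : ∀ z ∈ [(33, 14), (24, 23), (27, 20), (25, 22), (28, 19), (30, 17)], ∀ s : K,
      n ^ 4 * rt chevF4 z.1 s * (n ^ 4)⁻¹ = rt chevF4 z.2 s := by
    intro z hz s
    obtain ⟨hlt, hv⟩ := rot_four z hz
    rw [hn, n₀_pow_conj h2 4 ⟨z.1, hlt⟩ s, hv]
  refine (Subgroup.closure_le _).2 fun g hg => ?_
  rcases gen_eq hg with ⟨ab, hab, t, rfl⟩ | ⟨z, hz, t, u, rfl⟩
  · simp only [List.mem_cons, List.not_mem_nil, or_false] at hab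
    rcases hab with rfl | rfl
    · exact hP t
    · have := mul_mem (mul_mem (pow_mem hnH 4) (hP t)) (inv_mem (pow_mem hnH 4))
      rwa [P, ← conj_mul, hn4 (33, 14) (by simp), hn4 (24, 23) (by simp)] at this
  · simp only [List.mem_cons, List.not_mem_nil, or_false] at hz
    rcases hz with rfl | rfl
    · exact hY t u
    · have := mul_mem (mul_mem (pow_mem hnH 4) (hY t u)) (inv_mem (pow_mem hnH 4))
      rwa [Y, yWord, ← conj_mul, ← conj_mul, ← conj_mul, hn4 (27, 20) (by simp),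
        hn4 (25, 22) (by simp), hn4 (28, 19) (by simp), hn4 (30, 17) (by simp)] at this

/-- `²F₄(q)` is generated by two elements. -/
theorem two_generated [Fintype K] {m : ℕ} (hm : 1 ≤ m)
    (hK : Fintype.card K = 2 ^ (2 * m + 1)) :
    ∃ a b : ↥(twistedF4 K (2 ^ m)),
      Subgroup.closure ({a, b} : Set ↥(twistedF4 K (2 ^ m))) = ⊤ := by
  obtain ⟨he, hperf, hc, f, hf⟩ := exists_params hK
  have h2 := two_eq hK
  have hadd : ∀ x y : K, (x + y) ^ (2 ^ m) = x ^ (2 ^ m) + y ^ (2 ^ m) := fun x y => by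
    rw [← hf, map_add, hf, hf]
  have hmem : ∀ x : Fin 4 → Kˣ, T4 x ∈ chevF4.group K := fun x => by
    obtain ⟨c, rfl⟩ : ∃ c : Fin chevF4.rank → Kˣ, c = x := ⟨x, rfl⟩
    exact torus_mem_group checkedF4 c
  obtain ⟨a, ha, b, hb, h⟩ := exists_pair_gen h2 hadd he
    (Nat.le_self_pow (by omega) 2) (by rw [hK]; ring)
    fun c hG => (chi_fixed h2 (hperf := hperf) (hc := hc) hf he hmem hG).1
  refine ⟨⟨a, ha⟩, ⟨b, hb⟩, Subgroup.map_injective (twistedF4 K (2 ^ m)).subtype_injective ?_⟩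
  refine le_antisymm (Subgroup.map_mono le_top) ?_
  rw [← MonoidHom.range_eq_map, Subgroup.range_subtype]
  exact h _ ⟨⟨a, ha⟩, Subgroup.subset_closure (by simp), rfl⟩
    ⟨⟨b, hb⟩, Subgroup.subset_closure (by simp), rfl⟩

end H54.F4Two
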