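import Cfsg.Agent.H54.TwoGenData

/-!
Each Chevalley group of the seven types over a finite field is generated by two elements.
-/

set_option autoImplicit false
set_option linter.unusedSectionVars false

namespace H54

open Cfsg.Lie

namespace Ctx

variable {D : ChevalleyDatum} (C : Ctx D) {F : Type*} [Field F]

theorem nw_conj_sgn (L : List (Fin D.rank)) (r : Fin D.nroots) (t : F) :
    nw D F L * H52.rt D r.val t * (nw D F L)⁻¹ = H52.rt D (C.wperm L r).val ((C.sgn L r : F) * t) := by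
  induction L with
  | nil => simp [nw_nil, sgn, wperm_nil]
  | cons i L ih =>
    rw [nw_cons, mul_inv_rev, show ∀ x y z : GL D.Idx F, x * y * z * (y⁻¹ * x⁻¹) = x * (y * z * y⁻¹) * x⁻¹
      from fun x y z => by group, ih, mul_inv_eq_iff_eq_mul, C.wperm_cons, Equiv.Perm.mul_apply, C.sigma_val]
    apply Units.ext
    simp only [Units.val_mul, C.hC.coe_rt, H53.coe_nGL C.hC, sgn, Int.cast_mul, mul_assoc]
    exact C.hC.sig_mul_x i.isLt (C.wperm L r).isLt _

theorem exists_pair_of_le {a b : GL D.Idx F} (ha : a ∈ D.group F) (hb : b ∈ D.group F)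
    (h : D.group F ≤ Subgroup.closure {a, b}) :
    ∃ x y : ↥(D.group F), Subgroup.closure ({x, y} : Set ↥(D.group F)) = ⊤ := by
  refine ⟨⟨a, ha⟩, ⟨b, hb⟩, eq_top_iff.2 fun g _ => ?_⟩
  have hle : Subgroup.closure ({a, b} : Set (GL D.Idx F)) ≤
      (Subgroup.closure ({⟨a, ha⟩, ⟨b, hb⟩} : Set ↥(D.group F))).map (D.group F).subtype := by
    rw [MonoidHom.map_closure]
    refine Subgroup.closure_mono ?_
    rintro z (rfl | rfl)
    · exact ⟨⟨z, ha⟩, Or.inl rfl, rfl⟩
    · exact ⟨⟨z, hb⟩, Or.inr rfl, rfl⟩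
  obtain ⟨z, hz, hzg⟩ := hle (h g.2)
  rwa [← Subtype.ext hzg]

include C in
theorem nw_conj_hElt_mem_diag (L : List (Fin D.rank)) (i : Fin D.rank) (c : Fˣ) :
    nw D F L * H52.hElt D (D.simple i.val) (c : F) * (nw D F L)⁻¹ ∈ D.diagonalSubgroup F := by
  have hd : H52.hElt D (D.simple i.val) (c : F) ∈ D.diagonalSubgroup F := by
    rw [C.hC.hElt_simple_eq_torus, C.hC.diagonalSubgroup_eq]; exact ⟨_, rfl⟩
  have hh := (H53.mem_diag_iff C.hC C.W ⟨_, C.diag_le_group hd⟩).1 hd
  have hm : C.nwG L * ⟨_, C.diag_le_group hd⟩ * (C.nwG (F := F) L)⁻¹ ∈ (H53.grpSys C.W F).H := by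
    refine H53.RootGroupSys.mem_H_of_acts_one C.axioms C.sep
      (mul_mem (mul_mem (C.nwG_mem_N L) (H53.RootGroupSys.H_le_N hh)) (inv_mem (C.nwG_mem_N L))) ?_
    have := H53.RootGroupSys.acts_mul (H53.RootGroupSys.acts_mul (C.nwG_acts (F := F) L)
      (H53.RootGroupSys.acts_H C.axioms hh)) (H53.RootGroupSys.acts_inv (C.nwG_acts (F := F) L))
    rwa [mul_one, mul_inv_cancel] at this
  have := (H53.mem_diag_iff C.hC C.W _).2 hm
  simpa [C.coe_nwG] using this

include C in
/-- Generation by `x_s(1) h_{p_i}(ξ)` and `x_l(1) n_w`. -/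
theorem two_gen_torus [Finite F] {i s l : ℕ} {L : List (ℕ × ℕ × ℕ × ℕ)} (hd : genData D i s l L = true)
    (h3 : 3 ≤ Nat.card F) : ∃ x y : ↥(D.group F), Subgroup.closure ({x, y} : Set ↥(D.group F)) = ⊤ := by
  classical
  have := Fintype.ofFinite F
  simp only [genData, Bool.and_eq_true, decide_eq_true_eq, beq_iff_eq, Bool.or_eq_true] at hd
  obtain ⟨⟨⟨⟨⟨⟨hi, hs⟩, hl⟩, hcs⟩, hcl⟩, hcl'⟩, hcheck⟩ := hd
  obtain ⟨ξ, hξ⟩ := IsCyclic.exists_generator (α := Fˣ)
  have hξ1 : ξ ≠ 1 := by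
    intro h
    have hsub : ∀ u : Fˣ, u = 1 := fun u => by
      obtain ⟨m, hm⟩ := hξ u
      rw [← hm, h]; simp
    have : Nat.card Fˣ ≤ 1 := (Finite.card_le_one_iff_subsingleton).2 ⟨fun a b => (hsub a).trans (hsub b).symm⟩
    rw [Nat.card_units] at this
    omega
  obtain ⟨Lw, hLw⟩ := exists_finWord (D := D) (L := List.range D.rank) fun j hj => List.mem_range.1 hj
  set l' : Fin D.nroots := C.wperm Lw.reverse ⟨l, hl⟩ with hl'
  have hl'val : l'.val = actR D (List.range D.rank).reverse l := by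
    rw [hl', C.wperm_val_actR, List.map_reverse, hLw]
  rw [← hl'val] at hcl'
  set h := H52.hElt D (D.simple i) (ξ : F) with hh
  set n := nw D F Lw with hn
  set a := H52.rt D s (1 : F) * h with ha
  set b := H52.rt D l (1 : F) * n with hb
  have hconj : ∀ (r : ℕ), r < D.nroots → ∀ v : F,
      h * H52.rt D r v * h⁻¹ = H52.rt D r (((ξ ^ D.cartan i r : Fˣ) : F) * v) := by
    intro r hr v
    rw [hh, C.hElt_conj_rt (C.hC.simple_lt hi) hr, C.hC.pairInt_simple hi]
  have hhd : h ∈ D.diagonalSubgroup F := by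
    rw [hh, show D.simple i = D.simple (⟨i, hi⟩ : Fin D.rank).val from rfl, C.hC.hElt_simple_eq_torus,
      C.hC.diagonalSubgroup_eq]
    exact ⟨_, rfl⟩
  refine exists_pair_of_le (a := a) (b := b) (mul_mem (C.rt_mem_group _ _) (C.diag_le_group hhd))
    (mul_mem (C.rt_mem_group _ _) (C.nw_mem _)) ?_
  set H := Subgroup.closure ({a, b} : Set (GL D.Idx F)) with hH
  have hamem : a ∈ H := Subgroup.subset_closure (Or.inl rfl)
  have hbmem : b ∈ H := Subgroup.subset_closure (Or.inr rfl)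
  -- the factors of the first generator
  have hcomm : h * H52.rt D s (1 : F) = H52.rt D s (1 : F) * h := by
    have := hconj s hs 1
    rw [hcs, zpow_zero, Units.val_one, one_mul, mul_inv_eq_iff_eq_mul] at this
    exact this
  set m := Fintype.card F - 1 with hm
  have hhm : h ^ m = 1 := by
    rw [hh, show D.simple i = D.simple (⟨i, hi⟩ : Fin D.rank).val from rfl, C.hC.hElt_simple_eq_torus,
      ← map_pow, ← Pi.mulSingle_pow]
    have : ξ ^ m = 1 := by rw [hm, ← Fintype.card_units]; exact pow_card_eq_one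
    rw [this, Pi.mulSingle_one, map_one]
  have hpow : ∀ k : ℕ, H52.rt D s (1 : F) ^ k = H52.rt D s (k : F) := by
    intro k
    induction k with
    | zero => rw [pow_zero, Nat.cast_zero, C.hC.rt_zero]
    | succ k ih => rw [pow_succ, ih, C.hC.rt_mul, Nat.cast_succ]
  have hxs : H52.rt D s (-1 : F) ∈ H := by
    have := pow_mem hamem m
    rw [ha, (show Commute (H52.rt D s (1 : F)) h from hcomm.symm).mul_pow, hhm, mul_one, hpow, hm,
      Nat.cast_sub Fintype.card_pos, FiniteField.cast_card_eq_zero, Nat.cast_one, zero_sub] at this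
    exact this
  have hhH : h ∈ H := by
    have := mul_mem hxs hamem
    rwa [ha, ← mul_assoc, C.hC.rt_mul, neg_add_cancel, C.hC.rt_zero, one_mul] at this
  -- the conjugate of the torus element
  set h' := n * h * n⁻¹ with hh'
  have hh'd : h' ∈ D.diagonalSubgroup F := by
    rw [hh', hh]; exact C.nw_conj_hElt_mem_diag Lw ⟨i, hi⟩ ξ
  have hhh' : h * h' = h' * h := by
    rw [C.hC.diagonalSubgroup_eq] at hhd hh'd
    obtain ⟨c, hc⟩ := hhd
    obtain ⟨c', hc'⟩ := hh'd
    rw [← hc, ← hc', ← map_mul, ← map_mul, mul_comm]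
  obtain ⟨z, hz, hconj'⟩ : ∃ z : F, z ≠ 1 ∧ h' * H52.rt D l (-1 : F) * h'⁻¹ = H52.rt D l (-z) := by
    refine ⟨((ξ ^ D.cartan i l'.val : Fˣ) : F), ?_, ?_⟩
    · rw [Ne, Units.val_eq_one]
      rcases hcl' with h' | h' <;> rw [h'] <;> simpa using hξ1
    · have hback : C.wperm Lw l' = ⟨l, hl⟩ := by
        rw [hl', C.wperm_reverse, ← Equiv.Perm.mul_apply, mul_inv_cancel, Equiv.Perm.one_apply]
      set e := (C.sgn Lw l' : F)
      have hee : e * e = 1 := C.sgn_mul_self Lw l'
      have hnl : ∀ v : F, n * H52.rt D l'.val v * n⁻¹ = H52.rt D l (e * v) := fun v => by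
        rw [hn, C.nw_conj_sgn, hback]
      have h1 : n⁻¹ * H52.rt D l (-1 : F) * n = H52.rt D l'.val (-e) := by
        have h0 := hnl (-e)
        rw [mul_neg, hee] at h0
        rw [← h0]; group
      rw [hh', mul_inv_rev, mul_inv_rev, inv_inv,
        show ∀ x : GL D.Idx F, n * h * n⁻¹ * x * (n * (h⁻¹ * n⁻¹)) = n * (h * (n⁻¹ * x * n) * h⁻¹) * n⁻¹ from
          fun x => by group,
        h1, hconj _ l'.isLt, hnl]
      congr 1
      linear_combination (-((ξ ^ D.cartan i l'.val : Fˣ) : F)) * hee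
  -- the root elements of `l`
  have hc1 : H52.rt D l (1 - z) * h' ∈ H := by
    have := mul_mem (mul_mem hbmem hhH) (inv_mem hbmem)
    rw [hb, mul_inv_rev, show H52.rt D l (1 : F) * n * h * (n⁻¹ * (H52.rt D l (1 : F))⁻¹) =
      H52.rt D l (1 : F) * (h' * (H52.rt D l (1 : F))⁻¹ * h'⁻¹) * h' by rw [hh']; group, C.hC.rt_inv, hconj',
      C.hC.rt_mul, ← sub_eq_add_neg] at this
    exact this
  obtain ⟨c, hc⟩ : ∃ c : F, c = (((ξ ^ D.cartan i l : Fˣ) : F) - 1) * (1 - z) := ⟨_, rfl⟩
  have hc0 : c ≠ 0 := by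
    rw [hc]
    refine mul_ne_zero (sub_ne_zero.2 ?_) (sub_ne_zero.2 fun e => hz e.symm)
    rw [Ne, Units.val_eq_one]
    rcases hcl with h' | h' <;> rw [h'] <;> simpa using hξ1
  have hlc : H52.rt D l c ∈ H := by
    have := mul_mem (mul_mem (mul_mem hhH hc1) (inv_mem hhH)) (inv_mem hc1)
    rw [show h * (H52.rt D l (1 - z) * h') * h⁻¹ = h * H52.rt D l (1 - z) * h⁻¹ * (h * h' * h⁻¹) by group, hhh',
      mul_inv_cancel_right, hconj l hl, mul_inv_rev, mul_assoc, ← mul_assoc h', mul_inv_cancel, one_mul,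
      C.hC.rt_inv, C.hC.rt_mul] at this
    rw [hc, sub_mul, one_mul, sub_eq_add_neg]
    exact this
  have hscale : ∀ k : ℤ, H52.rt D l (((ξ ^ (D.cartan i l * k) : Fˣ) : F) * c) ∈ H := by
    intro k
    induction k using Int.induction_on with
    | zero => simpa using hlc
    | succ k ih =>
      have := mul_mem (mul_mem hhH ih) (inv_mem hhH)
      rw [hconj l hl, ← mul_assoc, ← Units.val_mul, ← zpow_add] at this
      rwa [show D.cartan i l * ((k : ℤ) + 1) = D.cartan i l + D.cartan i l * k by ring]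
    | pred k ih =>
      have := mul_mem (mul_mem (inv_mem hhH) ih) hhH
      have e : h⁻¹ * H52.rt D l (((ξ ^ (D.cartan i l * -(k : ℤ)) : Fˣ) : F) * c) * h =
          H52.rt D l (((ξ ^ (D.cartan i l * (-(k : ℤ) - 1)) : Fˣ) : F) * c) := by
        have := hconj l hl (((ξ ^ (D.cartan i l * (-(k : ℤ) - 1)) : Fˣ) : F) * c)
        rw [← mul_assoc, ← Units.val_mul, ← zpow_add,
          show D.cartan i l + D.cartan i l * (-(k : ℤ) - 1) = D.cartan i l * -(k : ℤ) by ring] at this
        rw [← this]; group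
      rwa [e] at this
  have hfull : ∀ t : F, H52.rt D l t ∈ H := by
    intro t
    by_cases ht : t = 0
    · subst ht; rw [C.hC.rt_zero]; exact one_mem _
    obtain ⟨k, hk⟩ := hξ (Units.mk0 (t / c) (div_ne_zero ht hc0))
    have := hscale (D.cartan i l * k)
    rw [show D.cartan i l * (D.cartan i l * k) = k by rcases hcl with h' | h' <;> rw [h'] <;> ring] at this
    simp only at hk
    rw [hk, Units.val_mk0, div_mul_cancel₀ _ hc0] at this
    exact this
  refine C.le_of_check Lw hLw (fun h => absurd h (by simp)) (fun _ => ?_) (fun r h => absurd h (by simp))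
    (fun p hp => absurd hp (by simp)) ?_ hcheck
  · have := mul_mem (hfull (-1)) hbmem
    rwa [hb, ← mul_assoc, C.hC.rt_mul, neg_add_cancel, C.hC.rt_zero, one_mul] at this
  · intro q hq
    simp only [List.mem_cons, List.not_mem_nil, or_false] at hq
    rcases hq with rfl | rfl
    · exact hfull
    · exact ⟨-1, neg_ne_zero.2 one_ne_zero, hxs⟩

include C in
/-- Generation by `x_s(1)` and `x_r(1) n_w` over two elements. -/
theorem two_gen_two [Finite F] {r s : ℕ} {L : List (ℕ × ℕ × ℕ × ℕ)} (hd : genTwoData D r s L = true)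
    (h2 : ∀ t : F, t = 0 ∨ t = 1) :
    ∃ x y : ↥(D.group F), Subgroup.closure ({x, y} : Set ↥(D.group F)) = ⊤ := by
  simp only [genTwoData, Bool.and_eq_true, decide_eq_true_eq] at hd
  obtain ⟨⟨hr, hs⟩, hcheck⟩ := hd
  obtain ⟨Lw, hLw⟩ := exists_finWord (D := D) (L := List.range D.rank) fun j hj => List.mem_range.1 hj
  refine exists_pair_of_le (a := H52.rt D s (1 : F)) (b := H52.rt D r (1 : F) * nw D F Lw)
    (C.rt_mem_group _ _) (mul_mem (C.rt_mem_group _ _) (C.nw_mem _)) ?_
  refine C.le_of_check Lw hLw (fun _ => h2) (fun h => absurd h (by simp)) (fun r' h => ?_)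
    (fun p hp => absurd hp (by simp)) ?_ hcheck
  · obtain rfl : r = r' := Option.some.inj h
    exact Subgroup.subset_closure (Or.inr rfl)
  · intro q hq
    rw [List.mem_singleton.1 hq]
    intro t
    rcases h2 t with rfl | rfl
    · rw [C.hC.rt_zero]; exact one_mem _
    · exact Subgroup.subset_closure (Or.inl rfl)

include C in
/-- Generation by `x_l(1) x_s(1)` and `n_w` over two elements. -/
theorem two_gen_pair [Finite F] {l s c : ℕ} {L : List (ℕ × ℕ × ℕ × ℕ)} (hd : genPairData D l s c L = true)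
    (h2 : ∀ t : F, t = 0 ∨ t = 1) :
    ∃ x y : ↥(D.group F), Subgroup.closure ({x, y} : Set ↥(D.group F)) = ⊤ := by
  have : CharP F 2 := by
    refine CharTwo.of_one_ne_zero_of_two_eq_zero one_ne_zero ?_
    rw [← one_add_one_eq_two]
    exact (h2 (1 + 1)).resolve_right fun h0 => one_ne_zero (add_eq_left.1 h0)
  simp only [genPairData, Bool.and_eq_true, decide_eq_true_eq, bne_iff_ne, ne_eq] at hd
  obtain ⟨⟨⟨⟨⟨⟨⟨⟨⟨⟨hl, hs⟩, k0⟩, k1⟩, k2⟩, k3⟩, k4⟩, hne⟩, hneg⟩, hsingle⟩, hcheck⟩ := hd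
  split at hsingle
  swap
  · exact absurd hsingle (by simp)
  rename_i e hfilt
  simp only [Bool.and_eq_true, beq_iff_eq, Bool.or_eq_true] at hsingle
  obtain ⟨hec, hC⟩ := hsingle
  obtain ⟨Lw, hLw⟩ := exists_finWord (D := D) (L := List.range D.rank) fun j hj => List.mem_range.1 hj
  set n := nw D F Lw with hn
  set l' := C.wperm Lw ⟨l, hl⟩ with hl'
  set s' := C.wperm Lw ⟨s, hs⟩ with hs'
  have el : l'.val = actR D (List.range D.rank) l := by rw [hl', C.wperm_val_actR, hLw]
  have es : s'.val = actR D (List.range D.rank) s := by rw [hs', C.wperm_val_actR, hLw]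
  rw [← el] at k1 k3 k4
  rw [← es] at k2 k4 hne hneg hfilt
  refine exists_pair_of_le (a := H52.rt D l (1 : F) * H52.rt D s (1 : F)) (b := n)
    (mul_mem (C.rt_mem_group _ _) (C.rt_mem_group _ _)) (C.nw_mem _) ?_
  set H := Subgroup.closure ({H52.rt D l (1 : F) * H52.rt D s (1 : F), n} : Set (GL D.Idx F)) with hH
  have hP : H52.rt D l (1 : F) * H52.rt D s (1 : F) ∈ H := Subgroup.subset_closure (Or.inl rfl)
  have hnm : n ∈ H := Subgroup.subset_closure (Or.inr rfl)
  have hone : ∀ z : F, z ≠ 0 → z = 1 := fun z hz => (h2 z).resolve_left hz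
  have hP' : H52.rt D l'.val (1 : F) * H52.rt D s'.val (1 : F) ∈ H := by
    have := mul_mem (mul_mem hnm hP) (inv_mem hnm)
    rw [show n * (H52.rt D l (1 : F) * H52.rt D s (1 : F)) * n⁻¹ =
      (n * H52.rt D l (1 : F) * n⁻¹) * (n * H52.rt D s (1 : F) * n⁻¹) by group, hn,
      show l = (⟨l, hl⟩ : Fin D.nroots).val from rfl, show s = (⟨s, hs⟩ : Fin D.nroots).val from rfl,
      C.nw_conj_sgn, C.nw_conj_sgn] at this
    rwa [hone _ (mul_ne_zero (left_ne_zero_of_mul_eq_one (C.sgn_mul_self Lw _)) one_ne_zero),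
      hone _ (mul_ne_zero (left_ne_zero_of_mul_eq_one (C.sgn_mul_self Lw _)) one_ne_zero)] at this
  have cc := fun {a b : ℕ} (ha : a < D.nroots) (hb : b < D.nroots) (h : evenComm D a b = true) =>
    (C.commute_of_evenComm ha hb h (1 : F) 1)
  have hw : H52.wordRt D (D.commWord F s s'.val 1 1) = H52.rt D c (1 : F) := by
    obtain ⟨A, B, hAB, hA, -, hB⟩ := List.filter_eq_cons_iff.1 hfilt
    have key : ∀ L : List (ℕ × ℤ × ℕ × ℕ), (∀ z ∈ L, z.2.1 % 2 = 0) →
        H52.wordRt D (L.map fun z => (z.1, (z.2.1 : F) * (-1 : F) ^ z.2.2.1 * (1 : F) ^ z.2.2.2)) = 1 := by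
      intro L hL
      rw [H52.wordRt, List.prod_eq_one]
      intro g hg
      simp only [List.mem_map] at hg
      obtain ⟨_, ⟨z, hz, rfl⟩, rfl⟩ := hg
      obtain ⟨m, hm⟩ := Int.dvd_of_emod_eq_zero (hL z hz)
      rw [hm, Int.cast_mul, show ((2 : ℤ) : F) = 0 by simp [CharTwo.two_eq_zero], zero_mul, zero_mul, zero_mul,
        C.hC.rt_zero]
    have kA := key A fun z hz => by simpa using hA z hz
    have kB := key B fun z hz => by simpa using List.filter_eq_nil_iff.1 hB z hz
    rw [ChevalleyDatum.commWord, hAB, List.map_append, List.map_cons, ← hec]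
    simp only [H52.wordRt] at kA kB
    simp only [H52.wordRt, List.map_append, List.map_cons, List.prod_append, List.prod_cons, kA, kB, one_mul,
      mul_one]
    congr 1
    refine hone _ ?_
    rcases hC with h | h <;> simp [h]
  have hcH : H52.rt D c (1 : F) ∈ H := by
    have h1 := mul_mem (inv_mem (mul_mem hP hP')) (mul_mem hP' hP)
    have h3 := C.hC.comm_rt (F := F) hs s'.isLt hne hneg 1 1
    rw [hw] at h3
    have hc' : H52.rt D c (1 : F) =
        (H52.rt D s'.val (1 : F))⁻¹ * (H52.rt D s (1 : F))⁻¹ * (H52.rt D s'.val (1 : F) * H52.rt D s (1 : F)) := by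
      rw [h3]; group
    rw [hc']
    have a := cc hl hs k0
    have b := cc hl l'.isLt k1
    have d := cc hl s'.isLt k2
    have f := cc hs l'.isLt k3
    have g := cc l'.isLt s'.isLt k4
    set X := H52.rt D l (1 : F)
    set Y := H52.rt D s (1 : F)
    set X' := H52.rt D l'.val (1 : F)
    set Y' := H52.rt D s'.val (1 : F)
    have e1 : X * Y * (X' * Y') = X * X' * (Y * Y') := by
      rw [mul_assoc X Y, ← mul_assoc Y X', f.eq, mul_assoc X' Y, ← mul_assoc X X']
    have e2 : X' * Y' * (X * Y) = X' * X * (Y' * Y) := by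
      rw [mul_assoc X' Y', ← mul_assoc Y' X, ← d.eq, mul_assoc X Y', ← mul_assoc X' X]
    rw [e1, e2, ← b.eq, mul_inv_rev, mul_assoc, inv_mul_cancel_left, mul_inv_rev] at h1
    exact h1
  refine C.le_of_check Lw hLw (fun _ => h2) (fun _ => hnm) (fun r' h => absurd h (by simp))
    (fun p hp => ?_) ?_ hcheck
  · rw [List.mem_singleton.1 hp]; exact hP
  · intro q hq
    rw [List.mem_singleton.1 hq]
    intro t
    rcases h2 t with rfl | rfl
    · rw [C.hC.rt_zero]; exact one_mem _
    · exact hcH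

end Ctx

/-- Each of the seven Chevalley groups over a finite field is generated by two elements. -/
theorem chev_two_generated {F : Type*} [Field F] [Finite F] {D : ChevalleyDatum}
    (hD : D ∈ [chevG2, chevB2, chevD4, chevF4, chevE6, chevE7, chevE8])
    (hF : D ∈ [chevB2, chevG2] → ∃ x : F, x ≠ 0 ∧ x ≠ 1) :
    ∃ x y : ↥(D.group F), Subgroup.closure ({x, y} : Set ↥(D.group F)) = ⊤ := by
  obtain ⟨C⟩ := exists_ctx hD
  by_cases h3 : 3 ≤ Nat.card F
  · simp only [List.mem_cons, List.not_mem_nil, or_false] at hD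
    rcases hD with rfl | rfl | rfl | rfl | rfl | rfl | rfl
    exacts [C.two_gen_torus genDataG2 h3, C.two_gen_torus genDataB2 h3, C.two_gen_torus genDataD4 h3,
      C.two_gen_torus genDataF4 h3, C.two_gen_torus genDataE6 h3, C.two_gen_torus genDataE7 h3,
      C.two_gen_torus genDataE8 h3]
  have h2 : ∀ t : F, t = 0 ∨ t = 1 := by
    classical
    have := Fintype.ofFinite F
    intro t
    by_contra hne
    push Not at hne
    have hc : ({0, 1, t} : Finset F).card = 3 :=
      Finset.card_eq_three.2 ⟨0, 1, t, zero_ne_one, hne.1.symm, hne.2.symm, rfl⟩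
    have := Finset.card_le_univ ({0, 1, t} : Finset F)
    rw [Nat.card_eq_fintype_card] at h3
    omega
  simp only [List.mem_cons, List.not_mem_nil, or_false] at hD hF
  rcases hD with rfl | rfl | rfl | rfl | rfl | rfl | rfl
  · obtain ⟨x, hx⟩ := hF (Or.inr rfl); exact absurd (h2 x) (not_or.2 hx)
  · obtain ⟨x, hx⟩ := hF (Or.inl rfl); exact absurd (h2 x) (not_or.2 hx)
  · exact C.two_gen_two genTwoDataD4 h2
  · exact C.two_gen_pair genTwoDataF4 h2
  · exact C.two_gen_two genTwoDataE6 h2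
  · exact C.two_gen_two genTwoDataE7 h2
  · exact C.two_gen_two genTwoDataE8 h2

end H54
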