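import Cfsg.Agent.H54.TwoGenStep

/-! Certificates for two-generation of the seven Chevalley data. -/

set_option autoImplicit false
set_option maxRecDepth 100000

namespace H54

open Cfsg.Lie

/-- The conditions on `h_{p_i}`, `x_s(1)` and `x_l(1) n_w`. -/
def genData (D : ChevalleyDatum) (i s l : ℕ) (L : List (ℕ × ℕ × ℕ × ℕ)) : Bool :=
  let w := List.range D.rank
  decide (i < D.rank) && decide (s < D.nroots) && decide (l < D.nroots) && D.cartan i s == 0 &&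
    (D.cartan i l == 1 || D.cartan i l == -1) &&
    (D.cartan i (actR D w.reverse l) == 1 || D.cartan i (actR D w.reverse l) == -1) &&
    TwoGen.check D ⟨w, false, none, []⟩ [(l, true), (s, false)] L

/-- The conditions on `x_s(1)` and `x_r(1) n_w` over two elements. -/
def genTwoData (D : ChevalleyDatum) (r s : ℕ) (L : List (ℕ × ℕ × ℕ × ℕ)) : Bool :=
  decide (r < D.nroots) && decide (s < D.nroots) &&
    TwoGen.check D ⟨List.range D.rank, true, some r, []⟩ [(s, true)] L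

/-- The conditions on `x_l(1) x_s(1)` and `n_w` over two elements, isolating `x_c(1)`. -/
def genPairData (D : ChevalleyDatum) (l s c : ℕ) (L : List (ℕ × ℕ × ℕ × ℕ)) : Bool :=
  let l' := actR D (List.range D.rank) l
  let s' := actR D (List.range D.rank) s
  decide (l < D.nroots) && decide (s < D.nroots) && evenComm D l s && evenComm D l l' && evenComm D l s' &&
    evenComm D s l' && evenComm D l' s' && s' != s && s' != D.neg s &&
    (match (D.commTerms s s').filter (fun e => !(e.2.1 % 2 == 0)) with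
     | [e] => e.1 == c && (e.2.1 == 1 || e.2.1 == -1)
     | _ => false) &&
    TwoGen.check D ⟨List.range D.rank, true, none, [(l, s)]⟩ [(c, true)] L

/-- Steps for `B2`. -/
def genCertB2 : List (ℕ × ℕ × ℕ × ℕ) :=[
  (2, 6, 0, 2), (2, 7, 0, 4), (0, 7, 2, 4), (2, 2, 0, 1), (2, 1, 0, 5), (0, 1, 7, 3)]

theorem genDataB2 : genData chevB2 1 7 6 genCertB2 = true := by decide +kernel

/-- Steps for `G2`. -/
def genCertG2 : List (ℕ × ℕ × ℕ × ℕ) :=[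
  (2, 11, 0, 6), (2, 9, 0, 8), (2, 6, 0, 1), (2, 8, 0, 4), (2, 1, 0, 0), (2, 4, 0, 2),
  (1, 11, 9, 9), (1, 11, 8, 8), (1, 11, 2, 2), (0, 11, 2, 4), (2, 0, 0, 5), (2, 2, 0, 3),
  (0, 11, 5, 10), (1, 11, 3, 3), (0, 11, 3, 7)]

theorem genDataG2 : genData chevG2 1 9 11 genCertG2 = true := by decide +kernel

/-- Steps for `D4`. -/
def genCertD4 : List (ℕ × ℕ × ℕ × ℕ) :=[
  (2, 22, 0, 5), (0, 22, 5, 17), (2, 13, 0, 2), (0, 22, 2, 12), (2, 5, 0, 9), (2, 2, 0, 8),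
  (0, 17, 8, 13), (2, 9, 0, 1), (2, 8, 0, 10), (0, 8, 10, 6), (1, 22, 10, 10), (1, 22, 6, 6),
  (0, 22, 6, 18), (0, 13, 6, 8), (2, 10, 0, 21), (0, 10, 21, 19), (1, 5, 19, 19), (0, 5, 19, 14),
  (0, 8, 14, 11)]

theorem genDataD4 : genData chevD4 0 13 22 genCertD4 = true := by decide +kernel

/-- Steps for `F4`. -/
def genCertF4 : List (ℕ × ℕ × ℕ × ℕ) :=[
  (2, 40, 0, 39), (2, 47, 0, 32), (2, 39, 0, 29), (2, 32, 0, 26), (2, 29, 0, 13), (2, 26, 0, 6),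
  (2, 13, 0, 10), (2, 6, 0, 2), (0, 40, 2, 32), (2, 10, 0, 3), (2, 2, 0, 1), (0, 40, 3, 14),
  (0, 47, 3, 6), (0, 47, 1, 24), (0, 39, 1, 26), (2, 3, 0, 7), (2, 1, 0, 0), (0, 39, 7, 20),
  (0, 32, 7, 2), (2, 7, 0, 8), (2, 0, 0, 15), (0, 40, 8, 27), (0, 47, 15, 42), (0, 26, 8, 1),
  (0, 26, 27, 31), (0, 32, 42, 47), (0, 3, 42, 19), (0, 1, 47, 24), (0, 14, 42, 38), (0, 0, 38, 22),
  (2, 8, 0, 18), (2, 15, 0, 21), (0, 40, 18, 37), (0, 47, 21, 45), (0, 39, 18, 35), (0, 13, 18, 9),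
  (0, 6, 35, 25), (0, 2, 37, 23), (0, 24, 18, 15), (0, 24, 37, 45), (0, 7, 45, 34), (0, 20, 34, 33)]

theorem genDataF4 : genData chevF4 0 47 40 genCertF4 = true := by decide +kernel

/-- Steps for `E6`. -/
def genCertE6 : List (ℕ × ℕ × ℕ × ℕ) :=[
  (2, 66, 0, 45), (2, 71, 0, 70), (2, 45, 0, 14), (2, 70, 0, 55), (2, 14, 0, 21), (2, 55, 0, 41),
  (2, 21, 0, 7), (2, 41, 0, 10), (0, 71, 7, 52), (2, 7, 0, 2), (2, 10, 0, 4), (0, 66, 2, 29),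
  (0, 71, 2, 47), (0, 45, 29, 41), (0, 70, 2, 39), (0, 7, 29, 4), (2, 2, 0, 17), (2, 4, 0, 0),
  (0, 71, 17, 62), (0, 45, 17, 24), (0, 45, 62, 69), (0, 70, 0, 25), (0, 14, 69, 55), (0, 55, 17, 37),
  (0, 7, 62, 32), (1, 2, 70, 70), (1, 47, 25, 25), (0, 47, 32, 46), (2, 17, 0, 31), (0, 70, 31, 68),
  (0, 41, 31, 36), (0, 2, 68, 34), (0, 29, 68, 65), (0, 17, 65, 56), (2, 31, 0, 33), (0, 55, 33, 53),
  (0, 7, 53, 15), (0, 52, 33, 50), (0, 17, 53, 35), (0, 24, 50, 42)]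

theorem genDataE6 : genData chevE6 0 71 66 genCertE6 = true := by decide +kernel

/-- Steps for `E7`. -/
def genCertE7 : List (ℕ × ℕ × ℕ × ℕ) :=[
  (2, 107, 0, 76), (2, 76, 0, 82), (2, 82, 0, 47), (2, 47, 0, 30), (2, 30, 0, 41), (2, 41, 0, 21),
  (2, 21, 0, 12), (0, 107, 12, 52), (2, 12, 0, 37), (2, 37, 0, 18), (1, 107, 123, 123), (0, 123, 18, 88),
  (0, 21, 88, 32), (2, 18, 0, 49), (0, 18, 49, 7), (0, 123, 7, 79), (0, 47, 79, 69), (2, 49, 0, 43),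
  (0, 49, 43, 33), (0, 107, 43, 96), (0, 123, 33, 103), (0, 30, 96, 66), (0, 21, 103, 61), (2, 43, 0, 78),
  (0, 43, 78, 53), (0, 107, 53, 100), (0, 76, 78, 85), (0, 76, 100, 112), (0, 41, 100, 93), (0, 41, 85, 64),
  (0, 12, 112, 62), (0, 37, 85, 56), (2, 78, 0, 95), (0, 78, 95, 99), (0, 76, 99, 110), (0, 82, 95, 105),
  (0, 21, 110, 73), (0, 21, 105, 63), (0, 18, 105, 59)]

theorem genDataE7 : genData chevE7 0 123 107 genCertE7 = true := by decide +kernel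

/-- Steps for `E8`. -/
def genCertE8 : List (ℕ × ℕ × ℕ × ℕ) :=[
  (2, 233, 0, 232), (2, 239, 0, 224), (2, 232, 0, 225), (2, 224, 0, 218), (2, 225, 0, 231), (2, 218, 0, 203),
  (2, 231, 0, 223), (2, 203, 0, 161), (2, 223, 0, 217), (2, 161, 0, 134), (2, 217, 0, 202), (2, 134, 0, 70),
  (0, 233, 70, 218), (2, 202, 0, 160), (2, 70, 0, 55), (2, 160, 0, 133), (2, 55, 0, 35), (2, 133, 0, 129),
  (2, 35, 0, 13), (0, 233, 13, 146), (0, 232, 146, 239), (2, 129, 0, 69), (2, 13, 0, 5), (0, 233, 5, 104),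
  (0, 232, 5, 98), (0, 225, 98, 224), (0, 223, 5, 70), (2, 69, 0, 54), (2, 5, 0, 4), (2, 54, 0, 34),
  (2, 4, 0, 3), (0, 233, 3, 102), (0, 232, 3, 96), (2, 34, 0, 12), (2, 3, 0, 2), (0, 233, 12, 145),
  (0, 233, 2, 101), (0, 232, 2, 95), (0, 232, 101, 228), (0, 225, 2, 73), (0, 160, 2, 13), (0, 12, 228, 121),
  (2, 2, 0, 1), (0, 233, 1, 100), (0, 239, 1, 120), (0, 232, 1, 94), (0, 232, 100, 227), (0, 224, 1, 67),
  (0, 225, 94, 220), (0, 218, 1, 53), (0, 223, 1, 63), (0, 217, 1, 50), (0, 202, 1, 32), (0, 70, 100, 53),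
  (0, 133, 1, 5), (0, 13, 227, 120), (0, 5, 220, 67), (1, 12, 3, 3), (0, 12, 94, 6), (0, 12, 220, 77),
  (1, 145, 1, 1), (2, 1, 0, 0), (1, 233, 0, 0), (0, 233, 0, 99), (0, 232, 0, 93), (0, 232, 99, 226),
  (0, 225, 93, 219), (0, 223, 99, 210), (0, 217, 93, 197), (0, 160, 226, 237), (0, 34, 226, 166), (0, 3, 237, 123),
  (0, 102, 219, 207), (0, 96, 210, 191), (0, 12, 226, 119), (0, 101, 219, 205), (0, 101, 197, 176), (0, 101, 166, 162),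
  (0, 101, 191, 172), (0, 95, 210, 189), (0, 95, 207, 186), (0, 73, 191, 150), (0, 1, 237, 118), (0, 100, 150, 141),
  (0, 94, 150, 135), (0, 67, 176, 130), (0, 53, 189, 126), (0, 63, 172, 109), (0, 50, 186, 113), (0, 32, 205, 116)]

theorem genDataE8 : genData chevE8 0 239 233 genCertE8 = true := by decide +kernel

/-- Steps for `D4(2)`. -/
def genTwoCertD4 : List (ℕ × ℕ × ℕ × ℕ) :=[
  (3, 2, 0, 8), (4, 2, 0, 13), (0, 2, 13, 4), (3, 8, 0, 10), (0, 8, 10, 6), (4, 4, 0, 17),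
  (0, 10, 17, 15), (3, 6, 0, 19), (0, 17, 19, 23), (0, 8, 23, 21), (5, 10, 21, 11), (0, 17, 11, 16),
  (5, 15, 13, 3), (0, 15, 11, 14), (0, 15, 3, 5), (0, 2, 11, 1), (2, 16, 0, 12), (4, 14, 0, 18),
  (2, 5, 0, 9)]

theorem genTwoDataD4 : genTwoData chevD4 1 2 genTwoCertD4 = true := by decide +kernel

/-- Steps for `E6(2)`. -/
def genTwoCertE6 : List (ℕ × ℕ × ℕ × ℕ) :=[
  (3, 2, 0, 17), (4, 2, 0, 7), (3, 17, 0, 31), (4, 7, 0, 21), (3, 31, 0, 33), (0, 31, 21, 18),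
  (4, 21, 0, 14), (0, 21, 33, 19), (0, 7, 19, 0), (2, 33, 0, 62), (4, 14, 0, 45), (0, 14, 62, 48),
  (2, 19, 0, 32), (0, 19, 45, 25), (0, 17, 45, 24), (0, 7, 48, 13), (0, 31, 48, 46), (0, 33, 32, 30),
  (0, 33, 24, 22), (0, 33, 13, 11), (0, 14, 24, 10), (0, 14, 22, 8), (2, 62, 0, 68), (0, 62, 10, 37),
  (0, 62, 8, 35), (4, 45, 0, 66), (0, 45, 30, 42), (0, 45, 11, 15), (0, 48, 68, 71), (2, 32, 0, 34),
  (4, 25, 0, 49), (0, 25, 71, 70), (0, 25, 49, 41), (0, 2, 66, 29), (0, 2, 70, 39), (0, 31, 41, 36),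
  (0, 33, 66, 64), (0, 18, 64, 56)]

theorem genTwoDataE6 : genTwoData chevE6 0 2 genTwoCertE6 = true := by decide +kernel

/-- Steps for `E7(2)`. -/
def genTwoCertE7 : List (ℕ × ℕ × ℕ × ℕ) :=[
  (3, 3, 0, 8), (4, 3, 0, 10), (3, 8, 0, 34), (4, 10, 0, 5), (3, 34, 0, 54), (4, 5, 0, 15),
  (0, 5, 54, 2), (3, 54, 0, 57), (4, 15, 0, 25), (0, 15, 57, 11), (3, 2, 0, 7), (0, 8, 25, 0),
  (2, 57, 0, 100), (4, 25, 0, 68), (2, 11, 0, 36), (2, 7, 0, 33), (2, 100, 0, 110), (5, 100, 110, 18),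
  (0, 100, 18, 53), (4, 68, 0, 71), (0, 68, 110, 114), (0, 68, 53, 56), (2, 36, 0, 55), (0, 33, 71, 39),
  (0, 33, 114, 94), (0, 8, 71, 14), (0, 10, 71, 16), (2, 110, 0, 120), (0, 110, 14, 62), (0, 110, 16, 64),
  (2, 18, 0, 49), (4, 71, 0, 91), (0, 71, 120, 123), (0, 71, 49, 52), (2, 114, 0, 89), (0, 114, 49, 102),
  (2, 56, 0, 59), (0, 55, 123, 121), (0, 39, 91, 70), (0, 39, 89, 69), (0, 39, 102, 93), (0, 94, 89, 111),
  (0, 94, 70, 96), (0, 8, 121, 78), (0, 5, 91, 26), (0, 54, 70, 61), (0, 54, 26, 21), (0, 15, 111, 63),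
  (0, 25, 96, 47), (0, 100, 26, 66), (0, 110, 21, 73), (0, 18, 91, 32)]

theorem genTwoDataE7 : genTwoData chevE7 0 3 genTwoCertE7 = true := by decide +kernel

/-- Steps for `E8(2)`. -/
def genTwoCertE8 : List (ℕ × ℕ × ℕ × ℕ) :=[
  (2, 0, 0, 15), (4, 0, 0, 1), (2, 15, 0, 21), (4, 1, 0, 2), (2, 21, 0, 36), (4, 2, 0, 3),
  (2, 36, 0, 78), (4, 3, 0, 4), (2, 78, 0, 105), (4, 4, 0, 5), (2, 105, 0, 169), (4, 5, 0, 13),
  (0, 5, 169, 16), (2, 169, 0, 184), (4, 13, 0, 35), (0, 13, 184, 58), (2, 16, 0, 22), (2, 184, 0, 204),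
  (4, 35, 0, 55), (2, 58, 0, 46), (2, 22, 0, 37), (0, 36, 55, 7), (2, 204, 0, 226), (4, 55, 0, 70),
  (0, 55, 226, 181), (2, 46, 0, 84), (2, 37, 0, 79), (0, 37, 70, 11), (0, 21, 181, 81), (2, 226, 0, 234),
  (4, 70, 0, 134), (0, 70, 79, 31), (0, 70, 81, 33), (0, 70, 234, 223), (2, 84, 0, 108), (0, 84, 134, 92),
  (2, 79, 0, 106), (0, 79, 134, 90), (0, 79, 223, 189), (4, 11, 0, 32), (0, 15, 223, 109), (0, 21, 134, 29),
  (0, 21, 223, 135), (0, 36, 134, 48), (0, 169, 92, 162), (0, 204, 90, 174), (0, 204, 32, 115), (0, 204, 29, 111),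
  (0, 55, 174, 104), (0, 55, 115, 53), (0, 55, 111, 50), (0, 7, 234, 141), (0, 226, 29, 164), (0, 226, 50, 175),
  (0, 70, 164, 98), (0, 70, 175, 132), (2, 234, 0, 235), (5, 234, 235, 110), (0, 234, 48, 206), (0, 234, 53, 211),
  (0, 234, 50, 208), (0, 134, 106, 120), (0, 134, 110, 130), (0, 31, 206, 116), (0, 31, 211, 126), (0, 33, 208, 123),
  (2, 223, 0, 217), (5, 223, 217, 49), (0, 223, 110, 219), (0, 108, 130, 113), (0, 106, 132, 118), (4, 90, 0, 74),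
  (0, 90, 74, 51), (0, 189, 49, 119), (0, 189, 51, 121), (0, 13, 219, 77)]

theorem genTwoDataE8 : genTwoData chevE8 0 0 genTwoCertE8 = true := by decide +kernel

/-- Steps for `F4(2)`. -/
def genTwoCertF4 : List (ℕ × ℕ × ℕ × ℕ) :=[
  (2, 7, 0, 8), (2, 8, 0, 18), (2, 18, 0, 34), (2, 34, 0, 37), (2, 37, 0, 44), (0, 7, 44, 33),
  (2, 44, 0, 40), (0, 8, 40, 27), (2, 40, 0, 39), (0, 7, 39, 20), (2, 39, 0, 29), (0, 7, 29, 10),
  (0, 8, 29, 12), (0, 34, 10, 19), (2, 29, 0, 13), (0, 8, 13, 3), (0, 18, 13, 9), (0, 40, 3, 14),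
  (7, 9, 0, 0), (0, 44, 0, 41), (0, 39, 0, 25), (0, 12, 41, 22), (2, 0, 0, 15), (0, 40, 15, 45),
  (0, 29, 15, 24), (0, 9, 45, 23)]

theorem genTwoDataF4 : genPairData chevF4 0 9 7 genTwoCertF4 = true := by decide +kernel

end H54
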