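import Cfsg.Agent.H54.CTGroup
import Cfsg.Agent.H54.ChevGroup

/-!
Certificates for generation: root elements known to lie in a subgroup, extended step by step by conjugation and by
the commutator formula.
-/

set_option autoImplicit false
set_option linter.unusedSectionVars false

namespace H54

open Cfsg.Lie

/-- The fixed parameters of a certificate: the word of the Weyl element, whether the field has two elements, the
root of the factor in front of the Weyl element if that factor is not yet known, and known products of two commuting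
root elements. -/
structure GenSpec where
  w : List ℕ
  two : Bool
  xr : Option ℕ
  pairs : List (ℕ × ℕ)

namespace TwoGen

/-- Some root element of `r` is known. -/
def has (k : List (ℕ × Bool)) (r : ℕ) : Bool := k.any fun q => q.1 == r

/-- All root elements of `r` are known. -/
def full (k : List (ℕ × Bool)) (r : ℕ) : Bool := k.any fun q => q.1 == r && q.2

/-- The status of `r`. -/
def status (k : List (ℕ × Bool)) (r : ℕ) : Bool := full k r

/-- One step: `(0, a, b, c)` commutator, `(1, a, b, b)` torus, `(2, a, _, c)` Weyl element, `(3, a, _, c)` and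
`(4, a, _, c)` Weyl element with a commuting factor, `(5, a, b, c)` the same with a commutator, `(7, a, _, c)`
pair. -/
def step (D : ChevalleyDatum) (S : GenSpec) (k : List (ℕ × Bool)) : ℕ × ℕ × ℕ × ℕ → Option (ℕ × Bool)
  | (0, a, b, c) =>
    if has k a && has k b && decide (a < D.nroots) && decide (b < D.nroots) && b != a && b != D.neg a then
      match (D.commTerms a b).filter (fun e => !((S.two && e.2.1 % 2 == 0) || full k e.1)) with
      | [e] =>
        if e.1 == c && (e.2.1 == 1 || e.2.1 == -1) then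
          some (c, S.two || (full k a && decide (e.2.2.1 ≤ 2)) || (full k b && decide (e.2.2.2 ≤ 2)))
        else none
      | _ => none
    else none
  | (1, a, b, c) =>
    if full k a && full k (D.neg a) && has k b && decide (a < D.nroots) && decide (b < D.nroots) && b == c &&
        (H52.pairInt D a b == 1 || H52.pairInt D a b == -1) then some (c, true) else none
  | (2, a, _, c) =>
    if has k a && decide (a < D.nroots) && actR D S.w a == c &&
        (match S.xr with | none => true | some r => S.two && has k r) then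
      some (c, status k a) else none
  | (3, a, _, c) =>
    match S.xr with
    | none => none
    | some r => if S.two && has k a && decide (a < D.nroots) && decide (r < D.nroots) && actR D S.w a == c &&
        evenComm D r c then some (c, status k a) else none
  | (4, a, _, c) =>
    match S.xr with
    | none => none
    | some r => if S.two && has k a && decide (a < D.nroots) && decide (r < D.nroots) &&
        actR D S.w.reverse a == c && evenComm D r a then some (c, status k a) else none
  | (5, a, b, c) =>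
    match S.xr with
    | none => none
    | some r =>
      let y := actR D S.w a
      if S.two && has k a && has k b && decide (a < D.nroots) && decide (r < D.nroots) && y != r &&
          y != D.neg r then
        match (D.commTerms r y).filter (fun e => !(e.2.1 % 2 == 0)) with
        | [e] => if (e.2.1 == 1 || e.2.1 == -1) && ((b == y && c == e.1) || (b == e.1 && c == y)) then
            some (c, true) else none
        | _ => none
      else none
  | (7, a, _, c) =>
    if S.two && has k a && (S.pairs.contains (a, c) || S.pairs.contains (c, a)) then some (c, true) else none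
  | _ => none

/-- All steps. -/
def run (D : ChevalleyDatum) (S : GenSpec) :
    List (ℕ × Bool) → List (ℕ × ℕ × ℕ × ℕ) → Option (List (ℕ × Bool))
  | k, [] => some k
  | k, s :: L => if full k s.2.2.2 then run D S k L else match step D S k s with
    | some q => run D S (q :: k) L
    | none => none

/-- The certificate reaches all fundamental roots and their negatives. -/
def check (D : ChevalleyDatum) (S : GenSpec) (init : List (ℕ × Bool)) (L : List (ℕ × ℕ × ℕ × ℕ)) : Bool :=
  match run D S init L with
  | some k => (List.range D.rank).all fun i => full k (D.simple i) && full k (D.neg (D.simple i))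
  | none => false

end TwoGen

namespace Ctx

variable {D : ChevalleyDatum} (C : Ctx D) {F : Type*} [Field F]

/-- A known root element. -/
def Known (D : ChevalleyDatum) (H : Subgroup (GL D.Idx F)) (q : ℕ × Bool) : Prop :=
  if q.2 then ∀ t : F, H52.rt D q.1 t ∈ H else ∃ v : F, v ≠ 0 ∧ H52.rt D q.1 v ∈ H

theorem Known.exists_ne {H : Subgroup (GL D.Idx F)} {k : List (ℕ × Bool)}
    (hk : ∀ q ∈ k, Known D H q) {r : ℕ} (h : TwoGen.has k r = true) :
    ∃ v : F, v ≠ 0 ∧ H52.rt D r v ∈ H := by
  simp only [TwoGen.has, List.any_eq_true, beq_iff_eq] at h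
  obtain ⟨⟨x, b⟩, hq, rfl⟩ := h
  have := hk _ hq
  cases b
  · exact this
  · exact ⟨1, one_ne_zero, this 1⟩

theorem Known.all {H : Subgroup (GL D.Idx F)} {k : List (ℕ × Bool)}
    (hk : ∀ q ∈ k, Known D H q) {r : ℕ} (h : TwoGen.full k r = true) (t : F) :
    H52.rt D r t ∈ H := by
  simp only [TwoGen.full, List.any_eq_true, Bool.and_eq_true, beq_iff_eq] at h
  obtain ⟨⟨x, b⟩, hq, rfl, hb⟩ := h
  obtain rfl : b = true := hb
  exact hk _ hq t

theorem Known.transfer {H : Subgroup (GL D.Idx F)} {k : List (ℕ × Bool)}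
    (hk : ∀ q ∈ k, Known D H q) {a c : ℕ} (h : TwoGen.has k a = true) (e : F) (he : e * e = 1)
    (hmap : ∀ t, H52.rt D a t ∈ H → H52.rt D c (e * t) ∈ H) : Known D H (c, TwoGen.status k a) := by
  unfold Known TwoGen.status
  cases hf : TwoGen.full k a
  · obtain ⟨v, hv, hm⟩ := Known.exists_ne hk h
    exact ⟨e * v, mul_ne_zero (left_ne_zero_of_mul_eq_one he) hv, hmap v hm⟩
  · intro t
    have := hmap (e * t) (Known.all hk hf _)
    rwa [← mul_assoc, he, one_mul] at this

include C in
/-- Conjugation by `h_r(t)`. -/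
theorem hElt_conj_rt {r s : ℕ} (hr : r < D.nroots) (hs : s < D.nroots) (t : Fˣ) (v : F) :
    H52.hElt D r (t : F) * H52.rt D s v * (H52.hElt D r (t : F))⁻¹ =
      H52.rt D s (((t ^ H52.pairInt D r s : Fˣ) : F) * v) := by
  rw [C.hC.hElt_eq_torus hr, C.hC.torus_conj_rt _ hs]
  congr 3
  rw [C.hC.pairInt_eq_sum, Finset.sum_range]
  have : ∀ i : Fin D.rank, (t ^ H52.crt D r i.val) ^ D.cartan i.val s =
      t ^ (H52.crt D r i.val * D.cartan i.val s) := fun i => (zpow_mul _ _ _).symm
  rw [Finset.prod_congr rfl fun i _ => this i]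
  generalize (Finset.univ : Finset (Fin D.rank)) = S
  classical
  induction S using Finset.induction_on with
  | empty => simp
  | insert a S ha ih => rw [Finset.sum_insert ha, Finset.prod_insert ha, zpow_add, ih]

/-- An additive subgroup containing the multiples of all squares by a fixed non-zero element is everything. -/
theorem forall_mem_of_squares [Finite F] (A : AddSubgroup F) {c : F} (hc : c ≠ 0)
    (h : ∀ t : F, c * t ^ 2 ∈ A) (t : F) : t ∈ A := by
  by_cases h2 : ringChar F = 2
  · obtain ⟨s, hs⟩ := FiniteField.isSquare_of_char_two h2 (c⁻¹ * t)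
    have := h s
    rwa [pow_two, ← hs, mul_inv_cancel_left₀ hc] at this
  · have h2' : (2 : F) ≠ 0 := Ring.two_ne_zero h2
    have := A.sub_mem (h ((c⁻¹ * t + 1) / 2)) (h ((c⁻¹ * t - 1) / 2))
    rwa [show c * ((c⁻¹ * t + 1) / 2) ^ 2 - c * ((c⁻¹ * t - 1) / 2) ^ 2 = t by
      field_simp; ring] at this

include C in
theorem known_comm {H : Subgroup (GL D.Idx F)} {S : GenSpec} (htwo : S.two = true → ∀ t : F, t = 0 ∨ t = 1)
    [Finite F] {k : List (ℕ × Bool)} (hk : ∀ q ∈ k, Known D H q) {a b c : ℕ} {q : ℕ × Bool}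
    (h : TwoGen.step D S k (0, a, b, c) = some q) : Known D H q := by
  simp only [TwoGen.step] at h
  split at h
  swap
  · exact absurd h (by simp)
  rename_i hcond
  simp only [Bool.and_eq_true, decide_eq_true_eq, bne_iff_ne, ne_eq] at hcond
  obtain ⟨⟨⟨⟨⟨ha, hb⟩, hal⟩, hbl⟩, hne⟩, hneg⟩ := hcond
  split at h
  swap
  · exact absurd h (by simp)
  rename_i e hfilt
  split at h
  swap
  · exact absurd h (by simp)
  rename_i hec
  simp only [Bool.and_eq_true, beq_iff_eq, Bool.or_eq_true] at hec
  obtain ⟨hec, hC⟩ := hec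
  obtain rfl := (Option.some.inj h).symm
  have heven : ∀ (x : ℕ × ℤ × ℕ × ℕ) (t u : F), S.two = true → x.2.1 % 2 = 0 →
      H52.rt D x.1 ((x.2.1 : F) * (-t) ^ x.2.2.1 * u ^ x.2.2.2) = 1 := by
    intro x t u ht hx
    have h1 : (1 : F) + 1 = 0 := by
      rcases htwo ht (1 + 1) with h0 | h0
      · exact h0
      · exact absurd (add_eq_left.1 h0) one_ne_zero
    obtain ⟨m, hm⟩ := Int.dvd_of_emod_eq_zero hx
    rw [hm, Int.cast_mul, show ((2 : ℤ) : F) = 0 by push_cast; rw [← one_add_one_eq_two, h1], zero_mul, zero_mul,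
      zero_mul, C.hC.rt_zero]
  have hmem : ∀ t u : F, H52.rt D a t ∈ H → H52.rt D b u ∈ H →
      H52.rt D c ((e.2.1 : F) * (-t) ^ e.2.2.1 * u ^ e.2.2.2) ∈ H := by
    intro t u hta hub
    have hW : H52.wordRt D (D.commWord F a b t u) ∈ H := by
      have := C.hC.comm_rt (F := F) hal hbl hne hneg t u
      rw [eq_comm, mul_assoc, ← eq_inv_mul_iff_mul_eq, ← eq_inv_mul_iff_mul_eq] at this
      rw [this]
      exact mul_mem (inv_mem hub) (mul_mem (inv_mem hta) (mul_mem hub hta))
    have key : ∀ L : List (ℕ × ℤ × ℕ × ℕ),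
        L.filter (fun e => !((S.two && e.2.1 % 2 == 0) || TwoGen.full k e.1)) = [] →
        H52.wordRt D (L.map fun x => (x.1, (x.2.1 : F) * (-t) ^ x.2.2.1 * u ^ x.2.2.2)) ∈ H := by
      intro L hL
      rw [H52.wordRt]
      refine list_prod_mem fun g hg => ?_
      simp only [List.mem_map] at hg
      obtain ⟨_, ⟨x, hx, rfl⟩, rfl⟩ := hg
      have := List.filter_eq_nil_iff.1 hL x hx
      simp only [Bool.not_eq_true', Bool.not_eq_false, Bool.or_eq_true, Bool.and_eq_true, beq_iff_eq] at this
      rcases this with ⟨h1, h2⟩ | h1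
      · rw [heven x t u h1 h2]; exact one_mem _
      · exact Known.all hk h1 _
    obtain ⟨A, B, hAB, hA, -, hB⟩ := List.filter_eq_cons_iff.1 hfilt
    have hA' : A.filter (fun e => !((S.two && e.2.1 % 2 == 0) || TwoGen.full k e.1)) = [] :=
      List.filter_eq_nil_iff.2 hA
    rw [ChevalleyDatum.commWord, hAB, List.map_append, List.map_cons] at hW
    simp only [H52.wordRt, List.map_append, List.map_cons, List.prod_append, List.prod_cons, hec] at hW
    have h1 := mul_mem (mul_mem (inv_mem (key A hA')) hW) (inv_mem (key B hB))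
    simpa [H52.wordRt, mul_assoc] using h1
  obtain ⟨hi1, hj1, -⟩ := C.hC.commTerms_co hal hbl e
    (List.mem_of_mem_filter (hfilt ▸ List.mem_singleton_self e))
  have hC0 : (e.2.1 : F) ≠ 0 := by rcases hC with h | h <;> simp [h]
  obtain ⟨va, hva, hma⟩ := Known.exists_ne hk ha
  obtain ⟨vb, hvb, hmb⟩ := Known.exists_ne hk hb
  set v := (e.2.1 : F) * (-va) ^ e.2.2.1 * vb ^ e.2.2.2 with hv
  have hv0 : v ≠ 0 := mul_ne_zero (mul_ne_zero hC0 (pow_ne_zero _ (neg_ne_zero.2 hva))) (pow_ne_zero _ hvb)
  let A : AddSubgroup F :=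
    { carrier := {t | H52.rt D c t ∈ H}
      zero_mem' := by show H52.rt D c 0 ∈ H; rw [C.hC.rt_zero]; exact one_mem _
      add_mem' := fun {x y} hx hy => by show H52.rt D c (x + y) ∈ H; rw [← C.hC.rt_mul]; exact mul_mem hx hy
      neg_mem' := fun {x} hx => by show H52.rt D c (-x) ∈ H; rw [← C.hC.rt_inv]; exact inv_mem hx }
  by_cases hfull : (S.two || (TwoGen.full k a && decide (e.2.2.1 ≤ 2)) ||
      (TwoGen.full k b && decide (e.2.2.2 ≤ 2))) = true
  swap
  · rw [Bool.not_eq_true] at hfull
    rw [hfull]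
    exact ⟨v, hv0, hmem va vb hma hmb⟩
  rw [hfull]
  show ∀ t : F, t ∈ A
  simp only [Bool.or_eq_true, Bool.and_eq_true, decide_eq_true_eq] at hfull
  rcases hfull with (ht | ⟨hf, hi⟩) | ⟨hf, hj⟩
  · intro t
    rcases htwo ht t with rfl | rfl
    · exact A.zero_mem
    · have := hmem va vb hma hmb
      rwa [← hv, (htwo ht v).resolve_left hv0] at this
  · have hne0 : (e.2.1 : F) * (-1) ^ e.2.2.1 * vb ^ e.2.2.2 ≠ 0 :=
      mul_ne_zero (mul_ne_zero hC0 (pow_ne_zero _ (neg_ne_zero.2 one_ne_zero))) (pow_ne_zero _ hvb)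
    intro t
    interval_cases hii : e.2.2.1
    · have := hmem (t / ((e.2.1 : F) * (-1) ^ 1 * vb ^ e.2.2.2)) vb (Known.all hk hf _) hmb
      show H52.rt D c t ∈ H
      convert this using 2
      field_simp
    · refine forall_mem_of_squares A hne0 (fun s => ?_) t
      have := hmem s vb (Known.all hk hf _) hmb
      show H52.rt D c _ ∈ H
      convert this using 2
      ring
  · have hne0 : (e.2.1 : F) * (-va) ^ e.2.2.1 ≠ 0 :=
      mul_ne_zero hC0 (pow_ne_zero _ (neg_ne_zero.2 hva))
    intro t
    interval_cases hjj : e.2.2.2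
    · have := hmem va (t / ((e.2.1 : F) * (-va) ^ e.2.2.1)) hma (Known.all hk hf _)
      rw [pow_one, mul_div_cancel₀ _ hne0] at this
      exact this
    · refine forall_mem_of_squares A hne0 (fun s => ?_) t
      have := hmem va s hma (Known.all hk hf _)
      exact this

/-- The word of a list of numbers. -/
theorem exists_finWord {L : List ℕ} (h : ∀ i ∈ L, i < D.rank) :
    ∃ L' : List (Fin D.rank), L'.map Fin.val = L :=
  ⟨L.attach.map fun i => ⟨i.1, h i.1 i.2⟩, by
    rw [List.map_map]; exact List.attach_map_subtype_val L⟩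

include C in
/-- Soundness of a step. -/
theorem known_step [Finite F] {H : Subgroup (GL D.Idx F)} {S : GenSpec} (Lw : List (Fin D.rank))
    (hLw : Lw.map Fin.val = S.w) (htwo : S.two = true → ∀ t : F, t = 0 ∨ t = 1)
    (hn : S.xr = none → nw D F Lw ∈ H)
    (hxn : ∀ r, S.xr = some r → H52.rt D r (1 : F) * nw D F Lw ∈ H)
    (hpairs : ∀ p ∈ S.pairs, H52.rt D p.1 (1 : F) * H52.rt D p.2 (1 : F) ∈ H)
    {k : List (ℕ × Bool)} (hk : ∀ q ∈ k, Known D H q) {st : ℕ × ℕ × ℕ × ℕ} {q : ℕ × Bool}
    (h : TwoGen.step D S k st = some q) : Known D H q := by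
  classical
  obtain ⟨tag, a, b, c⟩ := st
  have hone : ∀ r, S.two = true → TwoGen.has k r = true → H52.rt D r (1 : F) ∈ H := by
    intro r ht hr
    obtain ⟨v, hv, hm⟩ := Known.exists_ne hk hr
    rwa [(htwo ht v).resolve_left hv] at hm
  have hchar : S.two = true → CharP F 2 := fun ht => by
    refine CharTwo.of_one_ne_zero_of_two_eq_zero one_ne_zero ?_
    rw [← one_add_one_eq_two]
    exact (htwo ht (1 + 1)).resolve_right fun h0 => one_ne_zero (add_eq_left.1 h0)
  have hact : ∀ (L : List (Fin D.rank)) (a c : ℕ) (ha : a < D.nroots), actR D (L.map Fin.val) a = c →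
      c < D.nroots ∧ ∃ e : F, e * e = 1 ∧ ∀ t, nw D F L * H52.rt D a t * (nw D F L)⁻¹ = H52.rt D c (e * t) := by
    intro L a c ha hc
    have hc' : (C.wperm L ⟨a, ha⟩).val = c := by rw [C.wperm_val_actR]; exact hc
    refine ⟨hc' ▸ (C.wperm L ⟨a, ha⟩).isLt, ?_⟩
    refine ⟨(C.sgn L ⟨a, ha⟩ : F), C.sgn_mul_self _ _, fun t => ?_⟩
    rw [← hc']
    induction L generalizing a c t with
    | nil => simp [nw_nil, sgn, wperm_nil]
    | cons i L ih =>
      rw [nw_cons, mul_inv_rev, show ∀ x y z : GL D.Idx F, x * y * z * (y⁻¹ * x⁻¹) = x * (y * z * y⁻¹) * x⁻¹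
        from fun x y z => by group, ih a _ ha rfl (C.wperm_val_actR L ⟨a, ha⟩), mul_inv_eq_iff_eq_mul,
        C.wperm_cons, Equiv.Perm.mul_apply, C.sigma_val]
      apply Units.ext
      simp only [Units.val_mul, C.hC.coe_rt, H53.coe_nGL C.hC, sgn, Int.cast_mul, mul_assoc]
      exact C.hC.sig_mul_x i.isLt (C.wperm L ⟨a, ha⟩).isLt _
  match tag with
  | 0 => exact C.known_comm htwo hk h
  | 1 =>
    simp only [TwoGen.step] at h
    split at h
    swap
    · exact absurd h (by simp)
    rename_i hc
    simp only [Bool.and_eq_true, decide_eq_true_eq, beq_iff_eq, Bool.or_eq_true] at hc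
    obtain ⟨⟨⟨⟨⟨⟨hfa, hfn⟩, hb⟩, hal⟩, hbl⟩, rfl⟩, hp⟩ := hc
    obtain rfl := (Option.some.inj h).symm
    obtain ⟨v, hv, hm⟩ := Known.exists_ne hk hb
    have hh : ∀ u : Fˣ, H52.hElt D a (u : F) ∈ H := fun u =>
      H52.Checked.wordRt_mem H _ fun p hpm => by
        simp only [ChevalleyDatum.hWord, ChevalleyDatum.nWord, List.mem_append, List.mem_cons,
          List.not_mem_nil, or_false] at hpm
        rcases hpm with (rfl | rfl | rfl) | (rfl | rfl | rfl) <;>
          first | exact Known.all hk hfa _ | exact Known.all hk hfn _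
    intro t
    by_cases ht : t = 0
    · subst ht; rw [C.hC.rt_zero]; exact one_mem _
    set u : Fˣ := Units.mk0 (t / v) (div_ne_zero ht hv)
    have hmem := fun z : Fˣ => mul_mem (mul_mem (hh z) hm) (inv_mem (hh z))
    rcases hp with hp | hp
    · have := hmem u
      rw [C.hElt_conj_rt hal hbl, hp, zpow_one] at this
      simpa [u, div_mul_cancel₀ _ hv] using this
    · have := hmem u⁻¹
      rw [C.hElt_conj_rt hal hbl, hp, zpow_neg, zpow_one, inv_inv] at this
      simpa [u, div_mul_cancel₀ _ hv] using this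
  | 2 =>
    simp only [TwoGen.step, Option.ite_none_right_eq_some] at h
    obtain ⟨hc, h⟩ := h
    simp only [Bool.and_eq_true, decide_eq_true_eq, beq_iff_eq] at hc
    obtain ⟨⟨⟨ha, hal⟩, hac⟩, hx⟩ := hc
    obtain rfl := (Option.some.inj h).symm
    have hnH : nw D F Lw ∈ H := by
      cases hxr : S.xr with
      | none => exact hn hxr
      | some r =>
        rw [hxr] at hx
        simp only [Bool.and_eq_true] at hx
        have := mul_mem (inv_mem (hone r hx.1 hx.2)) (hxn r hxr)
        rwa [inv_mul_cancel_left] at this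
    obtain ⟨-, e, he, hconj⟩ := hact Lw a c hal (by rw [hLw]; exact hac)
    refine Known.transfer hk ha e he fun t ht => ?_
    rw [← hconj]
    exact mul_mem (mul_mem hnH ht) (inv_mem hnH)
  | 3 =>
    simp only [TwoGen.step] at h
    split at h
    · exact absurd h (by simp)
    rename_i r hxr
    split at h
    swap
    · exact absurd h (by simp)
    rename_i hc
    simp only [Bool.and_eq_true, decide_eq_true_eq, beq_iff_eq] at hc
    obtain ⟨⟨⟨⟨⟨ht2, ha⟩, hal⟩, hrl⟩, hac⟩, hcm⟩ := hc
    obtain rfl := (Option.some.inj h).symm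
    have := hchar ht2
    obtain ⟨hcl, e, he, hconj⟩ := hact Lw a c hal (by rw [hLw]; exact hac)
    refine Known.transfer hk ha e he fun t ht => ?_
    have h1 := mul_mem (mul_mem (hxn r hxr) ht) (inv_mem (hxn r hxr))
    rw [mul_inv_rev, show ∀ x y z : GL D.Idx F, x * y * z * (y⁻¹ * x⁻¹) = x * (y * z * y⁻¹) * x⁻¹
      from fun x y z => by group, hconj, (C.commute_of_evenComm hrl hcl hcm 1 (e * t)).eq,
      mul_inv_cancel_right] at h1
    exact h1
  | 4 =>
    simp only [TwoGen.step] at h
    split at h
    · exact absurd h (by simp)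
    rename_i r hxr
    split at h
    swap
    · exact absurd h (by simp)
    rename_i hc
    simp only [Bool.and_eq_true, decide_eq_true_eq, beq_iff_eq] at hc
    obtain ⟨⟨⟨⟨⟨ht2, ha⟩, hal⟩, hrl⟩, hac⟩, hcm⟩ := hc
    obtain rfl := (Option.some.inj h).symm
    have := hchar ht2
    set c' : Fin D.nroots := C.wperm Lw.reverse ⟨a, hal⟩ with hc'
    have hval : c'.val = c := by
      rw [hc', C.wperm_val_actR, List.map_reverse, hLw]; exact hac
    have hback : actR D (Lw.map Fin.val) c = a := by
      rw [← hval, ← C.wperm_val_actR]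
      show (C.wperm Lw (C.wperm Lw.reverse ⟨a, hal⟩)).val = a
      rw [C.wperm_reverse, ← Equiv.Perm.mul_apply, mul_inv_cancel, Equiv.Perm.one_apply]
    obtain ⟨-, e, he, hconj⟩ := hact Lw c a (hval ▸ c'.isLt) hback
    refine Known.transfer hk ha e he fun t ht => ?_
    have h1 := mul_mem (mul_mem (inv_mem (hxn r hxr)) ht) (hxn r hxr)
    have h2 : (H52.rt D r (1 : F) * nw D F Lw)⁻¹ * H52.rt D a t * (H52.rt D r (1 : F) * nw D F Lw) =
        (nw D F Lw)⁻¹ * ((H52.rt D r (1 : F))⁻¹ * (H52.rt D a t * H52.rt D r (1 : F))) * nw D F Lw := by group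
    rw [h2, ← (C.commute_of_evenComm hrl hal hcm 1 t).eq, inv_mul_cancel_left] at h1
    have h3 := hconj (e * t)
    rw [← mul_assoc, he, one_mul] at h3
    rw [← h3] at h1
    simpa [mul_assoc] using h1
  | 5 =>
    simp only [TwoGen.step] at h
    split at h
    · exact absurd h (by simp)
    rename_i r hxr
    split at h
    swap
    · exact absurd h (by simp)
    rename_i hc
    simp only [Bool.and_eq_true, decide_eq_true_eq, bne_iff_ne, ne_eq] at hc
    obtain ⟨⟨⟨⟨⟨⟨ht2, ha⟩, hb⟩, hal⟩, hrl⟩, hyr⟩, hyn⟩ := hc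
    split at h
    swap
    · exact absurd h (by simp)
    rename_i x hfilt
    split at h
    swap
    · exact absurd h (by simp)
    rename_i hc2
    simp only [Bool.and_eq_true, Bool.or_eq_true, beq_iff_eq] at hc2
    obtain ⟨hxC, hbc⟩ := hc2
    obtain rfl := (Option.some.inj h).symm
    have := hchar ht2
    set y := actR D S.w a with hy
    obtain ⟨hyl, e, he, hconj⟩ := hact Lw a y hal (by rw [hLw])
    have heone : ∀ z : F, z ≠ 0 → z = 1 := fun z hz => (htwo ht2 z).resolve_left hz
    have h1 := mul_mem (mul_mem (hxn r hxr) (hone a ht2 ha)) (inv_mem (hxn r hxr))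
    rw [mul_inv_rev, show ∀ u y z : GL D.Idx F, u * y * z * (y⁻¹ * u⁻¹) = u * (y * z * y⁻¹) * u⁻¹
      from fun u y z => by group, hconj, mul_one, heone e (left_ne_zero_of_mul_eq_one he)] at h1
    have hw : H52.wordRt D (D.commWord F r y 1 1) = H52.rt D x.1 (1 : F) := by
      obtain ⟨A, B, hAB, hA, -, hB⟩ := List.filter_eq_cons_iff.1 hfilt
      have key : ∀ L : List (ℕ × ℤ × ℕ × ℕ), (∀ z ∈ L, z.2.1 % 2 = 0) →
          H52.wordRt D (L.map fun z => (z.1, (z.2.1 : F) * (-1 : F) ^ z.2.2.1 * (1 : F) ^ z.2.2.2)) = 1 := by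
        intro L hL
        rw [H52.wordRt, List.prod_eq_one]
        intro g hg
        simp only [List.mem_map] at hg
        obtain ⟨_, ⟨z, hz, rfl⟩, rfl⟩ := hg
        obtain ⟨m, hm⟩ := Int.dvd_of_emod_eq_zero (hL z hz)
        rw [hm, Int.cast_mul, show ((2 : ℤ) : F) = 0 by simp [CharTwo.two_eq_zero], zero_mul, zero_mul, zero_mul,
          C.hC.rt_zero]
      have kA := key A fun z hz => by simpa using hA z hz
      have kB := key B fun z hz => by simpa using List.filter_eq_nil_iff.1 hB z hz
      rw [ChevalleyDatum.commWord, hAB, List.map_append, List.map_cons]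
      simp only [H52.wordRt] at kA kB
      simp only [H52.wordRt, List.map_append, List.map_cons, List.prod_append, List.prod_cons, kA, kB, one_mul,
        mul_one]
      congr 1
      refine heone _ ?_
      rcases hxC with h | h <;> simp [h]
    have h2 := C.hC.comm_rt (F := F) hrl hyl hyr hyn 1 1
    rw [hw] at h2
    have hinv : (H52.rt D r (1 : F))⁻¹ = H52.rt D r (1 : F) := by rw [C.hC.rt_inv, CharTwo.neg_eq]
    have h3 : H52.rt D r (1 : F) * H52.rt D y (1 : F) * (H52.rt D r (1 : F))⁻¹ =
        H52.rt D y (1 : F) * H52.rt D x.1 (1 : F) := by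
      calc H52.rt D r (1 : F) * H52.rt D y (1 : F) * (H52.rt D r (1 : F))⁻¹
          = (H52.rt D r (1 : F))⁻¹ * (H52.rt D y (1 : F) * H52.rt D r (1 : F)) := by
            rw [hinv, mul_assoc]
        _ = _ := by rw [h2]; group
    rw [h3] at h1
    intro t
    rcases htwo ht2 t with rfl | rfl
    · rw [C.hC.rt_zero]; exact one_mem _
    rcases hbc with ⟨rfl, rfl⟩ | ⟨rfl, rfl⟩
    · have := mul_mem (inv_mem (hone _ ht2 hb)) h1
      rwa [inv_mul_cancel_left] at this
    · have := mul_mem h1 (inv_mem (hone _ ht2 hb))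
      rwa [mul_inv_cancel_right] at this
  | 7 =>
    simp only [TwoGen.step] at h
    split at h
    swap
    · exact absurd h (by simp)
    rename_i hc
    simp only [Bool.and_eq_true, Bool.or_eq_true, List.contains_iff_mem] at hc
    obtain ⟨⟨ht2, ha⟩, hp⟩ := hc
    obtain rfl := (Option.some.inj h).symm
    intro t
    rcases htwo ht2 t with rfl | rfl
    · rw [C.hC.rt_zero]; exact one_mem _
    rcases hp with hp | hp
    · have := mul_mem (inv_mem (hone a ht2 ha)) (hpairs _ hp)
      rwa [inv_mul_cancel_left] at this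
    · have := mul_mem (hpairs _ hp) (inv_mem (hone a ht2 ha))
      rwa [mul_inv_cancel_right] at this
  | 6 => exact absurd h (by simp [TwoGen.step])
  | _ + 8 => exact absurd h (by simp [TwoGen.step])

include C in
/-- Soundness of a certificate. -/
theorem le_of_check [Finite F] {H : Subgroup (GL D.Idx F)} {S : GenSpec} (Lw : List (Fin D.rank))
    (hLw : Lw.map Fin.val = S.w) (htwo : S.two = true → ∀ t : F, t = 0 ∨ t = 1)
    (hn : S.xr = none → nw D F Lw ∈ H)
    (hxn : ∀ r, S.xr = some r → H52.rt D r (1 : F) * nw D F Lw ∈ H)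
    (hpairs : ∀ p ∈ S.pairs, H52.rt D p.1 (1 : F) * H52.rt D p.2 (1 : F) ∈ H)
    {init : List (ℕ × Bool)} {L : List (ℕ × ℕ × ℕ × ℕ)} (hinit : ∀ q ∈ init, Known D H q)
    (hc : TwoGen.check D S init L = true) : D.group F ≤ H := by
  unfold TwoGen.check at hc
  split at hc
  swap
  · exact absurd hc (by simp)
  rename_i k hrun
  have hk : ∀ q ∈ k, Known D H q := by
    clear hc
    induction L generalizing init with
    | nil => simp only [TwoGen.run, Option.some.injEq] at hrun; subst hrun; exact hinit
    | cons s L ih =>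
      simp only [TwoGen.run] at hrun
      split at hrun
      · exact ih hinit hrun
      split at hrun
      swap
      · exact absurd hrun (by simp)
      rename_i q hq
      refine ih ?_ hrun
      intro q' hq'
      rcases List.mem_cons.1 hq' with rfl | h'
      · exact C.known_step Lw hLw htwo hn hxn hpairs hinit hq
      · exact hinit _ h'
  simp only [List.all_eq_true, List.mem_range, Bool.and_eq_true] at hc
  rw [group_eq_closure_simple C.hC]
  refine (Subgroup.closure_le _).2 ?_
  rintro g ⟨i, t, hi, rfl | rfl⟩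
  · exact Known.all hk (hc i hi).1 t
  · exact Known.all hk (hc i hi).2 t

end Ctx

end H54
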