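import Cfsg.Agent.H54.WeylLattice

/-!
Involutions of a Weyl group acting on its roots: each moves the root lattice inside the span of
pairwise orthogonal roots that it negates.
-/

set_option autoImplicit false
set_option linter.unusedSectionVars false

open Cfsg.Lie
open scoped Matrix

namespace H54

namespace Ctx

variable {D : ChevalleyDatum} (C : Ctx D)

/-- The pairing of a coroot and a root. -/
def pr (_C : Ctx D) (r s : Fin D.nroots) : ℤ := H52.pairInt D r.val s.val

theorem pr_sigma (i : Fin D.rank) (r s : Fin D.nroots) :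
    C.pr (C.W.sigma i r) (C.W.sigma i s) = C.pr r s := by
  rw [pr, pr, C.sigma_val, C.sigma_val]
  exact C.hC.pairInt_reflect i.isLt r.isLt s.isLt

theorem pr_wperm (L : List (Fin D.rank)) (r s : Fin D.nroots) :
    C.pr (C.wperm L r) (C.wperm L s) = C.pr r s := by
  induction L with
  | nil => rfl
  | cons i L ih => rw [wperm_cons, Equiv.Perm.mul_apply, Equiv.Perm.mul_apply, pr_sigma, ih]

/-- The pairing as a linear form on coefficient vectors. -/
def prForm (_C : Ctx D) (r : Fin D.nroots) : (Fin D.rank → ℤ) →ₗ[ℤ] ℤ :=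
  ∑ b : Fin D.rank, H52.pairInt D r.val (D.simple b.val) • LinearMap.proj b

theorem prForm_cvec (r s : Fin D.nroots) : C.prForm r (C.cvec s) = C.pr r s := by
  have h : ∀ m < D.rank, D.cartan m s.val =
      ∑ b : Fin D.rank, C.cvec s b * D.cartan m (D.simple b.val) := fun m hm => by
    rw [C.hC.cartan_eq s.isLt hm, Finset.sum_range]; rfl
  simp only [prForm, LinearMap.sum_apply, LinearMap.smul_apply, LinearMap.proj_apply, smul_eq_mul,
    pr, C.hC.pairInt_eq_sum, Finset.sum_range, Finset.sum_mul, h _ (Fin.isLt _), Finset.mul_sum]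
  rw [Finset.sum_comm]
  exact Finset.sum_congr rfl fun m _ => Finset.sum_congr rfl fun b _ => by ring

theorem pr_negF_right (r s : Fin D.nroots) : C.pr r (C.W.negF s) = - C.pr r s := by
  rw [← prForm_cvec, ← prForm_cvec, cvec_negF, map_neg]

theorem pr_negF_left (r s : Fin D.nroots) : C.pr (C.W.negF r) s = - C.pr r s := by
  show H52.pairInt D (D.neg r.val) s.val = - H52.pairInt D r.val s.val
  rw [C.hC.pairInt_eq_sum, C.hC.pairInt_eq_sum, ← Finset.sum_neg_distrib]
  exact Finset.sum_congr rfl fun m hm => by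
    rw [C.hC.crt_neg r.isLt (Finset.mem_range.1 hm)]; ring

theorem pr_self (r : Fin D.nroots) : C.pr r r = 2 := C.hC.pair_self r.isLt

theorem pr_simpleF (i : Fin D.rank) (s : Fin D.nroots) :
    C.pr (C.simpleF i) s = D.cartan i.val s.val := C.hC.pairInt_simple i.isLt s.val

theorem simpleF_eq (i : Fin D.rank) : C.W.data.simple i = C.simpleF i :=
  Fin.ext (C.W.simple_eq i)

theorem wperm_negF (L : List (Fin D.rank)) (s : Fin D.nroots) :
    C.wperm L (C.W.negF s) = C.W.negF (C.wperm L s) :=
  C.cvec_injective (by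
    rw [cvec_negF, ← wmat_mulVec, ← wmat_mulVec, cvec_negF, Matrix.mulVec_neg])

theorem wperm_foldr (L : List (Fin D.rank)) (s : Fin D.nroots) :
    C.wperm L s = L.foldr C.W.data.act s := by
  induction L with
  | nil => rfl
  | cons i L ih => rw [wperm_cons, Equiv.Perm.mul_apply, ih, List.foldr_cons]; rfl

theorem cvec_sigma (i : Fin D.rank) (s : Fin D.nroots) :
    C.cvec (C.W.sigma i s) = C.cvec s - D.cartan i.val s.val • C.cvec (C.simpleF i) := by
  funext j
  show C.T.co (C.W.sigma i s).val j.val = _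
  rw [C.sigma_val, C.hC.co_reflect i.isLt s.isLt j.isLt, C.cvec_simpleF]
  simp [cvec, Pi.single_apply, Fin.ext_iff]

/-- A root has a reflection in the Weyl group. -/
theorem exists_refl (γ : Fin D.nroots) :
    ∃ R : List (Fin D.rank), ∀ s, C.cvec (C.wperm R s) = C.cvec s - C.pr γ s • C.cvec γ := by
  have key : ∀ (L : List (Fin D.rank)) (i : Fin D.rank), ∃ R : List (Fin D.rank), ∀ s,
      C.cvec (C.wperm R s) = C.cvec s -
        C.pr (C.wperm L (C.simpleF i)) s • C.cvec (C.wperm L (C.simpleF i)) := by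
    intro L i
    refine ⟨L ++ i :: L.reverse, fun s => ?_⟩
    obtain ⟨u, rfl⟩ := (C.wperm L).surjective s
    rw [wperm_append, wperm_cons, wperm_reverse, Equiv.Perm.mul_apply, Equiv.Perm.mul_apply,
      Equiv.Perm.inv_def, Equiv.symm_apply_apply, ← wmat_mulVec, cvec_sigma, Matrix.mulVec_sub,
      Matrix.mulVec_smul, wmat_mulVec, wmat_mulVec, pr_wperm, pr_simpleF]
  obtain ⟨L, i, h | h⟩ := C.W.exists_word_simple γ
  · rw [simpleF_eq, ← C.wperm_foldr] at h
    subst h
    exact key L i
  · rw [simpleF_eq, ← C.wperm_foldr, C.wperm_negF] at h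
    subst h
    obtain ⟨R, hR⟩ := key L i
    exact ⟨R, fun s => by rw [hR, pr_negF_left, cvec_negF, neg_smul_neg]⟩

/-- A nontrivial involution negates a root. -/
theorem exists_negated : ∀ (L : List (Fin D.rank)), C.wperm L * C.wperm L = 1 → C.wperm L ≠ 1 →
    ∃ s, C.wperm L s = C.W.negF s := by
  classical
  intro L
  induction hn : (Finset.univ.filter fun s : Fin D.nroots =>
      D.nroots / 2 ≤ s.val ∧ ¬ D.nroots / 2 ≤ (C.wperm L s).val).card using Nat.strong_induction_on
    generalizing L with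
  | _ n ih =>
  intro h2 h1
  have hex : ∃ r : Fin D.nroots, D.nroots / 2 ≤ r.val ∧ ¬ D.nroots / 2 ≤ (C.wperm L r).val := by
    by_contra hc
    push Not at hc
    exact h1 (C.wperm_fix hc)
  obtain ⟨i, hi⟩ := C.W.descent (C.wperm_mem (F := ℚ) L) hex
  rw [simpleF_eq] at hi
  by_cases hp : C.wperm L (C.simpleF i) = C.W.negF (C.simpleF i)
  · exact ⟨_, hp⟩
  have hinv : ∀ s, C.wperm L (C.wperm L s) = s := fun s => by
    rw [← Equiv.Perm.mul_apply, h2]; rfl
  have hss : C.W.sigma i * C.W.sigma i = 1 :=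
    Equiv.ext fun s => C.W.valid.act_invol i s
  have hsim : ∀ s : Fin D.nroots, D.nroots / 2 ≤ s.val →
      ¬ D.nroots / 2 ≤ (C.W.sigma i s).val → s = C.simpleF i := fun s hs hs' => by
    rw [← simpleF_eq]
    exact H53.WeylData.neg_act C.W.valid i ((C.W.pos_eq s).2 hs) ((C.W.neg_iff _).2 hs')
  have hσp : C.W.sigma i (C.simpleF i) = C.W.negF (C.simpleF i) :=
    C.cvec_injective (by
      rw [cvec_sigma, cvec_negF, ← pr_simpleF, pr_self]; module)
  have hpos : D.nroots / 2 ≤ (C.simpleF i).val := C.hC.simple_pos i.isLt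
  set L' := [i] ++ L ++ [i] with hL'
  have hw' : C.wperm L' = C.W.sigma i * C.wperm L * C.W.sigma i := by
    simp [hL', wperm_append, wperm_cons, wperm_nil, mul_assoc]
  have h2' : C.wperm L' * C.wperm L' = 1 := by
    rw [hw', show ∀ a b : Equiv.Perm (Fin D.nroots), a * b * a * (a * b * a) =
      a * (b * (a * a) * b) * a from fun a b => by group, hss, mul_one, h2, mul_one, hss]
  -- the root `γ` with `L (simple i) = -γ`
  set γ := C.W.negF (C.wperm L (C.simpleF i)) with hγ
  have hγpos : D.nroots / 2 ≤ γ.val := (C.W.pos_negF _).2 hi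
  have hγne : γ ≠ C.simpleF i := fun e => hp (by rw [← e, hγ, C.W.negF_negF]; rw [hγ] at e; rw [e])
  have h1' : C.wperm L' ≠ 1 := fun e => by
    have : C.wperm L = 1 := by
      have := congrArg (fun x => C.W.sigma i * x * C.W.sigma i) e
      simp only [hw', show ∀ a b : Equiv.Perm (Fin D.nroots), a * (a * b * a) * a =
        (a * a) * b * (a * a) from fun a b => by group, hss, one_mul, mul_one] at this
      exact this
    exact h1 this
  suffices hlt : (Finset.univ.filter fun s : Fin D.nroots =>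
      D.nroots / 2 ≤ s.val ∧ ¬ D.nroots / 2 ≤ (C.wperm L' s).val).card < n by
    obtain ⟨s, hs⟩ := ih _ hlt L' rfl h2' h1'
    refine ⟨C.W.sigma i s, ?_⟩
    rw [hw', Equiv.Perm.mul_apply, Equiv.Perm.mul_apply] at hs
    have := congrArg (C.W.sigma i) hs
    rw [← Equiv.Perm.mul_apply (C.W.sigma i), hss, Equiv.Perm.one_apply] at this
    rw [this]
    exact C.W.act_negF i s
  rw [← hn]
  refine lt_of_le_of_lt (Finset.card_le_card_of_injOn (fun s => C.W.sigma i s)
    (t := (Finset.univ.filter fun s : Fin D.nroots =>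
      D.nroots / 2 ≤ s.val ∧ ¬ D.nroots / 2 ≤ (C.wperm L s).val).erase (C.simpleF i))
    (fun s hs => ?_) (fun a _ b _ h => (C.W.sigma i).injective h))
    (Finset.card_erase_lt_of_mem (Finset.mem_filter.2 ⟨Finset.mem_univ _, hpos, hi⟩))
  simp only [Finset.coe_filter, Finset.mem_univ, true_and, Set.mem_ofPred_eq] at hs
  obtain ⟨hsp, hsn⟩ := hs
  rw [hw', Equiv.Perm.mul_apply, Equiv.Perm.mul_apply] at hsn
  have hsne : s ≠ C.simpleF i := by
    rintro rfl
    rw [hσp, wperm_negF, ← hγ] at hsn
    exact hγne (hsim γ hγpos hsn)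
  have hσs : D.nroots / 2 ≤ (C.W.sigma i s).val := by
    by_contra hc; exact hsne (hsim s hsp hc)
  simp only [Finset.coe_erase, Finset.coe_filter, Finset.mem_univ, true_and, Set.mem_sdiff,
    Set.mem_singleton_iff, Set.mem_ofPred_eq]
  refine ⟨⟨hσs, fun hc => ?_⟩, fun e => ?_⟩
  · have := congrArg (C.wperm L) (hsim _ hc hsn)
    rw [hinv] at this
    rw [this] at hσs
    exact hi hσs
  · have := congrArg (C.W.sigma i) e
    rw [← Equiv.Perm.mul_apply, hss, Equiv.Perm.one_apply, hσp] at this
    rw [this] at hsp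
    exact (C.W.pos_negF _).1 hsp hpos

/-- An involution is undone by the reflections in at most `n - 1` orthogonal roots it negates, or it
negates `n` orthogonal positive roots. -/
theorem involution_cases (L : List (Fin D.rank)) (h2 : C.wperm L * C.wperm L = 1) (n : ℕ) :
    ∃ (Γ : List (Fin D.nroots)) (L' : List (Fin D.rank)),
      Γ.Pairwise (fun a b => C.pr a b = 0 ∧ C.pr b a = 0) ∧
      (∀ a ∈ Γ, D.nroots / 2 ≤ a.val) ∧
      C.wperm L' * C.wperm L' = 1 ∧ (∀ a ∈ Γ, C.wperm L' a = a) ∧
      (∀ a ∈ Γ, C.wperm L a = C.W.negF a) ∧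
      (∀ s, C.cvec (C.wperm L s) - C.cvec (C.wperm L' s) ∈
        Submodule.span ℤ (Set.range fun k : Fin Γ.length => C.cvec (Γ.get k))) ∧
      ((Γ.length < n ∧ C.wperm L' = 1) ∨ Γ.length = n) := by
  induction n with
  | zero =>
    exact ⟨[], L, List.Pairwise.nil, by simp, h2, by simp, by simp,
      fun s => by rw [sub_self]; exact zero_mem _, Or.inr rfl⟩
  | succ n ih =>
    obtain ⟨Γ, L', hpw, hpos, hinv, hfix, hneg, hspan, ⟨hlt, h1⟩ | hlen⟩ := ih
    · exact ⟨Γ, L', hpw, hpos, hinv, hfix, hneg, hspan, Or.inl ⟨by omega, h1⟩⟩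
    by_cases h1 : C.wperm L' = 1
    · exact ⟨Γ, L', hpw, hpos, hinv, hfix, hneg, hspan, Or.inl ⟨by omega, h1⟩⟩
    obtain ⟨δ, hδpos, hδ⟩ : ∃ δ : Fin D.nroots, D.nroots / 2 ≤ δ.val ∧
        C.wperm L' δ = C.W.negF δ := by
      obtain ⟨s, hs⟩ := C.exists_negated L' hinv h1
      by_cases hsp : D.nroots / 2 ≤ s.val
      · exact ⟨s, hsp, hs⟩
      · exact ⟨C.W.negF s, (C.W.pos_negF s).2 hsp, by rw [wperm_negF, hs]⟩
    obtain ⟨R, hR⟩ := C.exists_refl δ
    have horth : ∀ a ∈ Γ, C.pr δ a = 0 ∧ C.pr a δ = 0 := fun a ha => by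
      have e1 := C.pr_wperm L' δ a
      have e2 := C.pr_wperm L' a δ
      rw [hfix a ha, hδ, pr_negF_left] at e1
      rw [hfix a ha, hδ, pr_negF_right] at e2
      omega
    have hL' : ∀ s, C.wperm L' (C.wperm L' s) = s := fun s => by
      rw [← Equiv.Perm.mul_apply, hinv]; rfl
    have hRδ : C.wperm R δ = C.W.negF δ :=
      C.cvec_injective (by rw [hR, pr_self, cvec_negF]; module)
    have hcomm : ∀ s, C.wperm L' (C.wperm R s) = C.wperm R (C.wperm L' s) := by
      intro s
      apply C.cvec_injective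
      have hp : C.pr δ (C.wperm L' s) = - C.pr δ s := by
        rw [← C.pr_wperm L' δ (C.wperm L' s), hL', hδ, pr_negF_left]
      rw [← wmat_mulVec, hR, Matrix.mulVec_sub, Matrix.mulVec_smul, wmat_mulVec, wmat_mulVec, hR,
        hp, hδ, cvec_negF]
      module
    have hRR : ∀ s, C.wperm R (C.wperm R s) = s := by
      intro s
      apply C.cvec_injective
      have hp : C.pr δ (C.wperm R s) = - C.pr δ s := by
        rw [← prForm_cvec, hR, map_sub, map_smul, prForm_cvec, prForm_cvec, pr_self, smul_eq_mul]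
        ring
      rw [hR, hp, hR]
      module
    refine ⟨δ :: Γ, R ++ L', List.pairwise_cons.2 ⟨horth, hpw⟩, ?_, ?_, ?_, ?_, ?_,
      Or.inr (by simp [hlen])⟩
    · intro a ha
      rcases List.mem_cons.1 ha with rfl | ha
      exacts [hδpos, hpos a ha]
    · refine Equiv.ext fun s => ?_
      simp only [wperm_append, Equiv.Perm.mul_apply, Equiv.Perm.one_apply]
      rw [hcomm, hL', hRR]
    · intro a ha
      rw [wperm_append, Equiv.Perm.mul_apply]
      rcases List.mem_cons.1 ha with rfl | ha
      · rw [hδ, wperm_negF, hRδ, C.W.negF_negF]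
      · exact C.cvec_injective (by rw [hfix a ha, hR, (horth a ha).1, zero_smul, sub_zero])
    · intro a ha
      rcases List.mem_cons.1 ha with rfl | ha
      · apply C.cvec_injective
        have hmem := hspan a
        rw [hδ, cvec_negF, sub_neg_eq_add] at hmem
        obtain ⟨c, hc⟩ := (Submodule.mem_span_range_iff_exists_fun ℤ).1 hmem
        have hLL : ∀ t, C.wperm L (C.wperm L t) = t := fun t => by
          rw [← Equiv.Perm.mul_apply, h2]; rfl
        have hc0 : ∀ j, c j = 0 := by
          intro j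
          have hj : Γ.get j ∈ Γ := List.get_mem _ _
          have e := congrArg (C.prForm (Γ.get j)) hc
          rw [map_sum, map_add, prForm_cvec, prForm_cvec, (horth _ hj).2, add_zero,
            ← C.pr_wperm L (Γ.get j) (C.wperm L a), hLL, hneg _ hj, pr_negF_left,
            (horth _ hj).2, neg_zero, Finset.sum_eq_single j] at e
          · rw [map_smul, prForm_cvec, pr_self, smul_eq_mul] at e; omega
          · intro k _ hk
            rw [map_smul, prForm_cvec]
            rcases lt_or_gt_of_ne (Fin.val_ne_of_ne hk) with h | h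
            · simp [(List.pairwise_iff_getElem.1 hpw k.val j.val k.isLt j.isLt h).2]
            · simp [(List.pairwise_iff_getElem.1 hpw j.val k.val j.isLt k.isLt h).1]
          · simp
        simp only [hc0, zero_smul, Finset.sum_const_zero] at hc
        rw [cvec_negF]
        exact eq_neg_of_add_eq_zero_left hc.symm
      · exact hneg a ha
    · intro s
      have hsub : Submodule.span ℤ (Set.range fun k : Fin Γ.length => C.cvec (Γ.get k)) ≤
          Submodule.span ℤ (Set.range fun k : Fin (δ :: Γ).length => C.cvec ((δ :: Γ).get k)) := by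
        refine Submodule.span_mono ?_
        rintro _ ⟨k, rfl⟩
        exact ⟨k.succ, rfl⟩
      have hm : C.cvec δ ∈
          Submodule.span ℤ (Set.range fun k : Fin (δ :: Γ).length => C.cvec ((δ :: Γ).get k)) :=
        Submodule.subset_span ⟨⟨0, by simp⟩, rfl⟩
      rw [wperm_append, Equiv.Perm.mul_apply, hR, sub_sub_eq_add_sub, add_sub_right_comm]
      exact add_mem (hsub (hspan s)) (Submodule.smul_mem _ _ hm)

end Ctx

end H54
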